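import Mathlib

/-!
# The arithmetic of the primitive case
-/

set_option autoImplicit false
set_option linter.all false

namespace CfsgLib.RegOrbit

/-- A prime, tested by trial division. -/
def isPrimeB (s : ℕ) : Bool := decide (2 ≤ s) && (List.range s).all fun d => decide (d < 2) || decide (s % d ≠ 0)

theorem isPrimeB_iff {s : ℕ} : isPrimeB s = true ↔ s.Prime := by
  rw [Nat.prime_def_lt']
  simp only [isPrimeB, Bool.and_eq_true, decide_eq_true_eq, List.all_eq_true, List.mem_range,
    Bool.or_eq_true, ne_eq, ← Nat.dvd_iff_mod_eq_zero]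
  constructor
  · rintro ⟨h1, h2⟩
    exact ⟨h1, fun m hm hms h => (h2 m hms).elim (by omega) (fun h' => h' h)⟩
  · rintro ⟨h1, h2⟩
    exact ⟨h1, fun m hm => by
      by_cases h : m < 2
      · exact Or.inl h
      · exact Or.inr (h2 m (by omega) hm)⟩

/-- The multiplicity of `s` in `n`, up to eight. -/
def multB (s n : ℕ) : ℕ := (List.range 8).countP fun i => decide (n % s ^ (i + 1) = 0)

/-- The bound for the order of the image on a part. -/
def partBound (s a : ℕ) : ℕ :=
  if a = 1 then s * (s ^ 2 - 1) else if s = 2 ∧ a = 2 then 72 else if s = 3 ∧ a = 2 then 4608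
  else if s = 2 ∧ a = 3 then 1296 else (s ^ a) ^ 6

/-- The bound for the derived length of the image on a part. -/
def partDl (s a : ℕ) : ℕ :=
  if a = 1 then (if s = 2 then 2 else if s = 3 then 3 else 4)
  else if a = 2 then (if s = 2 then 3 else 5)
  else if s = 2 then (if a ≤ 5 then 6 else if a ≤ 7 then 7 else 100)
  else if a = 3 ∧ (s = 3 ∨ s = 5) then 6 else if a = 4 ∧ s = 3 then 8 else 100

/-- The primes of a number below `256`. -/
def primesB (n : ℕ) : List ℕ := (List.range (n + 1)).filter fun s => decide (n % s = 0) && isPrimeB s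

/-- The product of the part bounds. -/
def totalBound (n : ℕ) : ℕ := ((primesB n).map fun s => partBound s (multB s n)).prod

/-- The largest derived length of a part. -/
def totalDl (n : ℕ) : ℕ := ((primesB n).map fun s => partDl s (multB s n)).foldr max 0

theorem mem_primesB {n s : ℕ} (hn : 0 < n) : s ∈ primesB n ↔ s ∈ n.primeFactors := by
  rw [Nat.mem_primeFactors]
  simp only [primesB, List.mem_filter, List.mem_range, Bool.and_eq_true, decide_eq_true_eq,
    isPrimeB_iff, ← Nat.dvd_iff_mod_eq_zero]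
  exact ⟨fun h => ⟨h.2.2, h.2.1, hn.ne'⟩,
    fun h => ⟨by have := Nat.le_of_dvd hn h.2.1; omega, h.2.1, h.1⟩⟩

theorem primesB_toFinset {n : ℕ} (hn : 0 < n) : (primesB n).toFinset = n.primeFactors :=
  Finset.ext fun s => by rw [List.mem_toFinset, mem_primesB hn]

theorem multB_eq {n s a : ℕ} (hs : s.Prime) (hn : 0 < n) (h : n.factorization s = a) (ha : a ≤ 8) :
    multB s n = a := by
  have key : ∀ i, (decide (n % s ^ (i + 1) = 0)) = decide (i < a) := by
    intro i
    rw [decide_eq_decide, ← Nat.dvd_iff_mod_eq_zero, hs.pow_dvd_iff_le_factorization hn.ne', h]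
    omega
  rw [multB, List.countP_congr (q := fun i => decide (i < a)) (fun i _ => by rw [key])]
  have : ∀ a < 9, (List.range 8).countP (fun i => decide (i < a)) = a := by decide
  exact this a (by omega)

theorem partDl_le_total {n s : ℕ} (hs : s ∈ primesB n) : partDl s (multB s n) ≤ totalDl n := by
  have : ∀ l : List ℕ, ∀ x ∈ l, x ≤ l.foldr max 0 := by
    intro l
    induction l with
    | nil => simp
    | cons y t ih =>
      intro x hx
      rcases List.mem_cons.1 hx with rfl | hx
      · exact le_max_left _ _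
      · exact (ih x hx).trans (le_max_right _ _)
  exact this _ _ (List.mem_map_of_mem hs)

theorem totalBound_eq {n : ℕ} (hn : 0 < n) :
    totalBound n = ∏ s ∈ n.primeFactors, partBound s (multB s n) := by
  rw [totalBound, ← primesB_toFinset hn]
  exact (List.prod_toFinset (fun s => partBound s (multB s n))
    (show (primesB n).Nodup from (List.nodup_range (n := n + 1)).filter _)).symm

/-- The term for the vectors fixed inside `F`. -/
def fixTerm (E q : ℕ) : ℕ := E * E * q ^ (1 + (E + 1) / 2)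

/-- One of the three counting conditions. -/
def countCond (E q : ℕ) : Bool :=
  let B := totalBound E * (E * E) * q ^ 2
  (decide (totalDl E ≤ 5) && decide (2 * B + 1 < q ^ E)) ||
  (decide (totalDl E ≤ 6) && decide (2 * B + fixTerm E q < q ^ E)) ||
  (decide (totalDl E ≤ 8) && decide (4 * B + fixTerm E q < q ^ E))

/-- The cases treated apart. -/
def listed (E q : ℕ) : Bool :=
  (decide (E = 5) && (decide (q = 6) || decide (q = 11) || decide (q = 16))) || (decide (E = 7) && decide (q = 8)) ||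
  (decide (E = 8) && (decide (q = 3) || decide (q = 5) || decide (q = 7))) || (decide (E = 9) && decide (q = 4)) ||
  (decide (E = 16) && (decide (q = 3) || decide (q = 5)))

/-- The check of one case. -/
def caseCheck (E q : ℕ) : Bool :=
  decide (E < 2) || decide (totalDl E ≤ 3) || decide (q < 3) ||
    ((primesB E).any fun s => decide ((q - 1) % s ≠ 0) && decide (q < 32)) || countCond E q || listed E q

set_option maxRecDepth 10000 in
theorem caseCheck_all : (List.range 128).all (fun E => (List.range 33).all (caseCheck E)) = true := by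
  decide +kernel

theorem small_dl : ∀ E < 128, totalDl E ≤ 8 := by decide +kernel

theorem pow_scale {q r i E : ℕ} (hr : r ≤ q) (hi : i ≤ E) : q ^ i * r ^ E ≤ r ^ i * q ^ E := by
  obtain ⟨j, rfl⟩ := Nat.exists_eq_add_of_le hi
  rw [pow_add, pow_add]
  calc q ^ i * (r ^ i * r ^ j) = q ^ i * r ^ i * r ^ j := by ring
    _ ≤ q ^ i * r ^ i * q ^ j := Nat.mul_le_mul_left _ (Nat.pow_le_pow_left hr j)
    _ = _ := by ring

theorem cond_mono {A B q r E i j : ℕ} (hr : 0 < r) (hrq : r ≤ q) (hi : i ≤ E) (hj : j ≤ E)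
    (h : A * r ^ i + B * r ^ j < r ^ E) : A * q ^ i + B * q ^ j < q ^ E := by
  refine Nat.lt_of_mul_lt_mul_right (a := r ^ E) ?_
  calc (A * q ^ i + B * q ^ j) * r ^ E = A * (q ^ i * r ^ E) + B * (q ^ j * r ^ E) := by ring
    _ ≤ A * (r ^ i * q ^ E) + B * (r ^ j * q ^ E) :=
        Nat.add_le_add (Nat.mul_le_mul_left _ (pow_scale hrq hi)) (Nat.mul_le_mul_left _ (pow_scale hrq hj))
    _ = (A * r ^ i + B * r ^ j) * q ^ E := by ring
    _ < r ^ E * q ^ E := Nat.mul_lt_mul_of_pos_right h (pow_pos (hr.trans_le hrq) E)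
    _ = q ^ E * r ^ E := mul_comm _ _

theorem countCond_mono {E q r : ℕ} (hE : 2 ≤ E) (hr : 0 < r) (hrq : r ≤ q)
    (h : countCond E r = true) : countCond E q = true := by
  set B := totalBound E * (E * E)
  simp only [countCond, Bool.or_eq_true, Bool.and_eq_true, decide_eq_true_eq, fixTerm] at h ⊢
  have hj : 1 + (E + 1) / 2 ≤ E := by omega
  rcases h with (⟨h1, h2⟩ | ⟨h1, h2⟩) | ⟨h1, h2⟩
  · refine Or.inl (Or.inl ⟨h1, ?_⟩)
    have := cond_mono (A := 2 * B) (B := 1) (i := 2) (j := 0) hr hrq hE (Nat.zero_le E)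
      (by simpa [mul_assoc, B] using h2)
    simpa [mul_assoc, B] using this
  · refine Or.inl (Or.inr ⟨h1, ?_⟩)
    have := cond_mono (A := 2 * B) (B := E * E) (i := 2) (j := 1 + (E + 1) / 2) hr hrq hE hj
      (by simpa [mul_assoc, B] using h2)
    simpa [mul_assoc, B] using this
  · refine Or.inr ⟨h1, ?_⟩
    have := cond_mono (A := 4 * B) (B := E * E) (i := 2) (j := 1 + (E + 1) / 2) hr hrq hE hj
      (by simpa [mul_assoc, B] using h2)
    simpa [mul_assoc, B] using this

/-- The small cases: few parts, a counting condition, or a listed case. -/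
theorem small_cases {E q : ℕ} (hE : 2 ≤ E) (hE' : E < 128) (hq : 3 ≤ q)
    (hdvd : ∀ s ∈ primesB E, s ∣ q - 1) :
    totalDl E ≤ 3 ∨ countCond E q = true ∨ listed E q = true := by
  have hall := List.all_eq_true.1 caseCheck_all E (List.mem_range.2 hE')
  have key : ∀ r, r < 33 → 3 ≤ r → (32 ≤ r ∨ r = q) →
      totalDl E ≤ 3 ∨ countCond E r = true ∨ listed E r = true := by
    intro r hr h3 hor
    have h := List.all_eq_true.1 hall r (List.mem_range.2 hr)
    simp only [caseCheck, Bool.or_eq_true, decide_eq_true_eq] at h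
    rcases h with ((((h | h) | h) | h) | h) | h
    · omega
    · exact Or.inl h
    · omega
    · obtain ⟨s, hs, h⟩ := List.any_eq_true.1 h
      simp only [Bool.and_eq_true, decide_eq_true_eq] at h
      rcases hor with h32 | rfl
      · omega
      · exact absurd (Nat.dvd_iff_mod_eq_zero.1 (hdvd s hs)) h.1
    · exact Or.inr (Or.inl h)
    · exact Or.inr (Or.inr h)
  by_cases hq32 : q < 32
  · exact key q (by omega) hq (Or.inr rfl)
  · rcases key 32 (by omega) (by omega) (Or.inl le_rfl) with h | h | h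
    · exact Or.inl h
    · exact Or.inr (Or.inl (countCond_mono hE (by omega) (by omega) h))
    · simp [listed] at h

/-- The regular case. -/
theorem big_cond {n q : ℕ} (hn : 128 ≤ n) (hq : 4 ≤ q) : (5 * (q ^ 2 * n ^ 8)) ^ 4 < q ^ n := by
  have h4 : 5 ^ 4 * n ^ 32 * 4 ^ 8 < 4 ^ n := by
    induction n, hn using Nat.le_induction with
    | base => norm_num
    | succ n hn ih =>
      have h1 : (n + 1) ^ 32 * 128 ^ 32 ≤ n ^ 32 * 129 ^ 32 := by
        rw [← mul_pow, ← mul_pow]
        exact Nat.pow_le_pow_left (by omega) 32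
      have h2 : (129 : ℕ) ^ 32 ≤ 4 * 128 ^ 32 := by norm_num
      have h3 : (n + 1) ^ 32 ≤ 4 * n ^ 32 := by
        refine Nat.le_of_mul_le_mul_right (h1.trans ?_) (by positivity : 0 < 128 ^ 32)
        calc n ^ 32 * 129 ^ 32 ≤ n ^ 32 * (4 * 128 ^ 32) := Nat.mul_le_mul_left _ h2
          _ = 4 * n ^ 32 * 128 ^ 32 := by ring
      calc 5 ^ 4 * (n + 1) ^ 32 * 4 ^ 8 ≤ 5 ^ 4 * (4 * n ^ 32) * 4 ^ 8 :=
            Nat.mul_le_mul_right _ (Nat.mul_le_mul_left _ h3)
        _ = 4 * (5 ^ 4 * n ^ 32 * 4 ^ 8) := by ring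
        _ < 4 * 4 ^ n := by omega
        _ = 4 ^ (n + 1) := by ring
  have := cond_mono (A := 5 ^ 4 * n ^ 32) (B := 0) (i := 8) (j := 0) (by omega) hq (by omega)
    (Nat.zero_le n) (by simpa using h4)
  calc (5 * (q ^ 2 * n ^ 8)) ^ 4 = 5 ^ 4 * n ^ 32 * q ^ 8 + 0 * q ^ 0 := by ring
    _ < q ^ n := this

/-- The regular case over three elements. -/
theorem big_cond_three {n : ℕ} (hn : 256 ≤ n) : (5 * (3 ^ 2 * n ^ 8)) ^ 4 < 3 ^ n := by
  have h4 : 5 ^ 4 * 3 ^ 8 * n ^ 32 < 3 ^ n := by
    induction n, hn using Nat.le_induction with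
    | base => norm_num
    | succ n hn ih =>
      have h1 : (n + 1) ^ 32 * 256 ^ 32 ≤ n ^ 32 * 257 ^ 32 := by
        rw [← mul_pow, ← mul_pow]
        exact Nat.pow_le_pow_left (by omega) 32
      have h2 : (257 : ℕ) ^ 32 ≤ 3 * 256 ^ 32 := by norm_num
      have h3 : (n + 1) ^ 32 ≤ 3 * n ^ 32 := by
        refine Nat.le_of_mul_le_mul_right (h1.trans ?_) (by positivity : 0 < 256 ^ 32)
        calc n ^ 32 * 257 ^ 32 ≤ n ^ 32 * (3 * 256 ^ 32) := Nat.mul_le_mul_left _ h2
          _ = 3 * n ^ 32 * 256 ^ 32 := by ring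
      calc 5 ^ 4 * 3 ^ 8 * (n + 1) ^ 32 ≤ 5 ^ 4 * 3 ^ 8 * (3 * n ^ 32) := Nat.mul_le_mul_left _ h3
        _ = 3 * (5 ^ 4 * 3 ^ 8 * n ^ 32) := by ring
        _ < 3 * 3 ^ n := by omega
        _ = 3 ^ (n + 1) := by ring
  calc (5 * (3 ^ 2 * n ^ 8)) ^ 4 = 5 ^ 4 * 3 ^ 8 * n ^ 32 := by ring
    _ < 3 ^ n := h4

/-- The divisors built from prime powers. -/
def divList : List (ℕ × ℕ) → List ℕ
  | [] => [1]
  | (p, k) :: t => (divList t).flatMap fun d => (List.range (k + 1)).map fun i => d * p ^ i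

/-- The number built from prime powers. -/
def facProd : List (ℕ × ℕ) → ℕ
  | [] => 1
  | (p, k) :: t => p ^ k * facProd t

theorem mem_divList : ∀ (l : List (ℕ × ℕ)), (∀ x ∈ l, x.1.Prime) → ∀ a, a ∣ facProd l → a ∈ divList l
  | [], _, a, ha => by simp [facProd] at ha; simp [divList, ha]
  | (p, k) :: t, hl, a, ha => by
    obtain ⟨y, z, hy, hz, rfl⟩ := (Nat.dvd_mul).1 (show a ∣ p ^ k * facProd t from ha)
    obtain ⟨i, hi, rfl⟩ := (Nat.dvd_prime_pow (hl (p, k) (by simp))).1 hy
    rw [divList, List.mem_flatMap]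
    exact ⟨z, mem_divList t (fun x hx => hl x (by simp [hx])) z hz,
      List.mem_map.2 ⟨i, List.mem_range.2 (by omega), mul_comm _ _⟩⟩

/-- `N` is neither a divisor nor the sum of two. -/
def noSum (l : List (ℕ × ℕ)) (N : ℕ) : Bool :=
  decide (facProd l % N ≠ 0) && (l.all fun x => isPrimeB x.1) &&
    (divList l).all fun d => decide (N ≤ d) || decide (facProd l % (N - d) ≠ 0)

theorem noSum_one {l : List (ℕ × ℕ)} {N : ℕ} (h : noSum l N = true) : ¬ N ∣ facProd l := fun h' => by
  simp only [noSum, Bool.and_eq_true, decide_eq_true_eq] at h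
  exact h.1.1 (Nat.dvd_iff_mod_eq_zero.1 h')

theorem noSum_two {l : List (ℕ × ℕ)} {N : ℕ} (h : noSum l N = true) {a : ℕ} (ha : a ∣ facProd l)
    (haN : a < N) : ¬ N - a ∣ facProd l := fun h' => by
  simp only [noSum, Bool.and_eq_true, List.all_eq_true] at h
  have := h.2 a (mem_divList l (fun x hx => isPrimeB_iff.1 (h.1.2 x hx)) a ha)
  simp only [Bool.or_eq_true, decide_eq_true_eq] at this
  rcases this with h1 | h1
  · omega
  · exact h1 (Nat.dvd_iff_mod_eq_zero.1 h')

/-- A multiple of `2 · 64 · |GL(6, 2)|`. -/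
def facEightThree : List (ℕ × ℕ) := [(2, 22), (3, 4), (5, 1), (7, 2), (31, 1)]

/-- A multiple of `4 · 64 · |GL(6, 2)|`. -/
def facEightFive : List (ℕ × ℕ) := [(2, 23), (3, 4), (5, 1), (7, 2), (31, 1)]

/-- A multiple of the orders with smooth image. -/
def facSmooth : List (ℕ × ℕ) := [(2, 27), (3, 10)]

/-- A multiple of `2 · 3 · 81 · |GL(4, 3)|`. -/
def facNineFour : List (ℕ × ℕ) := [(2, 10), (3, 11), (5, 1), (13, 1)]

/-- A multiple of `2 · 256 · |GL(8, 2)|`. -/
def facSixteen : List (ℕ × ℕ) := [(2, 37), (3, 5), (5, 2), (7, 2), (17, 1), (31, 1), (127, 1)]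

theorem facs_val : facProd facEightThree = 2 * 64 * 20158709760 ∧ facProd facEightFive = 4 * 64 * 20158709760 ∧
    facProd facSmooth = 2 * 64 * (2 ^ 20 * 3 ^ 10) ∧ facProd facNineFour = 2 * 81 * 24261120 * 3 ∧
    facProd facSixteen = 2 * 256 * 5348063769211699200 := by decide +kernel

theorem nosum_eightThree : ∀ e < 12, 8 ≤ e → facProd facEightThree % (3 ^ e - 1) ≠ 0 := by decide +kernel

theorem nosum_smooth : ∀ e < 12, 8 ≤ e → noSum facSmooth (3 ^ e - 1) = true := by decide +kernel

theorem nosum_eightFive : noSum facEightFive (5 ^ 8 - 1) = true := by decide +kernel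

theorem nosum_nineFour : ∀ e < 12, 9 ≤ e → noSum facNineFour (4 ^ e - 1) = true := by decide +kernel

set_option maxRecDepth 40000 in
theorem nosum_sixteen : ∀ e < 22, 16 ≤ e → noSum facSixteen (3 ^ e - 1) = true := by decide +kernel

end CfsgLib.RegOrbit
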