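import Mathlib

/-!
# The derived series of a subgroup, inside the group, and its action
-/

set_option autoImplicit false
set_option linter.all false

namespace CfsgLib.RegOrbit

open MulAction
open scoped commutatorElement

variable {G : Type*} [Group G]

/-- The derived series of a subgroup, as subgroups of the whole group. -/
def dser (H : Subgroup G) : ℕ → Subgroup G
  | 0 => H
  | n + 1 => ⁅dser H n, dser H n⁆

theorem dser_zero (H : Subgroup G) : dser H 0 = H := rfl

theorem dser_succ (H : Subgroup G) (n : ℕ) : dser H (n + 1) = ⁅dser H n, dser H n⁆ := rfl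

theorem dser_mono {H K : Subgroup G} (h : H ≤ K) : ∀ n, dser H n ≤ dser K n
  | 0 => h
  | n + 1 => Subgroup.commutator_mono (dser_mono h n) (dser_mono h n)

theorem dser_le (H : Subgroup G) : ∀ n, dser H n ≤ H
  | 0 => le_rfl
  | n + 1 => (Subgroup.commutator_mono (dser_le H n) (dser_le H n)).trans (Subgroup.commutator_le_self H)

theorem dser_anti (H : Subgroup G) {m n : ℕ} (h : m ≤ n) : dser H n ≤ dser H m := by
  induction n, h using Nat.le_induction with
  | base => exact le_rfl
  | succ n hmn ih => exact (Subgroup.commutator_le_self _).trans ih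

theorem dser_add (H : Subgroup G) (m : ℕ) : ∀ n, dser H (m + n) = dser (dser H m) n
  | 0 => rfl
  | n + 1 => by rw [← add_assoc, dser_succ, dser_succ, dser_add H m n]

theorem map_dser {Q : Type*} [Group Q] (f : G →* Q) (H : Subgroup G) :
    ∀ n, (dser H n).map f = dser (H.map f) n
  | 0 => rfl
  | n + 1 => by rw [dser_succ, dser_succ, Subgroup.map_commutator, map_dser f H n]

theorem dser_bot : ∀ n, dser (⊥ : Subgroup G) n = ⊥ := fun n => le_bot_iff.1 (dser_le ⊥ n)

theorem map_subtype_derivedSeries (H : Subgroup G) :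
    ∀ n, (derivedSeries H n).map H.subtype = dser H n
  | 0 => by rw [derivedSeries_zero, ← MonoidHom.range_eq_map, Subgroup.range_subtype]; rfl
  | n + 1 => by
    rw [derivedSeries_succ, Subgroup.map_commutator, map_subtype_derivedSeries H n]; rfl

/-- Extensions: a bound on the image and a bound on the part in the kernel. -/
theorem dser_add_le {Q : Type*} [Group Q] (f : G →* Q) (H K : Subgroup G) {a b : ℕ}
    (hb : dser (H.map f) b = ⊥) (ha : dser (H ⊓ f.ker) a ≤ K) : dser H (b + a) ≤ K := by
  rw [dser_add]
  refine (dser_mono (le_inf (dser_le H b) ?_) a).trans ha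
  rw [← Subgroup.map_eq_bot_iff, map_dser, hb]

theorem dser_one_bot_of_comm {H : Subgroup G} (h : ∀ a ∈ H, ∀ b ∈ H, a * b = b * a) :
    dser H 1 = ⊥ := by
  rw [dser_succ, dser_zero, Subgroup.commutator_eq_bot_iff_le_centralizer]
  exact fun a ha => Subgroup.mem_centralizer_iff.2 fun b hb => h b hb a ha

/-- A bound on the derived length passes to an injective preimage. -/
theorem dser_eq_bot_of_map {Q : Type*} [Group Q] (f : G →* Q) (H : Subgroup G)
    (hinj : ∀ g ∈ H, f g = 1 → g = 1) {n : ℕ} (h : dser (H.map f) n = ⊥) : dser H n = ⊥ := by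
  have := dser_add_le f H ⊥ (a := 0) h (le_of_eq ?_)
  · exact le_bot_iff.1 this
  · rw [dser_zero, Subgroup.eq_bot_iff_forall]
    exact fun g hg => hinj g hg.1 hg.2

section Action

variable {V : Type*} [MulAction G V]

/-- The subgroup acting trivially. -/
def actKer (G V : Type*) [Group G] [MulAction G V] : Subgroup G := (MulAction.toPermHom G V).ker

theorem mem_actKer {g : G} : g ∈ actKer G V ↔ ∀ v : V, g • v = v := by
  rw [actKer, MonoidHom.mem_ker, Equiv.ext_iff]
  rfl

/-- The image of the subgroup on `V` has derived length at most `d`. -/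
def DL (V : Type*) [MulAction G V] (H : Subgroup G) (d : ℕ) : Prop :=
  ∀ g ∈ dser H d, ∀ v : V, g • v = v

theorem DL.mono {H K : Subgroup G} {d e : ℕ} (h : DL V H d) (hK : K ≤ H) (he : d ≤ e) : DL V K e :=
  fun g hg => h g (dser_mono hK d (dser_anti K he hg))

theorem DL.of_le {H : Subgroup G} {d e : ℕ} (h : DL V H d) (he : d ≤ e) : DL V H e :=
  h.mono le_rfl he

theorem derivedSeries_eq_bot [FaithfulSMul G V] {H : Subgroup G} {d : ℕ} (h : DL V H d) :
    derivedSeries H d = ⊥ := by
  refine (Subgroup.eq_bot_iff_forall _).2 fun g hg => Subtype.ext ?_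
  have h1 : (g : G) ∈ dser H d := by
    rw [← map_subtype_derivedSeries]; exact ⟨g, hg, rfl⟩
  exact FaithfulSMul.eq_of_smul_eq_smul (α := V) fun v => by rw [h _ h1 v]; exact (one_smul G v).symm

end Action

end CfsgLib.RegOrbit
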