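import Mathlib
import Cfsg.Agent.Lib.RegOrbit.SmallDerived.Dser
import Cfsg.Agent.Lib.Perm.ExtremelyPrimitiveSolvable

/-!
# Derived lengths of soluble permutation groups on at most seven points
-/

set_option autoImplicit false
set_option linter.all false

namespace CfsgLib.RegOrbit

open MulAction
open scoped commutatorElement

universe u v

section Transport

variable {G : Type*} [Group G] {α β : Type*} [MulAction G α]

/-- A homomorphism to permutations, faithful enough, bounds the action. -/
theorem DL.of_hom (φ : G →* Equiv.Perm β) {H : Subgroup G} {d : ℕ}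
    (h : dser (H.map φ) d = ⊥) (hker : ∀ g ∈ H, φ g = 1 → ∀ a : α, g • a = a) : DL α H d := by
  intro g hg a
  refine hker g (dser_le H d hg) ?_ a
  have : φ g ∈ (dser H d).map φ := ⟨g, hg, rfl⟩
  rw [map_dser, h] at this
  exact Subgroup.mem_bot.1 this

theorem dser_toPermHom {H : Subgroup G} {d : ℕ} (h : DL α H d) :
    dser (H.map (MulAction.toPermHom G α)) d = ⊥ := by
  rw [← map_dser, Subgroup.map_eq_bot_iff]
  exact fun g hg => Equiv.ext (h g hg)

end Transport

theorem perm_four_dser : dser (⊤ : Subgroup (Equiv.Perm (Fin 4))) 3 = ⊥ := by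
  let V : Subgroup (Equiv.Perm (Fin 4)) :=
    { carrier := {g | g * g = 1 ∧ Equiv.Perm.sign g = 1}
      one_mem' := by simp
      mul_mem' := fun {a b} ha hb => (show ∀ a b : Equiv.Perm (Fin 4), a * a = 1 ∧ Equiv.Perm.sign a = 1 →
        b * b = 1 ∧ Equiv.Perm.sign b = 1 → a * b * (a * b) = 1 ∧ Equiv.Perm.sign (a * b) = 1 by
          decide +kernel) a b ha hb
      inv_mem' := fun {a} ha => by
        have : a⁻¹ = a := inv_eq_of_mul_eq_one_right ha.1
        rw [this]; exact ha }
  have h1 : dser (⊤ : Subgroup (Equiv.Perm (Fin 4))) 1 ≤ Equiv.Perm.sign.ker := by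
    rw [dser_succ, dser_zero, Subgroup.commutator_le]
    intro a _ b _
    rw [MonoidHom.mem_ker, map_commutatorElement, commutatorElement_eq_one_iff_mul_comm, mul_comm]
  have h2 : dser (⊤ : Subgroup (Equiv.Perm (Fin 4))) 2 ≤ V := by
    rw [dser_succ, Subgroup.commutator_le]
    exact fun a ha b hb => (show ∀ a b : Equiv.Perm (Fin 4), Equiv.Perm.sign a = 1 →
      Equiv.Perm.sign b = 1 → ⁅a, b⁆ * ⁅a, b⁆ = 1 ∧ Equiv.Perm.sign ⁅a, b⁆ = 1 by decide +kernel)
      a b (h1 ha) (h1 hb)
  rw [dser_succ, Subgroup.commutator_eq_bot_iff_le_centralizer]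
  exact fun a ha => Subgroup.mem_centralizer_iff.2 fun b hb =>
    (show ∀ a b : Equiv.Perm (Fin 4), a * a = 1 ∧ Equiv.Perm.sign a = 1 →
      b * b = 1 ∧ Equiv.Perm.sign b = 1 → b * a = a * b by decide +kernel) a b (h2 ha) (h2 hb)

theorem perm_three_dser : dser (⊤ : Subgroup (Equiv.Perm (Fin 3))) 2 = ⊥ := by
  have h1 : dser (⊤ : Subgroup (Equiv.Perm (Fin 3))) 1 ≤ Equiv.Perm.sign.ker := by
    rw [dser_succ, dser_zero, Subgroup.commutator_le]
    intro a _ b _
    rw [MonoidHom.mem_ker, map_commutatorElement, commutatorElement_eq_one_iff_mul_comm, mul_comm]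
  rw [dser_succ, Subgroup.commutator_eq_bot_iff_le_centralizer]
  exact fun a ha => Subgroup.mem_centralizer_iff.2 fun b hb =>
    (show ∀ a b : Equiv.Perm (Fin 3), Equiv.Perm.sign a = 1 → Equiv.Perm.sign b = 1 →
      b * a = a * b by decide +kernel) a b (h1 ha) (h1 hb)

theorem perm_two_dser : dser (⊤ : Subgroup (Equiv.Perm (Fin 2))) 1 = ⊥ :=
  dser_one_bot_of_comm fun a _ b _ =>
    (show ∀ a b : Equiv.Perm (Fin 2), a * b = b * a by decide +kernel) a b

/-- The bound for at most `n` points. -/
def smallBound (n : ℕ) : ℕ := if n ≤ 1 then 0 else if n = 2 then 1 else if n = 3 then 2 else 3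

theorem smallBound_mono {m n : ℕ} (h : m ≤ n) : smallBound m ≤ smallBound n := by
  unfold smallBound
  split_ifs <;> omega

theorem DL_of_card_le_four {G : Type u} [Group G] {α : Type v} [MulAction G α] [Finite α]
    (h : Nat.card α ≤ 4) (H : Subgroup G) : DL α H (smallBound (Nat.card α)) := by
  classical
  haveI := Fintype.ofFinite α
  let e : α ≃ Fin (Nat.card α) := Finite.equivFin α
  let φ : G →* Equiv.Perm (Fin (Nat.card α)) :=
    e.permCongrHom.toMonoidHom.comp (MulAction.toPermHom G α)
  refine DL.of_hom φ (le_bot_iff.1 ((dser_mono le_top _).trans (le_of_eq ?_))) fun g _ hg a => ?_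
  · generalize Nat.card α = n at h
    interval_cases n
    · exact (Subgroup.eq_bot_iff_forall _).2 fun g _ => Subsingleton.elim _ _
    · exact (Subgroup.eq_bot_iff_forall _).2 fun g _ => Subsingleton.elim _ _
    · exact perm_two_dser
    · exact perm_three_dser
    · exact perm_four_dser
  · have h1 : MulAction.toPermHom G α g = 1 := by
      apply e.permCongrHom.injective
      rw [map_one]; exact hg
    exact Equiv.ext_iff.1 h1 a

/-- A primitive soluble group of prime degree is metabelian. -/
theorem DL_two_of_primitive_prime {G : Type u} [Group G] [Finite G] [Group.IsSolvable G]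
    {α : Type v} [MulAction G α] [Finite α] [hprim : IsPreprimitive G α] (hp : (Nat.card α).Prime)
    (H : Subgroup G) : DL α H 2 := by
  classical
  set φ := MulAction.toPermHom G α
  let T := φ.range
  have hTprim : IsPreprimitive T α := by
    let f : α →ₑ[φ.rangeRestrict] α := ⟨id, fun g x => rfl⟩
    exact IsPreprimitive.of_surjective (f := f) Function.surjective_id
  haveI : Group.IsSolvable T :=
    Group.isSolvable_of_surjective (f := φ.rangeRestrict) φ.rangeRestrict_surjective
  haveI : Nontrivial α := Finite.one_lt_card_iff_nontrivial.1 hp.one_lt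
  haveI : Nontrivial T := by
    obtain ⟨x, y, hxy⟩ := exists_pair_ne α
    haveI := hTprim
    obtain ⟨g, hg⟩ := exists_smul_eq T x y
    exact ⟨g, 1, fun e => hxy (by rw [← hg, e, one_smul])⟩
  obtain ⟨a⟩ := (inferInstance : Nonempty α)
  obtain ⟨N, hNn, hN1, hNc, -, hbij, -, -⟩ :=
    CfsgLib.Perm.ExtremelyPrimitive.exists_regular_normal hTprim a
  haveI := hNn
  haveI : Fact (Nat.card α).Prime := ⟨hp⟩
  haveI : IsCyclic N := isCyclic_of_prime_card (p := Nat.card α)
    (Nat.card_congr (Equiv.ofBijective _ hbij))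
  have hab : ∀ x y : MulAut N, x * y = y * x := fun x y => by
    apply (IsCyclic.mulAutMulEquiv N).injective
    rw [map_mul, map_mul, mul_comm]
  have h1 : dser (⊤ : Subgroup T) 1 ≤ (MulAut.conjNormal (H := N)).ker := by
    rw [dser_succ, dser_zero, Subgroup.commutator_le]
    intro x _ y _
    rw [MonoidHom.mem_ker, map_commutatorElement, commutatorElement_eq_one_iff_mul_comm]
    exact hab _ _
  have h2 : (MulAut.conjNormal (H := N)).ker ≤ N := by
    intro t ht
    obtain ⟨n, hn⟩ := hbij.2 (t • a)
    have hcomm : ∀ m : N, t * (m : T) = (m : T) * t := fun m => by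
      have := congrArg Subtype.val (MulEquiv.ext_iff.1 (MonoidHom.mem_ker.1 ht) m)
      simpa [MulAut.conjNormal_apply, mul_inv_eq_iff_eq_mul] using this
    have : t = (n : T) := FaithfulSMul.eq_of_smul_eq_smul (α := α) fun b => by
      obtain ⟨m, rfl⟩ := hbij.2 b
      show t • (m : T) • a = (n : T) • (m : T) • a
      rw [smul_smul, smul_smul, hcomm, show (n : T) * m = m * n from
        congrArg Subtype.val (hNc.is_comm.comm n m), mul_smul, mul_smul]
      exact congrArg _ hn.symm
    rw [this]; exact n.2
  have h3 : dser (⊤ : Subgroup T) 2 = ⊥ := by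
    rw [dser_succ, Subgroup.commutator_eq_bot_iff_le_centralizer]
    exact fun x hx => Subgroup.mem_centralizer_iff.2 fun y hy =>
      congrArg Subtype.val (hNc.is_comm.comm ⟨y, h2 (h1 hy)⟩ ⟨x, h2 (h1 hx)⟩)
  intro g hg b
  have : φ.rangeRestrict g ∈ (dser H 2).map φ.rangeRestrict := ⟨g, hg, rfl⟩
  rw [map_dser] at this
  have h4 := h3 ▸ dser_mono le_top 2 this
  exact Equiv.ext_iff.1 (congrArg Subtype.val (Subgroup.mem_bot.1 h4)) b

/-- Blocks: a bound on the blocks and a bound inside each. -/
theorem DL_of_fibres {G : Type*} [Group G] {α Q : Type*} [MulAction G α] [MulAction G Q] (q : α → Q)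
    (hq : ∀ (g : G) (x : α), q (g • x) = g • q x) (H : Subgroup G) {a b : ℕ} (hb : DL Q H b)
    (ha : ∀ (X : Subgroup G), X ≤ H → (∀ g ∈ X, ∀ y : Q, g • y = y) →
      ∀ g ∈ dser X a, ∀ x : α, g • x = x) : DL α H (b + a) := by
  intro g hg x
  have h := dser_add_le (MulAction.toPermHom G Q) H (actKer G α) (dser_toPermHom hb)
    (fun k hk => mem_actKer.2 (ha _ inf_le_left
      (fun t ht y => Equiv.ext_iff.1 (MonoidHom.mem_ker.1 ht.2) y) k hk))
  exact mem_actKer.1 (h hg) x

/-- A soluble group on at most seven points has derived length at most three there. -/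
theorem DL_of_card_le_seven : ∀ (n : ℕ) {G : Type u} [Group G] [Finite G] [Group.IsSolvable G]
    {α : Type v} [MulAction G α] [Finite α], Nat.card α = n → n ≤ 7 →
    ∀ H : Subgroup G, DL α H (smallBound n) := by
  intro n
  induction n using Nat.strong_induction_on with
  | _ n ih =>
  intro G _ _ _ α _ _ hn h7 H
  classical
  by_cases h4 : n ≤ 4
  · exact hn ▸ DL_of_card_le_four (hn ▸ h4) H
  have hb3 : smallBound n = 3 := by unfold smallBound; split_ifs <;> omega
  rw [hb3]
  haveI : Nonempty α := (Nat.card_pos_iff.1 (by omega)).1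
  by_cases htr : IsPretransitive G α
  · haveI := htr
    obtain ⟨a⟩ := (inferInstance : Nonempty α)
    haveI : Nontrivial α := Finite.one_lt_card_iff_nontrivial.1 (by omega)
    by_cases hmax : IsCoatom (stabilizer G a)
    · haveI hprim : IsPreprimitive G α := (isCoatom_stabilizer_iff_preprimitive G a).1 hmax
      by_cases hpr : n.Prime
      · exact (DL_two_of_primitive_prime (hn ▸ hpr) H).of_le (by omega)
      · exfalso
        have hn6 : n = 6 := by
          interval_cases n <;> first | rfl | (exact absurd (by norm_num) hpr)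
        set φ := MulAction.toPermHom G α
        have hTprim : IsPreprimitive φ.range α := by
          let f : α →ₑ[φ.rangeRestrict] α := ⟨id, fun g x => rfl⟩
          exact IsPreprimitive.of_surjective (f := f) Function.surjective_id
        haveI : Group.IsSolvable φ.range :=
          Group.isSolvable_of_surjective (f := φ.rangeRestrict) φ.rangeRestrict_surjective
        haveI : Nontrivial φ.range := by
          obtain ⟨x, y, hxy⟩ := exists_pair_ne α
          haveI := hTprim
          obtain ⟨g, hg⟩ := exists_smul_eq φ.range x y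
          exact ⟨g, 1, fun e => hxy (by rw [← hg, e, one_smul])⟩
        obtain ⟨N, hNn, hN1, -, ⟨r, hr, hpg, -⟩, hbij, -, -⟩ :=
          CfsgLib.Perm.ExtremelyPrimitive.exists_regular_normal hTprim a
        haveI := Fact.mk hr
        obtain ⟨k, hk⟩ := hpg.exists_card_eq
        rw [Nat.card_congr (Equiv.ofBijective _ hbij), hn, hn6] at hk
        have h2 : (2 : ℕ) ∣ r ^ k := ⟨3, hk.symm⟩
        have h3 : (3 : ℕ) ∣ r ^ k := ⟨2, hk.symm⟩
        have e2 := (Nat.prime_dvd_prime_iff_eq Nat.prime_two hr).1 (Nat.prime_two.dvd_of_dvd_pow h2)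
        have e3 := (Nat.prime_dvd_prime_iff_eq Nat.prime_three hr).1 (Nat.prime_three.dvd_of_dvd_pow h3)
        omega
    · obtain ⟨K, hK, hKtop⟩ : ∃ K : Subgroup G, stabilizer G a < K ∧ K ≠ ⊤ := by
        by_contra h
        push Not at h
        refine hmax ⟨fun e => ?_, fun K hK => h K hK⟩
        obtain ⟨b, hb⟩ := exists_ne a
        obtain ⟨g, hg⟩ := exists_smul_eq G a b
        exact hb (hg.symm.trans (mem_stabilizer_iff.1 (e ▸ Subgroup.mem_top g)))
      choose t ht using fun i : α => exists_smul_eq G a i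
      let q : α → G ⧸ K := fun i => (t i : G ⧸ K)
      have hqeq : ∀ (g : G) i, q (g • i) = g • q i := fun g i => by
        show ((t (g • i) : G) : G ⧸ K) = ((g * t i : G) : G ⧸ K)
        refine QuotientGroup.eq.2 (hK.le ?_)
        rw [mem_stabilizer_iff, mul_smul, mul_smul, ht, inv_smul_eq_iff, ht]
      have hsurj : Function.Surjective q := fun y => by
        obtain ⟨g, rfl⟩ := QuotientGroup.mk_surjective y
        refine ⟨g • a, QuotientGroup.eq.2 (hK.le ?_)⟩
        rw [mem_stabilizer_iff, mul_smul, inv_smul_eq_iff, ht]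
      haveI : Finite (G ⧸ K) := Finite.of_surjective q hsurj
      haveI : Fintype α := Fintype.ofFinite α
      haveI : Fintype (G ⧸ K) := Fintype.ofFinite _
      have hfib : ∀ y : G ⧸ K, Nat.card {x // q x = y} = Nat.card {x // q x = q a} := fun y => by
        obtain ⟨x, rfl⟩ := hsurj y
        obtain ⟨g, hg⟩ := exists_smul_eq G a x
        refine Nat.card_congr ⟨fun z => ⟨g⁻¹ • z.1, ?_⟩, fun z => ⟨g • z.1, ?_⟩,
          fun z => Subtype.ext (smul_inv_smul g _), fun z => Subtype.ext (inv_smul_smul g _)⟩
        · rw [hqeq, z.2, ← hqeq, ← hg, inv_smul_smul]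
        · rw [hqeq, z.2, ← hqeq, hg]
      have hprod : Nat.card (G ⧸ K) * Nat.card {x // q x = q a} = n := by
        rw [← hn, ← Nat.card_congr (Equiv.sigmaFiberEquiv q), Nat.card_sigma,
          Finset.sum_congr rfl (fun y _ => hfib y), Finset.sum_const, smul_eq_mul, Finset.card_univ,
          Nat.card_eq_fintype_card]
      have hQ1 : 2 ≤ Nat.card (G ⧸ K) := by
        rw [← Subgroup.index_eq_card]
        have h0 : K.index ≠ 0 := Subgroup.index_ne_zero_of_finite
        have h1 : K.index ≠ 1 := fun e => hKtop (Subgroup.index_eq_one.1 e)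
        omega
      have hF1 : 2 ≤ Nat.card {x // q x = q a} := by
        obtain ⟨g, hgK, hg⟩ := SetLike.exists_of_lt hK
        refine Finite.one_lt_card_iff_nontrivial.2 ⟨⟨a, rfl⟩, ⟨g • a, ?_⟩, fun e => hg ?_⟩
        · show ((t (g • a) : G) : G ⧸ K) = ((t a : G) : G ⧸ K)
          refine QuotientGroup.eq.2 ?_
          have h1 : (g * t a)⁻¹ * t (g • a) ∈ stabilizer G a := by
            rw [mem_stabilizer_iff, mul_smul, inv_smul_eq_iff, ht, mul_smul, ht]
          have hta : t a ∈ K := hK.le (mem_stabilizer_iff.2 (ht a))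
          have h2 : t (g • a) ∈ K := by
            rw [show t (g • a) = (g * t a) * ((g * t a)⁻¹ * t (g • a)) by group]
            exact mul_mem (mul_mem hgK hta) (hK.le h1)
          exact mul_mem (inv_mem h2) hta
        · exact mem_stabilizer_iff.2 (congrArg Subtype.val e).symm
      have hsum : smallBound (Nat.card (G ⧸ K)) + smallBound (Nat.card {x // q x = q a}) ≤ 3 := by
        generalize Nat.card (G ⧸ K) = x at hprod hQ1
        generalize Nat.card {x // q x = q a} = y at hprod hF1
        have : x ≤ 3 := by nlinarith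
        have : y ≤ 3 := by nlinarith
        interval_cases x <;> interval_cases y <;> simp [smallBound] <;> omega
      refine DL.of_le (DL_of_fibres q hqeq H (DL_of_card_le_four (by nlinarith) H) ?_) hsum
      intro X _ hX g hg x
      let β := {z // q z = q x}
      letI : MulAction X β :=
        { smul := fun k z => ⟨(k : G) • z.1, by rw [hqeq, hX k k.2, z.2]⟩
          one_smul := fun z => Subtype.ext (one_smul G z.1)
          mul_smul := fun k l z => Subtype.ext (mul_smul (k : G) (l : G) z.1) }
      have hc : Nat.card β = Nat.card {x // q x = q a} := hfib (q x)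
      have h5 := DL_of_card_le_four (G := X) (α := β) (by rw [hc]; nlinarith) ⊤
      rw [hc] at h5
      have hgm : g ∈ (dser (⊤ : Subgroup X) (smallBound (Nat.card {x // q x = q a}))).map X.subtype := by
        rw [map_dser, ← MonoidHom.range_eq_map, Subgroup.range_subtype]
        exact hg
      obtain ⟨g', hg', rfl⟩ := hgm
      exact congrArg Subtype.val (h5 g' hg' ⟨x, rfl⟩)
  · intro g hg x
    have hlt : Nat.card (orbit G x) < n := by
      refine lt_of_le_of_ne (hn ▸ Finite.card_subtype_le _) fun e => htr ?_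
      refine ⟨fun y z => ?_⟩
      have : orbit G x = Set.univ :=
        Set.eq_univ_of_forall fun w => by
          by_contra hz
          have := Finite.card_subtype_lt (p := fun w => w ∈ orbit G x) hz
          rw [hn] at this
          exact absurd e (Nat.ne_of_lt this)
      obtain ⟨g, rfl⟩ := (this ▸ Set.mem_univ y : y ∈ orbit G x)
      obtain ⟨k, rfl⟩ := (this ▸ Set.mem_univ z : z ∈ orbit G x)
      exact ⟨k * g⁻¹, by simp [mul_smul]⟩
    have h := (ih _ hlt (G := G) (α := orbit G x) rfl (by omega) H).of_le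
      (show smallBound (Nat.card (orbit G x)) ≤ 3 by unfold smallBound; split_ifs <;> omega)
    exact congrArg Subtype.val (h g hg ⟨x, mem_orbit_self x⟩)

end CfsgLib.RegOrbit
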