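import Mathlib
import Cfsg.Agent.Lib.RegOrbit.SmallDerived.PermSmall
import Cfsg.Agent.Lib.RegOrbit.Main

/-!
# Colourings of soluble primitive groups with stabilisers of small derived length
-/

set_option autoImplicit false
set_option linter.all false

namespace CfsgLib.RegOrbit

open MulAction

universe u v

variable {G : Type u} [Group G] {Ω : Type v} [MulAction G Ω]

/-- The stabiliser of a colouring. -/
def colourStab {κ : Type*} (c : Ω → κ) : Subgroup G where
  carrier := {g | ∀ x, c (g • x) = c x}
  one_mem' := fun x => by rw [one_smul]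
  mul_mem' := fun {a b} ha hb x => by rw [mul_smul, ha, hb]
  inv_mem' := fun {a} ha x => by rw [← ha (a⁻¹ • x), smul_inv_smul]

theorem mem_colourStab {κ : Type*} {c : Ω → κ} {g : G} :
    g ∈ colourStab (G := G) c ↔ ∀ x, c (g • x) = c x := Iff.rfl

/-- Equivalent colourings have equally many points of each colour. -/
theorem count_eq_of_equiv {κ : Type*} {c c' : Ω → κ} {g : G} (h : ∀ x, c' (g • x) = c x) (k : κ) :
    Nat.card {x // c x = k} = Nat.card {x // c' x = k} :=
  Nat.card_congr ⟨fun x => ⟨g • x.1, by rw [h, x.2]⟩, fun x => ⟨g⁻¹ • x.1, by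
    rw [← h, smul_inv_smul, x.2]⟩, fun x => Subtype.ext (inv_smul_smul g _),
    fun x => Subtype.ext (smul_inv_smul g _)⟩

/-- On an invariant set of at most seven points. -/
theorem DL_on_set [Finite G] [Group.IsSolvable G] [Finite Ω] (X : Subgroup G) (T : Set Ω)
    (hT : ∀ g ∈ X, ∀ x ∈ T, g • x ∈ T) {n : ℕ} (hc : Nat.card T ≤ n) (hn : n ≤ 7)
    {g : G} (hg : g ∈ dser X (smallBound n)) {x : Ω} (hx : x ∈ T) : g • x = x := by
  letI : MulAction X T :=
    { smul := fun k z => ⟨(k : G) • z.1, hT k k.2 z z.2⟩
      one_smul := fun z => Subtype.ext (one_smul G z.1)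
      mul_smul := fun k l z => Subtype.ext (mul_smul (k : G) (l : G) z.1) }
  haveI : Group.IsSolvable X :=
    Group.isSolvable_of_isSolvable_injective (f := X.subtype) X.subtype_injective
  have h := (DL_of_card_le_seven (Nat.card T) (G := X) (α := T) rfl (hc.trans hn) ⊤).of_le
    (smallBound_mono hc)
  have hgm : g ∈ (dser (⊤ : Subgroup X) (smallBound n)).map X.subtype := by
    rw [map_dser, ← MonoidHom.range_eq_map, Subgroup.range_subtype]
    exact hg
  obtain ⟨g', hg', rfl⟩ := hgm
  exact congrArg Subtype.val (h g' hg' ⟨x, hx⟩)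

/-- Four points with trivial pointwise stabiliser. -/
theorem exists_base_four [Finite G] [Group.IsSolvable G] [Finite Ω] (hprim : IsPreprimitive G Ω)
    [Nontrivial Ω] :
    ∃ T : Finset Ω, T.card ≤ 4 ∧ ∀ g : G, (∀ x ∈ T, g • x = x) → ∀ x : Ω, g • x = x := by
  classical
  haveI := hprim
  set φ := MulAction.toPermHom G Ω
  let P := φ.range
  have hPprim : IsPreprimitive P Ω := by
    let f : Ω →ₑ[φ.rangeRestrict] Ω := ⟨id, fun g x => rfl⟩
    exact IsPreprimitive.of_surjective (f := f) Function.surjective_id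
  haveI : Group.IsSolvable P :=
    Group.isSolvable_of_surjective (f := φ.rangeRestrict) φ.rangeRestrict_surjective
  haveI : Nontrivial P := by
    haveI := hPprim
    obtain ⟨x, y, hxy⟩ := exists_pair_ne Ω
    obtain ⟨g, hg⟩ := exists_smul_eq P x y
    exact ⟨g, 1, fun e => hxy (by rw [← hg, e, one_smul])⟩
  obtain ⟨α⟩ := (inferInstance : Nonempty Ω)
  obtain ⟨N, hNn, hN1, hNc, -, hbij, hmin, hfaith⟩ :=
    CfsgLib.Perm.ExtremelyPrimitive.exists_regular_normal hPprim α
  haveI := hNn
  letI : CommGroup N := { (inferInstance : Group N) with mul_comm := hNc.is_comm.comm }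
  let H := stabilizer P α
  let conjN : P → N →* N := fun t => (MulAut.conjNormal (H := N) t).toMonoidHom
  have hconj : ∀ (t : P) (n : N), ((conjN t n : N) : P) = t * n * t⁻¹ :=
    fun t n => MulAut.conjNormal_apply t n
  letI : DistribMulAction H (Additive N) :=
    { smul := fun h v => Additive.ofMul (conjN (h : P) (Additive.toMul v))
      one_smul := fun v => Additive.toMul.injective (Subtype.ext (by
        show ((conjN 1 (Additive.toMul v) : N) : P) = _
        rw [hconj]; simp))
      mul_smul := fun g h v => Additive.toMul.injective (Subtype.ext (by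
        show ((conjN ((g : P) * h) (Additive.toMul v) : N) : P)
          = ((conjN (g : P) (conjN (h : P) (Additive.toMul v)) : N) : P)
        rw [hconj, hconj, hconj]; group))
      smul_zero := fun h => congrArg Additive.ofMul (map_one (conjN (h : P)))
      smul_add := fun h a b =>
        congrArg Additive.ofMul (map_mul (conjN (h : P)) (Additive.toMul a) (Additive.toMul b)) }
  have hirr : Irred H (Additive N) := by
    haveI : Nontrivial N := (Subgroup.nontrivial_iff_ne_bot N).2 hN1
    refine ⟨inferInstanceAs (Nontrivial N), fun U hU => ?_⟩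
    let M : Subgroup P := (AddSubgroup.toSubgroup' U).map N.subtype
    rcases hmin M (by rintro _ ⟨n, -, rfl⟩; exact n.2) (by
      rintro h hh _ ⟨n, hn, rfl⟩
      exact ⟨conjN h n, hU ⟨h, hh⟩ (Additive.ofMul n) hn, hconj _ _⟩) with h0 | h0
    · left
      refine (AddSubgroup.eq_bot_iff_forall _).2 fun u hu => ?_
      have : ((Additive.toMul u : N) : P) ∈ M := ⟨_, hu, rfl⟩
      rw [h0, Subgroup.mem_bot] at this
      exact Additive.toMul.injective (Subtype.ext this)
    · right
      refine eq_top_iff.2 fun u _ => ?_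
      obtain ⟨n, hn, e⟩ : ((Additive.toMul u : N) : P) ∈ M := by
        rw [h0]; exact (Additive.toMul u).2
      have : n = Additive.toMul u := Subtype.ext e
      rw [this] at hn
      exact hn
  obtain ⟨f, hf⟩ := exists_base_three (Additive N) H (compRed_of_irred hirr)
  let pt : Additive N → Ω := fun v => ((Additive.toMul v : N) : P) • α
  refine ⟨{α, pt (f 0), pt (f 1), pt (f 2)}, Finset.card_le_four, fun g hg x => ?_⟩
  let t : P := φ.rangeRestrict g
  have hsm : ∀ y : Ω, t • y = g • y := fun y => rfl
  have hα : t • α = α := hg α (by simp)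
  have hfix : ∀ v : Additive N, g • pt v = pt v → (⟨t, hα⟩ : H) • v = v := fun v hv => by
    refine Additive.toMul.injective (hbij.1 ?_)
    show ((conjN t (Additive.toMul v) : N) : P) • α = pt v
    rw [hconj, mul_smul, mul_smul, inv_smul_eq_iff.2 hα.symm]
    exact hv
  have htriv := hf ⟨t, hα⟩ fun i => hfix _ (hg _ (by fin_cases i <;> simp))
  have ht1 : t = 1 := hfaith t hα fun n hn => by
    have := congrArg (fun v : Additive N => ((Additive.toMul v : N) : P))
      (htriv (Additive.ofMul ⟨n, hn⟩))
    change ((conjN t ⟨n, hn⟩ : N) : P) = n at this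
    rw [hconj] at this
    exact mul_inv_eq_iff_eq_mul.1 this
  rw [← hsm, ht1, one_smul]

variable (G Ω) in
/-- Five inequivalent colourings with stabilisers of derived length at most `b`. -/
def FiveColourings (k b : ℕ) : Prop :=
  ∃ c : Fin 5 → Ω → Fin k, (∀ (g : G) (i j : Fin 5), (∀ x, c j (g • x) = c i x) → i = j) ∧
    ∀ i, DL Ω (colourStab (G := G) (c i)) b

theorem exists_base_four_card [Finite G] [Group.IsSolvable G] [Finite Ω] (hprim : IsPreprimitive G Ω)
    (h4 : 4 ≤ Nat.card Ω) :
    ∃ T : Finset Ω, T.card = 4 ∧ ∀ g : G, (∀ x ∈ T, g • x = x) → ∀ x : Ω, g • x = x := by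
  classical
  haveI := Fintype.ofFinite Ω
  haveI : Nontrivial Ω := Finite.one_lt_card_iff_nontrivial.1 (by omega)
  obtain ⟨T, hT, hfix⟩ := exists_base_four (G := G) hprim
  obtain ⟨T', hTT', -, hT'⟩ := Finset.exists_subsuperset_card_eq (Finset.subset_univ T) hT
    (by rw [Finset.card_univ, ← Nat.card_eq_fintype_card]; exact h4)
  exact ⟨T', hT', fun g hg => hfix g fun x hx => hg x (hTT' hx)⟩

theorem card_colour_class [Fintype Ω] {κ : Type*} [DecidableEq κ] (c : Ω → κ) (k : κ) :
    Nat.card {x // c x = k} = (Finset.univ.filter fun x => c x = k).card := by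
  rw [Nat.card_eq_fintype_card, Fintype.card_subtype]

/-- Five colourings with two colours. -/
theorem fiveColourings_two [Finite G] [Group.IsSolvable G] [Finite Ω] (hprim : IsPreprimitive G Ω)
    (h4 : 4 ≤ Nat.card Ω) : FiveColourings G Ω 2 3 := by
  classical
  haveI := Fintype.ofFinite Ω
  haveI := hprim
  have hm : Fintype.card Ω = Nat.card Ω := Nat.card_eq_fintype_card.symm
  by_cases hsmall : Nat.card Ω ≤ 7 ∨ (Nat.card Ω).Prime
  · have hex : ∀ i : Fin 5, ∃ A : Finset Ω, A.card = i := fun i => by
      obtain ⟨A, -, hA⟩ := Finset.exists_subset_card_eq (s := (Finset.univ : Finset Ω)) (n := i)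
        (by rw [Finset.card_univ, hm]; omega)
      exact ⟨A, hA⟩
    choose A hA using hex
    refine ⟨fun i x => if x ∈ A i then 1 else 0, fun g i j h => Fin.ext ?_, fun i => ?_⟩
    · have := count_eq_of_equiv (c := fun x => if x ∈ A i then (1 : Fin 2) else 0)
        (c' := fun x => if x ∈ A j then (1 : Fin 2) else 0) h 1
      rw [card_colour_class, card_colour_class] at this
      simpa [Finset.filter_mem_eq_inter, hA] using this
    · rcases hsmall with h | h
      · exact (DL_of_card_le_seven _ rfl h _).of_le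
          (by unfold smallBound; split_ifs <;> omega)
      · exact (DL_two_of_primitive_prime h _).of_le (by omega)
  push Not at hsmall
  obtain ⟨h8, hnp⟩ := hsmall
  have h11 : Nat.card Ω ≠ 11 := fun e => hnp (e ▸ by norm_num)
  obtain ⟨T, hT, hfix⟩ := exists_base_four_card hprim h4
  let m := Nat.card Ω
  let s : Fin 5 → ℕ := fun i => if 12 ≤ m then (if i.val < 4 then 4 + i else m - 4) else m - 7 + i
  have hex : ∀ i, ∃ A : Finset Ω, A.card = s i ∧
      ((T ⊆ A ∧ A.card ≤ 7) ∨ (T ⊆ Aᶜ ∧ Aᶜ.card ≤ 7)) := fun i => by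
    have hi := i.isLt
    by_cases h : 4 ≤ s i ∧ s i ≤ 7
    · obtain ⟨A, hTA, -, hA⟩ := Finset.exists_subsuperset_card_eq (Finset.subset_univ T) (n := s i)
        (by omega) (by rw [Finset.card_univ, hm]; simp only [s]; split_ifs <;> omega)
      exact ⟨A, hA, Or.inl ⟨hTA, by omega⟩⟩
    · obtain ⟨A, hTA, -, hA⟩ := Finset.exists_subsuperset_card_eq (Finset.subset_univ T)
        (n := m - s i) (by simp only [s, m] at h ⊢; split_ifs at h ⊢ <;> omega)
        (by rw [Finset.card_univ, hm]; omega)
      refine ⟨Aᶜ, ?_, Or.inr ⟨by simpa using hTA, ?_⟩⟩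
      · rw [Finset.card_compl, hA, hm]
        simp only [s, m]; split_ifs <;> omega
      · rw [compl_compl, hA]
        simp only [s, m] at h ⊢; split_ifs at h ⊢ <;> omega
  choose A hA hAT using hex
  refine ⟨fun i x => if x ∈ A i then 1 else 0, fun g i j h => Fin.ext ?_, fun i => ?_⟩
  · have := count_eq_of_equiv (c := fun x => if x ∈ A i then (1 : Fin 2) else 0)
      (c' := fun x => if x ∈ A j then (1 : Fin 2) else 0) h 1
    rw [card_colour_class, card_colour_class] at this
    have h' : s i = s j := by simpa [Finset.filter_mem_eq_inter, hA] using this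
    simp only [s, m] at h'
    split_ifs at h' <;> omega
  · intro g hg
    have hinv : ∀ k ∈ colourStab (G := G) (fun x => if x ∈ A i then (1 : Fin 2) else 0),
        ∀ x, k • x ∈ A i ↔ x ∈ A i := fun k hk x => by
      have := hk x
      simp only at this
      by_cases h1 : k • x ∈ A i <;> by_cases h2 : x ∈ A i
      · exact ⟨fun _ => h2, fun _ => h1⟩
      · rw [if_pos h1, if_neg h2] at this; exact absurd this (by decide)
      · rw [if_neg h1, if_pos h2] at this; exact absurd this (by decide)
      · exact ⟨fun e => absurd e h1, fun e => absurd e h2⟩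
    refine hfix g fun x hx => ?_
    rcases hAT i with ⟨hsub, hle⟩ | ⟨hsub, hle⟩
    · exact DL_on_set _ (A i : Set Ω) (fun k hk y hy => (hinv k hk y).2 hy) (n := 7)
        (by simpa using hle) le_rfl hg (hsub hx)
    · exact DL_on_set _ ((A i)ᶜ : Finset Ω) (fun k hk y hy => by
          simp only [Finset.coe_compl, Set.mem_compl_iff, Finset.mem_coe] at hy ⊢
          exact fun e => hy ((hinv k hk y).1 e)) (n := 7)
        (le_of_eq_of_le (by rw [Nat.card_coe_set_eq, Set.ncard_coe_finset]) hle) le_rfl hg
        (Finset.mem_coe.2 (hsub hx))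

/-- The sizes of the first two colours for few points. -/
def smallSizes (m : ℕ) : Fin 5 → ℕ × ℕ :=
  if m = 2 then ![(2, 0), (0, 2), (0, 0), (1, 1), (1, 0)]
  else if m = 3 then ![(2, 1), (2, 0), (1, 2), (1, 0), (0, 2)]
  else if m = 4 then ![(3, 1), (3, 0), (1, 3), (1, 0), (0, 3)]
  else if m = 5 then ![(3, 2), (3, 0), (2, 3), (2, 0), (0, 3)]
  else if m = 6 then ![(3, 2), (3, 1), (2, 3), (2, 1), (1, 3)]
  else ![(3, 3), (3, 1), (1, 3), (3, 2), (2, 3)]

/-- A colouring of numbers by two sizes. -/
def bySizes {m : ℕ} (s : ℕ × ℕ) (x : Fin m) : Fin 3 :=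
  if x.val < s.1 then 0 else if x.val < s.1 + s.2 then 1 else 2

theorem smallSizes_class : ∀ m : Fin 8, 2 ≤ m.val → ∀ (i : Fin 5) (k : Fin 3),
    (Finset.univ.filter fun x : Fin m.val => bySizes (smallSizes m.val i) x = k).card ≤ 3 := by
  decide +kernel

theorem smallSizes_inj : ∀ m : Fin 8, 2 ≤ m.val → ∀ i j : Fin 5,
    (∀ k : Fin 3, (Finset.univ.filter fun x : Fin m.val => bySizes (smallSizes m.val i) x = k).card =
      (Finset.univ.filter fun x : Fin m.val => bySizes (smallSizes m.val j) x = k).card) → i = j := by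
  decide +kernel

/-- Five colourings with three colours. -/
theorem fiveColourings_three [Finite G] [Group.IsSolvable G] [Finite Ω] (hprim : IsPreprimitive G Ω)
    (h2 : 2 ≤ Nat.card Ω) : FiveColourings G Ω 3 2 := by
  classical
  haveI := Fintype.ofFinite Ω
  have hm : Fintype.card Ω = Nat.card Ω := Nat.card_eq_fintype_card.symm
  by_cases h7 : Nat.card Ω ≤ 7
  · let e : Ω ≃ Fin (Nat.card Ω) := Finite.equivFin Ω
    let m : Fin 8 := ⟨Nat.card Ω, by omega⟩
    let c : Fin 5 → Ω → Fin 3 := fun i x => bySizes (smallSizes (Nat.card Ω) i) (e x)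
    have hcount : ∀ i k, Nat.card {x // c i x = k} = (Finset.univ.filter
        fun x : Fin m.val => bySizes (smallSizes m.val i) x = k).card := fun i k => by
      rw [← Fintype.card_subtype, ← Nat.card_eq_fintype_card]
      exact Nat.card_congr (e.subtypeEquiv fun x => Iff.rfl)
    refine ⟨c, fun g i j h => smallSizes_inj m h2 i j fun k => ?_, fun i g hg x => ?_⟩
    · rw [← hcount, ← hcount]; exact count_eq_of_equiv h k
    · refine DL_on_set _ {y | c i y = c i x} (fun k hk y hy => (hk y).trans hy) (n := 3) ?_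
        (by norm_num) hg rfl
      exact (hcount i _).le.trans (smallSizes_class m h2 i _)
  obtain ⟨T, hT, hfix⟩ := exists_base_four_card hprim (by omega)
  obtain ⟨x0, hx0⟩ := Finset.card_pos.1 (by omega : 0 < T.card)
  let base : Ω → Fin 3 := fun x => if x = x0 then 0 else if x ∈ T then 1 else 2
  let σ : Fin 5 → Equiv.Perm (Fin 3) := ![1, Equiv.swap 0 1, Equiv.swap 0 2, Equiv.swap 1 2,
    Equiv.swap 0 1 * Equiv.swap 1 2]
  have hσ : Function.Injective σ := by decide +kernel
  have b0 : ∀ x, base x = 0 ↔ x = x0 := fun x => by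
    by_cases h : x = x0
    · simp [base, h]
    · by_cases h' : x ∈ T <;> simp [base, h, h']
  have b1 : ∀ x, base x = 1 ↔ x ∈ T.erase x0 := fun x => by
    by_cases h : x = x0
    · simp [base, h]
    · by_cases h' : x ∈ T <;> simp [base, h, h']
  have b2 : ∀ x, base x = 2 ↔ x ∈ Tᶜ := fun x => by
    by_cases h : x = x0
    · simp [base, h, hx0]
    · by_cases h' : x ∈ T <;> simp [base, h, h']
  have hbase : ∀ k : Fin 3, Nat.card {x // base x = k} = ![1, 3, Nat.card Ω - 4] k
    | 0 => by
      rw [Nat.card_congr (Equiv.subtypeEquivRight b0)]; simp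
    | 1 => by
      rw [Nat.card_congr (Equiv.subtypeEquivRight b1), Nat.card_eq_fintype_card, Fintype.card_coe,
        Finset.card_erase_of_mem hx0, hT]
      rfl
    | 2 => by
      rw [Nat.card_congr (Equiv.subtypeEquivRight b2), Nat.card_eq_fintype_card, Fintype.card_coe,
        Finset.card_compl, hT, hm]
      rfl
  refine ⟨fun i x => σ i (base x), fun g i j h => hσ (Equiv.symm_bijective.injective ?_), fun i => ?_⟩
  · refine Equiv.ext fun k => ?_
    have h1 := count_eq_of_equiv (c := fun x => σ i (base x)) (c' := fun x => σ j (base x)) h k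
    have hc : ∀ i : Fin 5, Nat.card {x // σ i (base x) = k} = Nat.card {x // base x = (σ i).symm k} :=
      fun i => Nat.card_congr (Equiv.subtypeEquivRight fun x => (Equiv.eq_symm_apply _).symm)
    rw [hc, hc, hbase, hbase] at h1
    have hinj : Function.Injective ![1, 3, Nat.card Ω - 4] := by
      intro a b hab
      fin_cases a <;> fin_cases b <;> simp at hab ⊢ <;> omega
    exact hinj h1
  · intro g hg
    have hinv : ∀ k ∈ colourStab (G := G) (fun x => σ i (base x)), ∀ x, base (k • x) = base x :=
      fun k hk x => (σ i).injective (hk x)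
    refine hfix g fun x hx => DL_on_set _ {y | base y = base x} (fun k hk y hy => (hinv k hk y).trans hy)
      (n := 3) ?_ (by norm_num) hg rfl
    refine (hbase (base x)).le.trans ?_
    by_cases h : x = x0 <;> simp [base, h, hx]

end CfsgLib.RegOrbit
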