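import Mathlib
import Cfsg.Agent.Lib.Core.Cores
import Cfsg.Agent.Lib.Components.FStar

/-!
# Small soluble groups through their Fitting subgroup
-/

set_option autoImplicit false
set_option linter.all false

namespace CfsgLib.RegOrbit

open CfsgLib.Core

variable {R : Type*} [Group R] [Finite R]

/-- Without a normal `s`-subgroup the Fitting subgroup has order prime to `s`. -/
theorem not_dvd_fitting {s : ℕ} [Fact s.Prime] (h : Cfsg.pCore s R = ⊥) :
    ¬ s ∣ Nat.card (Cfsg.fittingSubgroup R) := by
  intro hd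
  haveI := isNilpotent_fittingSubgroup R
  haveI := normal_fittingSubgroup R
  set F := Cfsg.fittingSubgroup R
  obtain ⟨P⟩ := (Sylow.nonempty : Nonempty (Sylow s F))
  haveI : (P : Subgroup F).Normal := inferInstance
  haveI : (P : Subgroup F).Characteristic := P.characteristic_of_normal inferInstance
  have hle := le_pCore (P.isPGroup'.map F.subtype)
  rw [h, le_bot_iff, Subgroup.map_eq_bot_iff_of_injective _ F.subtype_injective] at hle
  exact P.ne_bot_of_dvd_card hd hle

/-- No elements of order `s` when the fixed points in the Fitting subgroup are forced to be everything. -/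
theorem not_dvd_card [Group.IsSolvable R] {s M : ℕ} [hs : Fact s.Prime] (h : Cfsg.pCore s R = ⊥)
    (hM0 : M ≠ 0) (hM : Nat.card (Cfsg.fittingSubgroup R) ∣ M)
    (harith : ∀ n ∈ M.divisors, ∀ d ∈ n.divisors, n % s = d % s → d = n) : ¬ s ∣ Nat.card R := by
  classical
  intro hd
  obtain ⟨y, hy⟩ := exists_prime_orderOf_dvd_card' s hd
  haveI := normal_fittingSubgroup R
  set F := Cfsg.fittingSubgroup R with hF
  letI : MulAction (Subgroup.zpowers y) F :=
    MulAction.compHom F ((MulAut.conjNormal (H := F)).comp (Subgroup.zpowers y).subtype)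
  have hpg : IsPGroup s (Subgroup.zpowers y) :=
    IsPGroup.of_card (n := 1) (by rw [Nat.card_zpowers, hy, pow_one])
  let D : Subgroup F := (Subgroup.centralizer ({y} : Set R)).subgroupOf F
  have hfix : Nat.card (MulAction.fixedPoints (Subgroup.zpowers y) F) = Nat.card D := by
    refine Nat.card_congr (Equiv.subtypeEquivRight fun f => ?_)
    rw [MulAction.mem_fixedPoints, Subgroup.mem_subgroupOf, Subgroup.mem_centralizer_singleton_iff]
    constructor
    · intro h
      have h1 : y * (f : R) * y⁻¹ = f := congrArg Subtype.val (h ⟨y, Subgroup.mem_zpowers y⟩)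
      exact (mul_inv_eq_iff_eq_mul.1 h1).symm
    · rintro hc ⟨g, k, rfl⟩
      refine Subtype.ext ?_
      show y ^ k * (f : R) * (y ^ k)⁻¹ = f
      rw [((Commute.zpow_left (show Commute y (f : R) from hc.symm) k)).eq, mul_inv_cancel_right]
  have hmod := hpg.card_modEq_card_fixedPoints F
  rw [hfix] at hmod
  have heq := harith _ (Nat.mem_divisors.2 ⟨hM, hM0⟩) _
    (Nat.mem_divisors.2 ⟨Subgroup.card_subgroup_dvd_card D, Nat.card_pos.ne'⟩) hmod
  have hD : D = ⊤ := Subgroup.eq_top_of_card_eq D heq
  have hyC : y ∈ Subgroup.centralizer (F : Set R) := Subgroup.mem_centralizer_iff.2 fun f hf => by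
    have : (⟨f, hf⟩ : F) ∈ D := hD ▸ Subgroup.mem_top _
    exact Subgroup.mem_centralizer_singleton_iff.1 (Subgroup.mem_subgroupOf.1 this)
  have hyF := CfsgLib.Components.centralizer_fitting_le_of_isSolvable hyC
  exact not_dvd_fitting h (hy ▸ Subgroup.orderOf_dvd_natCard F hyF)

/-- A soluble group with cyclic Fitting subgroup. -/
theorem of_cyclic_fitting [Group.IsSolvable R] (hc : IsCyclic (Cfsg.fittingSubgroup R)) :
    commutator R ≤ Cfsg.fittingSubgroup R ∧
      Nat.card R ∣ Nat.card (Cfsg.fittingSubgroup R) * (Nat.card (Cfsg.fittingSubgroup R)).totient := by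
  classical
  haveI := normal_fittingSubgroup R
  haveI := hc
  set F := Cfsg.fittingSubgroup R with hF
  let ψ : R →* MulAut F := MulAut.conjNormal
  have hker : ψ.ker ≤ F := by
    refine le_trans (fun g hg => Subgroup.mem_centralizer_iff.2 fun f hf => ?_)
      CfsgLib.Components.centralizer_fitting_le_of_isSolvable
    have h1 : ψ g ⟨f, hf⟩ = ⟨f, hf⟩ := by rw [MonoidHom.mem_ker.1 hg]; rfl
    have h2 : g * f * g⁻¹ = f := congrArg Subtype.val h1
    exact (mul_inv_eq_iff_eq_mul.1 h2).symm
  refine ⟨le_trans ?_ hker, ?_⟩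
  · rw [commutator_def, Subgroup.commutator_le]
    intro a _ b _
    rw [MonoidHom.mem_ker, map_commutatorElement, commutatorElement_eq_one_iff_mul_comm]
    exact (IsCyclic.mulAutMulEquiv F).injective (by rw [map_mul, map_mul, mul_comm])
  · rw [← ψ.ker.index_mul_card, Subgroup.index_ker, mul_comm (Nat.card F)]
    refine mul_dvd_mul ?_ (Subgroup.card_dvd_of_le hker)
    rw [← IsCyclic.card_mulAut F]
    exact Subgroup.card_subgroup_dvd_card _

theorem dvd_of_not_dvd {m r k N : ℕ} (hr : r.Prime) (h : ¬ r ∣ m) (hd : m ∣ r ^ k * N) : m ∣ N :=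
  (((hr.coprime_iff_not_dvd).2 h).symm.pow_right k).dvd_of_dvd_mul_left hd

/-- A bound on the order by a map and the part going to one. -/
theorem card_le_map_mul {A B : Type*} [Group A] [Finite A] [Group B] (f : A →* B) (H K : Subgroup A)
    (hK : ∀ g ∈ H, f g = 1 → g ∈ K) : Nat.card H ≤ Nat.card (H.map f) * Nat.card K := by
  rw [← (f.comp H.subtype).ker.index_mul_card, Subgroup.index_ker, MonoidHom.range_comp,
    Subgroup.range_subtype]
  refine Nat.mul_le_mul le_rfl (Nat.card_le_card_of_injective
    (fun g : (f.comp H.subtype).ker => (⟨(g.1 : A), hK _ g.1.2 (MonoidHom.mem_ker.1 g.2)⟩ : K)) ?_)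
  intro a b e
  exact Subtype.ext (Subtype.ext (congrArg (fun z : K => (z : A)) e))

end CfsgLib.RegOrbit
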