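import Mathlib
import Cfsg.Agent.Lib.RegOrbit.SmallDerived.Colour

/-!
# Vectors with stabilisers of small derived length in imprimitive groups
-/

set_option autoImplicit false
set_option linter.all false

namespace CfsgLib.RegOrbit

open MulAction

section Defs

variable (G V : Type*) [Group G] [AddCommGroup V] [DistribMulAction G V]

/-- Vectors in `k` orbits with stabilisers of derived length at most `d`. -/
def Orbs (k d : ℕ) : Prop :=
  ∃ f : Fin k → V, (∀ (g : G) i j, g • f i = f j → i = j) ∧ ∀ i, DL V (stabilizer G (f i)) d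

/-- The three cases carried through the induction. -/
def Tier : Prop :=
  Orbs G V 5 9 ∨ Orbs G V 3 7 ∨
    (DL V (⊤ : Subgroup G) 6 ∧ ∃ w : V, w ≠ 0 ∧ DL V (stabilizer G w) 5)

end Defs

section

variable {G V : Type*} [Group G] [AddCommGroup V] [DistribMulAction G V]

theorem Tier.exists_good (h : Tier G V) : ∃ v : V, DL V (stabilizer G v) 9 := by
  rcases h with ⟨f, -, hf⟩ | ⟨f, -, hf⟩ | ⟨-, w, -, hw⟩
  · exact ⟨f 0, hf 0⟩
  · exact ⟨f 0, (hf 0).of_le (by omega)⟩
  · exact ⟨w, hw.of_le (by omega)⟩

variable {I : Type*} [Fintype I] (D : System G V I)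

/-- The vector of a colouring. -/
noncomputable def System.vec {a : I} (t : I → G) {κ : Type*} (f : κ → D.W a) (c : I → κ) : V :=
  ∑ i, t i • ((f (c i) : D.W a) : V)

variable {a : I} {t : I → G} (ht : ∀ i, D.img (t i) a = i) {κ : Type*} (f : κ → D.W a)

theorem System.smul_part (ht : ∀ i, D.img (t i) a = i) {g : G} {c c' : I → κ}
    (h : g • D.vec t f c = D.vec t f c') (i : I) :
    g • t i • (f (c i) : V) = t (D.img g i) • (f (c' (D.img g i)) : V) := by
  classical
  letI := D.mulAction
  have hmem : ∀ (i : I) (w : D.W a), t i • (w : V) ∈ D.W i := fun i w => by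
    simpa [ht i] using D.smul_mem (t i) w.2
  let P : (I → κ) → (i : I) → D.W i := fun c i => ⟨_, hmem i (f (c i))⟩
  let f' : (l : I) → D.W l := fun l => ⟨g • (P c (g⁻¹ • l) : V), by
    have := D.smul_mem g (P c (g⁻¹ • l)).2
    change _ ∈ D.W (g • g⁻¹ • l) at this
    rwa [smul_inv_smul] at this⟩
  have h1 : f' = P c' := D.decomp.1 (by
    simp only
    refine Eq.trans ?_ h
    rw [System.vec, Finset.smul_sum]
    exact Fintype.sum_equiv (MulAction.toPerm g⁻¹) _ _ (fun l => rfl))
  have h2 := congrArg Subtype.val (congrFun h1 (g • i))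
  simp only [f', P] at h2
  rw [inv_smul_smul] at h2
  exact h2

theorem System.colour_eq (ht : ∀ i, D.img (t i) a = i)
    (hf : ∀ g : G, D.img g a = a → ∀ k k', g • (f k : V) = f k' → k = k') {g : G} {c c' : I → κ}
    (h : g • D.vec t f c = D.vec t f c') (i : I) : c i = c' (D.img g i) := by
  letI := D.mulAction
  refine hf ((t (D.img g i))⁻¹ * g * t i) ?_ _ _ ?_
  · show ((t (D.img g i))⁻¹ * g * t i) • a = a
    rw [mul_smul, mul_smul, show t i • a = i from ht i, inv_smul_eq_iff]
    exact (ht (D.img g i)).symm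
  · rw [mul_smul, mul_smul, inv_smul_eq_iff]
    exact D.smul_part f ht h i

theorem System.DL_vec (ht : ∀ i, D.img (t i) a = i)
    (hf : ∀ g : G, D.img g a = a → ∀ k k', g • (f k : V) = f k' → k = k')
    (c : I → κ) {d b : ℕ}
    (hd : letI := D.mulAction; letI := D.compAction a;
      ∀ i, DL (D.W a) (stabilizer (stabilizer G a) (f (c i))) d)
    (hb : letI := D.mulAction; DL I (colourStab (G := G) c) b) :
    DL V (stabilizer G (D.vec t f c)) (b + d) := by
  classical
  letI := D.mulAction
  letI := D.compAction a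
  set X := stabilizer G (D.vec t f c)
  have hX : X ≤ colourStab (G := G) c := fun g hg i =>
    (D.colour_eq f ht hf (mem_stabilizer_iff.1 hg) i).symm
  intro g hg v
  have h := dser_add_le (MulAction.toPermHom G I) X (actKer G V) (a := d)
    (dser_toPermHom (hb.mono hX le_rfl)) (fun k hk => ?_)
  · exact mem_actKer.1 (h hg) v
  rw [mem_actKer]
  intro v
  obtain ⟨e, rfl⟩ := D.decomp.2 v
  simp only [Finset.smul_sum]
  refine Finset.sum_congr rfl fun i _ => ?_
  set Y := X ⊓ (MulAction.toPermHom G I).ker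
  have hY : ∀ y : Y, D.img (y : G) i = i := fun y => Equiv.ext_iff.1 (MonoidHom.mem_ker.1 y.2.2) i
  have hst : ∀ y : Y, (t i)⁻¹ * (y : G) * t i ∈ stabilizer G a := fun y => by
    rw [mem_stabilizer_iff, mul_smul, mul_smul, show t i • a = i from ht i, inv_smul_eq_iff,
      show t i • a = i from ht i]
    exact hY y
  let ψ : Y →* stabilizer G a := MonoidHom.mk' (fun y => ⟨(t i)⁻¹ * (y : G) * t i, hst y⟩)
    fun y z => Subtype.ext (by simp [mul_assoc])
  have hψ : ∀ y : Y, ψ y ∈ stabilizer (stabilizer G a) (f (c i)) := fun y => by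
    refine mem_stabilizer_iff.2 (Subtype.ext ?_)
    show ((t i)⁻¹ * (y : G) * t i) • (f (c i) : V) = _
    rw [mul_smul, mul_smul, inv_smul_eq_iff]
    have := D.smul_part f ht (mem_stabilizer_iff.1 y.2.1) i
    rwa [hY y] at this
  obtain ⟨k', hk', rfl⟩ : k ∈ (dser (⊤ : Subgroup Y) d).map Y.subtype := by
    rw [map_dser, ← MonoidHom.range_eq_map, Subgroup.range_subtype]; exact hk
  have hm : ψ k' ∈ dser (stabilizer (stabilizer G a) (f (c i))) d := by
    have h1 : ψ k' ∈ (dser (⊤ : Subgroup Y) d).map ψ := ⟨k', hk', rfl⟩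
    rw [map_dser] at h1
    exact dser_mono (by rintro _ ⟨y, -, rfl⟩; exact hψ y) d h1
  have he : (t i)⁻¹ • (e i : V) ∈ D.W a := by
    have := D.smul_mem (t i)⁻¹ (e i).2
    change _ ∈ D.W ((t i)⁻¹ • i) at this
    rwa [show (t i)⁻¹ • i = a from inv_smul_eq_iff.2 (ht i).symm] at this
  have h2 := congrArg Subtype.val (hd i (ψ k') hm ⟨_, he⟩)
  change ((t i)⁻¹ * (k' : G) * t i) • (t i)⁻¹ • (e i : V) = (t i)⁻¹ • (e i : V) at h2
  rw [mul_smul, mul_smul, smul_inv_smul] at h2
  exact smul_left_cancel _ h2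

theorem System.orbs_of_colourings (ht : ∀ i, D.img (t i) a = i)
    (hf : ∀ g : G, D.img g a = a → ∀ k k', g • (f k : V) = f k' → k = k')
    {d b n e : ℕ} (c : Fin n → I → κ)
    (hinj : letI := D.mulAction; ∀ (g : G) (i j : Fin n), (∀ x, c j (g • x) = c i x) → i = j)
    (hd : letI := D.mulAction; letI := D.compAction a;
      ∀ k, DL (D.W a) (stabilizer (stabilizer G a) (f k)) d)
    (hb : letI := D.mulAction; ∀ i, DL I (colourStab (G := G) (c i)) b) (he : b + d ≤ e) :
    Orbs G V n e :=
  ⟨fun i => D.vec t f (c i), fun g i j h => hinj g i j fun x => (D.colour_eq f ht hf h x).symm,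
    fun i => (D.DL_vec f ht hf (c i) (fun x => hd _) (hb i)).of_le he⟩

end

/-- From the tier of a component to the tier of the whole. -/
theorem tier_of_system {G V : Type*} [Group G] [Finite G] [Group.IsSolvable G] [AddCommGroup V]
    [DistribMulAction G V] (hirr : Irred G V) {m : ℕ} (hm : 2 ≤ m) (D : System G V (Fin m)) (a : Fin m)
    (hprim : letI := D.mulAction; IsPreprimitive G (Fin m))
    (hH : letI := D.mulAction; letI := D.compAction a; Tier (stabilizer G a) (D.W a)) :
    Tier G V := by
  classical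
  letI := D.mulAction
  letI := D.compAction a
  choose t ht using fun i => D.transitive hirr a i
  haveI : Nonempty (Fin m) := ⟨a⟩
  have hcard : Nat.card (Fin m) = m := Nat.card_fin m
  have hsep : ∀ {k : ℕ} (f : Fin k → D.W a),
      (∀ (g : stabilizer G a) i j, g • f i = f j → i = j) →
      ∀ g : G, D.img g a = a → ∀ i j, g • (f i : V) = f j → i = j :=
    fun f hf g hg i j e => hf ⟨g, hg⟩ i j (Subtype.ext e)
  rcases hH with ⟨f, hf1, hf2⟩ | ⟨f, hf1, hf2⟩ | ⟨htop, w, hw0, hw⟩
  · obtain ⟨c, hc⟩ := hasColourings_five hprim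
    exact Or.inl (D.orbs_of_colourings f ht (hsep f hf1) c (fun g i j h => (hc g i j h).1) hf2
      (b := 0) (fun i g hg x => (hc g i i hg).2 x) (by norm_num))
  · obtain ⟨c, hc1, hc2⟩ := fiveColourings_three hprim (by omega)
    exact Or.inl (D.orbs_of_colourings f ht (hsep f hf1) c hc1 hf2 (b := 2) hc2 (by norm_num))
  · let f : Fin 2 → D.W a := ![0, w]
    have hf1 : ∀ (g : stabilizer G a) i j, g • f i = f j → i = j := by
      intro g i j e
      fin_cases i <;> fin_cases j <;> simp [f] at e ⊢
      · exact hw0 e.symm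
      · exact hw0 ((smul_eq_zero_iff_eq g).1 e)
    have hf2 : ∀ k, DL (D.W a) (stabilizer (stabilizer G a) (f k)) 6 := fun k => htop.mono le_top le_rfl
    by_cases h4 : 4 ≤ m
    · obtain ⟨c, hc1, hc2⟩ := fiveColourings_two hprim (by omega)
      exact Or.inl (D.orbs_of_colourings f ht (hsep f hf1) c hc1 hf2 (b := 3) hc2 (by norm_num))
    refine Or.inr (Or.inl ?_)
    rcases (show m = 2 ∨ m = 3 by omega) with rfl | rfl
    · let c : Fin 3 → Fin 2 → Fin 2 := ![![0, 0], ![1, 0], ![1, 1]]
      refine D.orbs_of_colourings f ht (hsep f hf1) c (fun g i j h => ?_) hf2 (b := 1)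
        (fun i => (DL_of_card_le_four (by rw [hcard]; norm_num) _).of_le (by rw [hcard]; decide))
        (by norm_num)
      have key : ∀ i j : Fin 3, (Finset.univ.filter fun x => c i x = 1).card =
          (Finset.univ.filter fun x => c j x = 1).card → i = j := by decide
      have h0 := count_eq_of_equiv (c := c i) (c' := c j) h 1
      rw [card_colour_class, card_colour_class] at h0
      exact key i j h0
    · let c : Fin 3 → Fin 3 → Fin 2 := ![![1, 0, 0], ![1, 1, 0], ![1, 1, 1]]
      refine ⟨fun i => D.vec t f (c i), fun g i j h => ?_, fun i => ?_⟩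
      · have key : ∀ i j : Fin 3, (Finset.univ.filter fun x => c i x = 1).card =
            (Finset.univ.filter fun x => c j x = 1).card → i = j := by decide
        have h0 := count_eq_of_equiv (g := g) (c := c i) (c' := c j)
          (fun x => (D.colour_eq f ht (hsep f hf1) h x).symm) 1
        rw [card_colour_class, card_colour_class] at h0
        exact key i j h0
      · by_cases hi : i = 2
        · subst hi
          exact D.DL_vec f ht (hsep f hf1) _ (d := 5)
            (fun x => by fin_cases x <;> simpa [c, f] using hw) (b := 2)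
            ((DL_of_card_le_four (by rw [hcard]; norm_num) _).of_le (by rw [hcard]; decide))
        · refine D.DL_vec f ht (hsep f hf1) _ (d := 6) (fun x => hf2 _) (b := 1) ?_
          intro g hg x
          refine DL_on_set (colourStab (G := G) (c i)) {y | c i y = c i x}
            (fun k hk y hy => (hk y).trans hy) (n := 2) ?_ (by norm_num)
            hg rfl
          have key : ∀ i : Fin 3, i ≠ 2 → ∀ x : Fin 3,
              (Finset.univ.filter fun y => c i y = c i x).card ≤ 2 := by decide
          rw [Nat.card_eq_fintype_card, ← Set.toFinset_card, Set.toFinset_setOf]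
          exact key i hi x

/-- The induction. -/
theorem tier_of_irred.{u, v} (hprimitive : ∀ (p : ℕ) (V : Type u) [AddCommGroup V] [Finite V]
      (G : Subgroup (AddMonoid.End V)ˣ), IsPrim p G → Tier G V) :
    ∀ (n : ℕ) (V : Type u) [AddCommGroup V] [Finite V] (G : Type v) [Group G] [Finite G]
      [Group.IsSolvable G] [DistribMulAction G V], Nat.card V = n → Irred G V → Tier G V := by
  intro n
  induction n using Nat.strong_induction_on with
  | _ n ih =>
  intro V _ _ G _ _ _ _ hn hirr
  classical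
  haveI := hirr.1
  by_cases hsys : ∃ m : ℕ, 2 ≤ m ∧ Nonempty (System G V (Fin m))
  · obtain ⟨m, D, hm, hprim⟩ := exists_primitive_system hirr hsys
    let a : Fin m := ⟨0, by omega⟩
    refine tier_of_system hirr hm D a hprim ?_
    letI := D.mulAction
    letI := D.compAction a
    haveI : Group.IsSolvable (stabilizer G a) :=
      Group.isSolvable_of_isSolvable_injective (f := (stabilizer G a).subtype)
        (stabilizer G a).subtype_injective
    refine ih (Nat.card (D.W a)) ?_ (D.W a) (stabilizer G a) rfl (D.irred_comp hirr a)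
    rw [← hn]
    have hne : D.W a ≠ ⊤ := fun e => by
      obtain ⟨w, hw, hw0⟩ := (D.W ⟨1, hm⟩).bot_or_exists_ne_zero.resolve_left (D.ne_bot _)
      exact hw0 (D.eq_zero_of_mem (show a ≠ ⟨1, hm⟩ by simp [a, Fin.ext_iff]) (e ▸ AddSubgroup.mem_top w) hw)
    exact lt_of_le_of_ne (AddSubgroup.card_le_card_addGroup _) fun e =>
      hne ((AddSubgroup.card_eq_iff_eq_top _).1 e)
  push Not at hsys
  obtain ⟨p, hp, hexp⟩ := exists_exponent hirr
  let ρ : G →* (AddMonoid.End V)ˣ := (DistribMulAction.toAddMonoidEnd G V).toHomUnits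
  haveI : Group.IsSolvable ρ.range :=
    Group.isSolvable_of_surjective (f := ρ.rangeRestrict) ρ.rangeRestrict_surjective
  have hact : ∀ (g : G) (v : V), (ρ.rangeRestrict g) • v = g • v := fun g v => rfl
  have hprim : IsPrim p ρ.range := by
    refine ⟨hp, hexp, ⟨hirr.1, fun U hU => hirr.2 U fun g u hu => ?_⟩, fun n hn => ⟨fun D => ?_⟩,
      inferInstance⟩
    · rw [← hact]; exact hU _ u hu
    · refine (hsys n hn).false ⟨D.W, D.ne_bot, D.decomp, fun g i => ?_⟩
      obtain ⟨j, hj⟩ := D.perm (ρ.rangeRestrict g) i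
      exact ⟨j, fun w hw => by rw [← hact]; exact hj w hw⟩
  have key : ∀ (H : Subgroup G) (d : ℕ), DL V (H.map ρ.rangeRestrict) d → DL V H d :=
    fun H d h g hg v => by
      rw [← hact]
      exact h _ (map_dser ρ.rangeRestrict H d ▸ ⟨g, hg, rfl⟩) v
  have hstab : ∀ w : V, (stabilizer G w).map ρ.rangeRestrict ≤ stabilizer ρ.range w := by
    rintro w _ ⟨g, hg, rfl⟩
    exact (hact g w).trans hg
  have horb : ∀ k d, Orbs ρ.range V k d → Orbs G V k d := fun k d ⟨f, h1, h2⟩ =>
    ⟨f, fun g i j e => h1 (ρ.rangeRestrict g) i j ((hact g _).trans e),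
      fun i => key _ _ ((h2 i).mono (hstab _) le_rfl)⟩
  rcases hprimitive p V ρ.range hprim with h | h | ⟨h1, w, hw, h2⟩
  · exact Or.inl (horb _ _ h)
  · exact Or.inr (Or.inl (horb _ _ h))
  · exact Or.inr (Or.inr ⟨key _ _ (h1.mono le_top le_rfl), w, hw, key _ _ (h2.mono (hstab _) le_rfl)⟩)

end CfsgLib.RegOrbit
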