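import Mathlib
import Cfsg.Agent.Lib.RegOrbit.SmallDerived.Tiers
import Cfsg.Agent.Lib.RegOrbit.FittingClasses.Order
import Cfsg.Agent.Lib.RegOrbit.Count

/-!
# Primitive soluble linear groups: derived lengths and orbits
-/

set_option autoImplicit false
set_option linter.all false

namespace CfsgLib.RegOrbit

open MulAction
open scoped commutatorElement

variable {V : Type*} [AddCommGroup V] [Finite V]
variable {p : ℕ} {G : Subgroup (AddMonoid.End V)ˣ}

local notation "E" => AddMonoid.End V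

namespace Setup

variable (S : Setup p G)

/-- The field degree, the index of the centraliser of `Z` and the commutators. -/
theorem galois_facts : ∃ f : ℕ, Nat.card S.K = p ^ f ∧ 1 ≤ f ∧ S.CZ.index ∣ f ∧
    dser (⊤ : Subgroup G) 1 ≤ S.CZ := by
  haveI := finiteGroup (G := G)
  haveI := S.fact
  haveI : CharP S.K p := (CharP.charP_iff_prime_eq_zero S.prim.prime).2 (Subtype.ext
    (DFunLike.ext _ _ fun v => by
      rw [SubringClass.coe_natCast, AddMonoid.End.natCast_apply]; exact S.prim.hexp v))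
  letI : Algebra (ZMod p) S.K := ZMod.algebra S.K p
  let τ : G → (S.K ≃ₐ[ZMod p] S.K) := fun g =>
    AlgEquiv.ofBijective (AlgHom.mk (S.sig g) fun c => RingHom.congr_fun
      (RingHom.ext_zmod ((S.sig g).comp (algebraMap (ZMod p) S.K)) _) c)
      (Finite.injective_iff_bijective.1 (S.sig g).injective)
  have hτ : ∀ g κ, ((τ g κ : S.K) : E) = conjOp g (κ : E) := fun g κ => rfl
  let φ : G →* (S.K ≃ₐ[ZMod p] S.K) := MonoidHom.mk' τ fun g h => AlgEquiv.ext fun κ => Subtype.ext (by
    rw [hτ, AlgEquiv.mul_apply, hτ, hτ, conjOp_conjOp])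
  have hker : φ.ker ≤ S.CZ := fun g hg => Subgroup.mem_centralizer_iff.2 fun z hz => by
    have h1 : conjOp g (op G z) = op G z := by
      have := hτ g (S.scal z hz)
      rw [show τ g = 1 from hg] at this
      exact this.symm
    rw [conjOp, ← op_mul, ← op_mul] at h1
    exact (mul_inv_eq_iff_eq_mul.1 (op_injective h1)).symm
  refine ⟨Module.finrank (ZMod p) S.K, ?_, Module.finrank_pos, ?_, ?_⟩
  · rw [Module.natCard_eq_pow_finrank (K := ZMod p), Nat.card_zmod]
  · refine (Subgroup.index_dvd_of_le hker).trans ?_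
    rw [Subgroup.index_ker, ← IsGalois.card_aut_eq_finrank (ZMod p) S.K]
    exact Subgroup.card_subgroup_dvd_card _
  · refine le_trans ?_ hker
    rw [← Subgroup.map_eq_bot_iff, map_dser]
    refine dser_one_bot_of_comm fun a _ b _ => ?_
    obtain ⟨g, hg⟩ := IsCyclic.exists_generator (α := S.K ≃ₐ[ZMod p] S.K)
    obtain ⟨i, rfl⟩ := Subgroup.mem_zpowers_iff.1 (hg a)
    obtain ⟨j, rfl⟩ := Subgroup.mem_zpowers_iff.1 (hg b)
    exact ((Commute.refl g).zpow_zpow i j).eq

theorem CZ_eq_top_of_prime (h : Nat.card S.K = p) : S.CZ = ⊤ :=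
  eq_top_iff.2 fun g _ => Subgroup.mem_centralizer_iff.2 fun z hz => (S.central_of_prime h g z hz).symm

theorem dser_F_one : dser S.F 1 ≤ S.Z := by
  rw [dser_succ, dser_zero, Subgroup.commutator_le]
  intro a ha b hb
  exact S.cm_mem ha hb

theorem dser_F_two : dser S.F 2 = ⊥ :=
  le_bot_iff.1 ((dser_mono S.dser_F_one 1).trans (le_of_eq (dser_one_bot_of_comm S.zComm)))

/-- The derived series of the centraliser of `Z` reaches `F`. -/
theorem dser_CZ {h : ℕ} (hh : ∀ s ∈ S.primes, dser (S.CZ.map (S.wAct s)) h = ⊥) :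
    dser S.CZ h ≤ S.F := by
  intro g hg
  refine S.mem_F_of_wAct (dser_le _ _ hg) fun s hs => ?_
  have : S.wAct s g ∈ (dser S.CZ h).map (S.wAct s) := ⟨g, hg, rfl⟩
  rw [map_dser, hh s hs] at this
  exact Subgroup.mem_bot.1 this

theorem stab_inf_Z {v : V} (hv : v ≠ 0) : stabilizer G v ⊓ S.Z = ⊥ :=
  (Subgroup.eq_bot_iff_forall _).2 fun z hz =>
    S.eq_one_of_fix hz.2 hv (mem_stabilizer_iff.1 hz.1)

/-- The bound on the group: Galois part `g`, parts `h`. -/
theorem DL_top {g h : ℕ} (hg : dser (⊤ : Subgroup G) g ≤ S.CZ)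
    (hh : ∀ s ∈ S.primes, dser (S.CZ.map (S.wAct s)) h = ⊥) : DL V (⊤ : Subgroup G) (g + h + 2) := by
  intro x hx v
  have h1 : dser (⊤ : Subgroup G) (g + h + 2) ≤ ⊥ := by
    rw [dser_add, dser_add, ← S.dser_F_two]
    exact dser_mono ((dser_mono hg h).trans (S.dser_CZ hh)) 2
  rw [Subgroup.mem_bot.1 (h1 hx), one_smul]

/-- The bound on a stabiliser. -/
theorem DL_stab {g h : ℕ} (hg : dser (⊤ : Subgroup G) g ≤ S.CZ)
    (hh : ∀ s ∈ S.primes, dser (S.CZ.map (S.wAct s)) h = ⊥) {v : V} (hv : v ≠ 0) :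
    DL V (stabilizer G v) (g + h + 1) := by
  intro x hx w
  have h1 : dser (stabilizer G v) (g + h + 1) ≤ ⊥ := by
    rw [dser_add]
    have hle : dser (stabilizer G v) (g + h) ≤ stabilizer G v ⊓ S.F := by
      refine le_inf (dser_le _ _) ?_
      rw [dser_add]
      exact (dser_mono ((dser_mono le_top g).trans hg) h).trans (S.dser_CZ hh)
    rw [← S.stab_inf_Z hv]
    refine le_inf ((dser_le _ _).trans (dser_le _ _)) ?_
    exact (dser_mono (hle.trans inf_le_right) 1).trans S.dser_F_one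
  rw [Subgroup.mem_bot.1 (h1 hx), one_smul]

/-- The bound on a stabiliser meeting `F` trivially. -/
theorem DL_stab' {g h : ℕ} (hg : dser (⊤ : Subgroup G) g ≤ S.CZ)
    (hh : ∀ s ∈ S.primes, dser (S.CZ.map (S.wAct s)) h = ⊥) {v : V}
    (hv : ∀ f ∈ S.F, f • v = v → f = 1) : DL V (stabilizer G v) (g + h) := by
  intro x hx w
  have hm : x ∈ S.F := by
    have : dser (stabilizer G v) (g + h) ≤ S.F := by
      rw [dser_add]
      exact (dser_mono ((dser_mono le_top g).trans hg) h).trans (S.dser_CZ hh)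
    exact this hx
  rw [hv x hm (mem_stabilizer_iff.1 (dser_le _ _ hx)), one_smul]

/-- The order divides the product of the four factors. -/
theorem card_dvd : ∀ f : ℕ, S.CZ.index ∣ f →
    Nat.card G ∣ f * (∏ s ∈ S.primes, Nat.card (S.CZ.map (S.wAct s))) *
      Nat.card (S.F ⧸ S.zF) * (Nat.card S.K - 1) := by
  classical
  intro f hf
  haveI := finiteGroup (G := G)
  let Φ : S.CZ →* ((s : S.primes) → (S.CZ.map (S.wAct s) : Subgroup (AddMonoid.End (S.Wa s))ˣ)) :=
    Pi.monoidHom fun s => (S.wAct s).subgroupMap S.CZ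
  rw [← S.CZ.index_mul_card, ← Φ.ker.index_mul_card, Subgroup.index_ker, mul_assoc f, mul_assoc f]
  refine mul_dvd_mul hf ?_
  rw [mul_assoc]
  refine mul_dvd_mul ?_ ?_
  · have := Subgroup.card_subgroup_dvd_card Φ.range
    rwa [Nat.card_pi, Finset.prod_coe_sort S.primes fun s => Nat.card (S.CZ.map (S.wAct s))] at this
  · have hle : Φ.ker.map S.CZ.subtype ≤ S.F := by
      rintro _ ⟨g, hg, rfl⟩
      exact S.mem_F_of_wAct g.2 fun s hs => congrArg Subtype.val (congrFun (MonoidHom.mem_ker.1 hg) ⟨s, hs⟩)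
    rw [Nat.card_congr (Subgroup.equivMapOfInjective Φ.ker _ S.CZ.subtype_injective).toEquiv]
    refine (Subgroup.card_dvd_of_le hle).trans ?_
    rw [S.card_F_eq]
    exact mul_dvd_mul_left _ S.card_z_dvd

/-- The vectors fixed by a non-trivial element of `F` are few. -/
theorem card_bad_le (r : ℕ) (hr : Nat.card V ≤ r ^ 2) :
    Nat.card {v : V // ∃ f ∈ S.F, f ≠ 1 ∧ f • v = v} ≤ Nat.card S.F * r := by
  classical
  haveI := finiteGroup (G := G)
  haveI := Fintype.ofFinite V
  haveI := Fintype.ofFinite S.F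
  rw [Nat.card_eq_fintype_card, Fintype.card_subtype]
  let T : Finset S.F := Finset.univ.erase 1
  refine (Finset.card_le_card (t := T.biUnion fun f => Finset.univ.filter fun v => (f : G) • v = v)
    fun v hv => ?_).trans ?_
  · obtain ⟨f, hf, hf1, hfv⟩ := (Finset.mem_filter.1 hv).2
    exact Finset.mem_biUnion.2 ⟨⟨f, hf⟩, Finset.mem_erase.2
      ⟨fun e => hf1 (congrArg Subtype.val e), Finset.mem_univ _⟩, by simp [hfv]⟩
  · refine Finset.card_biUnion_le.trans ((Finset.sum_le_card_nsmul T _ r fun f hf => ?_).trans ?_)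
    · have h2 := S.card_fix_F f.2 fun e => (Finset.mem_erase.1 hf).1 (Subtype.ext e)
      have h3 : (Finset.univ.filter fun v : V => (f : G) • v = v).card = Nat.card (fixSub (f : G)) := by
        rw [← Fintype.card_subtype, Nat.card_eq_fintype_card]
        exact Fintype.card_congr (Equiv.refl _)
      rw [h3]
      exact (Nat.pow_le_pow_iff_left two_ne_zero).1 (h2.trans hr)
    · rw [smul_eq_mul, Nat.card_eq_fintype_card]
      exact Nat.mul_le_mul_right _ (Finset.card_le_univ _)

end Setup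

section Greedy

/-- Orbit representatives outside a small set. -/
theorem exists_orbit_reps {G V : Type*} [Group G] [Finite G] [MulAction G V] [Finite V] (P : V → Prop) :
    ∀ k : ℕ, Nat.card {v // ¬ P v} + (k - 1) * Nat.card G < Nat.card V →
      ∃ f : Fin k → V, (∀ i, P (f i)) ∧ ∀ (g : G) i j, g • f i = f j → i = j := by
  classical
  haveI := Fintype.ofFinite V
  haveI := Fintype.ofFinite G
  intro k
  induction k with
  | zero => exact fun _ => ⟨Fin.elim0, fun i => i.elim0, fun g i => i.elim0⟩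
  | succ k ih =>
    intro h
    obtain ⟨f, hP, hf⟩ := ih (lt_of_le_of_lt (Nat.add_le_add_left (Nat.mul_le_mul_right _ (by omega)) _) h)
    let U : Finset V := (Finset.univ.filter fun v => ¬ P v) ∪
      Finset.univ.image fun x : Fin k × G => x.2 • f x.1
    have hU : U.card < Fintype.card V := by
      refine lt_of_le_of_lt (Finset.card_union_le _ _) (lt_of_le_of_lt (Nat.add_le_add ?_ ?_)
        (h.trans_eq Nat.card_eq_fintype_card))
      · rw [Nat.card_eq_fintype_card, Fintype.card_subtype]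
      · refine Finset.card_image_le.trans ?_
        simp [Nat.card_eq_fintype_card]
    obtain ⟨v, hv⟩ : ∃ v, v ∉ U := by
      by_contra hc
      push Not at hc
      rw [Finset.eq_univ_of_forall hc, Finset.card_univ] at hU
      exact lt_irrefl _ hU
    simp only [U, Finset.mem_union, Finset.mem_filter, Finset.mem_univ, true_and, Finset.mem_image,
      Prod.exists, not_or, not_not, not_exists] at hv
    refine ⟨Fin.snoc f v, Fin.lastCases (by simpa using hv.1) (fun i => by simpa using hP i), ?_⟩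
    intro g i j
    induction i using Fin.lastCases with
    | last =>
      induction j using Fin.lastCases with
      | last => exact fun _ => rfl
      | cast j =>
        simp only [Fin.snoc_last, Fin.snoc_castSucc]
        exact fun e => absurd (inv_smul_eq_iff.2 e.symm) (hv.2 j g⁻¹)
    | cast i =>
      induction j using Fin.lastCases with
      | last =>
        simp only [Fin.snoc_last, Fin.snoc_castSucc]
        exact fun e => absurd e (hv.2 i g)
      | cast j =>
        simp only [Fin.snoc_castSucc]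
        exact fun e => congrArg Fin.castSucc (hf g i j e)

theorem exists_orbit_reps_ne_zero {G V : Type*} [Group G] [Finite G] [AddCommGroup V]
    [DistribMulAction G V] [Finite V] (k : ℕ) (h : (k - 1) * Nat.card G + 1 < Nat.card V) :
    ∃ f : Fin k → V, (∀ i, f i ≠ 0) ∧ ∀ (g : G) i j, g • f i = f j → i = j := by
  refine exists_orbit_reps (fun v : V => v ≠ 0) k ?_
  haveI : Unique {v : V // ¬ v ≠ 0} :=
    ⟨⟨⟨0, by simp⟩⟩, fun v => Subtype.ext (not_not.1 v.2)⟩
  rw [Nat.card_unique]
  omega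

/-- Non-zero vectors in one or two orbits give sums of one or two divisors of the order. -/
theorem orbit_sizes {G V : Type*} [Group G] [Finite G] [AddCommGroup V] [DistribMulAction G V]
    [Finite V] [Nontrivial V] :
    (Nat.card V - 1 ∣ Nat.card G) ∨ (∃ a, a ∣ Nat.card G ∧ Nat.card V - 1 - a ∣ Nat.card G ∧
      1 ≤ a ∧ a < Nat.card V - 1 ∧
      (∀ f : Fin 3 → V, (∀ i, f i ≠ 0) → ∃ (g : G) (i j : Fin 3), g • f i = f j ∧ i ≠ j)) ∨
    ∃ f : Fin 3 → V, (∀ i, f i ≠ 0) ∧ ∀ (g : G) i j, g • f i = f j → i = j := by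
  classical
  haveI := Fintype.ofFinite V
  obtain ⟨v, hv⟩ := exists_ne (0 : V)
  have hdvd : ∀ w : V, Nat.card (orbit G w) ∣ Nat.card G := fun w => by
    rw [Nat.card_congr (orbitEquivQuotientStabilizer G w)]
    exact Subgroup.card_quotient_dvd_card _
  have hne : ∀ {u w : V}, u ≠ 0 → w ∈ orbit G u → w ≠ 0 := by
    rintro u w hu ⟨g, rfl⟩ e
    exact hu ((smul_eq_zero_iff_eq g).1 e)
  by_cases h1 : ∀ w : V, w ≠ 0 → w ∈ orbit G v
  · left
    have : Nat.card (orbit G v) = Nat.card V - 1 := by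
      rw [show orbit G v = ({0}ᶜ : Set V) from Set.ext fun w => ⟨fun h => hne hv h, h1 w⟩,
        Nat.card_coe_set_eq, Set.ncard_compl, Set.ncard_singleton]
    exact this ▸ hdvd v
  push Not at h1
  obtain ⟨u, hu, huv⟩ := h1
  by_cases h3 : ∃ f : Fin 3 → V, (∀ i, f i ≠ 0) ∧ ∀ (g : G) i j, g • f i = f j → i = j
  · exact Or.inr (Or.inr h3)
  refine Or.inr (Or.inl ⟨Nat.card (orbit G v), hdvd v, ?_⟩)
  push Not at h3
  have hcov : ({0}ᶜ : Set V) = orbit G v ∪ orbit G u := by
    ext w
    refine ⟨fun hw => ?_, fun hw => hw.elim (hne hv) (hne hu)⟩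
    by_contra hnot
    simp only [Set.mem_union, not_or] at hnot
    obtain ⟨g, i, j, e, hij⟩ := h3 ![v, u, w] (fun i => by
      fin_cases i <;> first | exact hv | exact hu | exact hw)
    fin_cases i <;> fin_cases j <;> simp at e hij
    · exact huv ⟨g, e⟩
    · exact hnot.1 ⟨g, e⟩
    · exact huv ⟨g⁻¹, inv_smul_eq_iff.2 e.symm⟩
    · exact hnot.2 ⟨g, e⟩
    · exact hnot.1 ⟨g⁻¹, inv_smul_eq_iff.2 e.symm⟩
    · exact hnot.2 ⟨g⁻¹, inv_smul_eq_iff.2 e.symm⟩
  have hdis : Disjoint (orbit G v) (orbit G u) := by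
    rw [Set.disjoint_left]
    intro w h1 h2
    exact huv (by rw [← orbit_eq_iff.2 h1, orbit_eq_iff.2 h2]; exact mem_orbit_self u)
  have hsum : Nat.card (orbit G v) + Nat.card (orbit G u) = Nat.card V - 1 := by
    rw [Nat.card_coe_set_eq, Nat.card_coe_set_eq, ← Set.ncard_union_eq hdis, ← hcov, Set.ncard_compl,
      Set.ncard_singleton]
  haveI : Nonempty (orbit G v) := ⟨⟨v, mem_orbit_self v⟩⟩
  haveI : Nonempty (orbit G u) := ⟨⟨u, mem_orbit_self u⟩⟩
  have p1 : 0 < Nat.card (orbit G v) := Nat.card_pos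
  have p2 : 0 < Nat.card (orbit G u) := Nat.card_pos
  refine ⟨?_, p1, by omega, h3⟩
  rw [show Nat.card V - 1 - Nat.card (orbit G v) = Nat.card (orbit G u) by omega]
  exact hdvd u

end Greedy

end CfsgLib.RegOrbit
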