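import Mathlib
import Cfsg.Agent.Lib.RegOrbit.SmallDerived.PrimFacts
import Cfsg.Agent.Lib.RegOrbit.FittingClasses.Decomp
import Cfsg.Agent.Lib.RegOrbit.FittingClasses.Table

/-!
# Derived lengths of small soluble completely reducible linear groups
-/

set_option autoImplicit false
set_option linter.all false

namespace CfsgLib.RegOrbit

universe u

open MulAction
open scoped commutatorElement

theorem dser_top_map {Γ : Type*} [Group Γ] (X : Subgroup Γ) (h : ℕ) :
    dser X h = (dser (⊤ : Subgroup X) h).map X.subtype := by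
  rw [map_dser, ← MonoidHom.range_eq_map, Subgroup.range_subtype]

theorem dser_bot_of_DL {W : Type*} [AddCommGroup W] {R : Subgroup (AddMonoid.End W)ˣ} {d : ℕ}
    {H : Subgroup R} (h : DL W H d) : dser H d = ⊥ :=
  (Subgroup.eq_bot_iff_forall _).2 fun g hg => Subtype.ext (Units.ext (DFunLike.ext _ _ (h g hg)))

theorem DL_of_dser_bot {G V : Type*} [Group G] [MulAction G V] {H : Subgroup G} {d : ℕ}
    (h : dser H d = ⊥) : DL V H d := fun g hg v => by
  rw [h] at hg
  rw [Subgroup.mem_bot.1 hg, one_smul]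

/-- An abelian-by-seven-point bound for primitive groups on eight points. -/
theorem DL_of_primitive_eight {G : Type u} [Group G] [Finite G] [Group.IsSolvable G] {α : Type*}
    [MulAction G α] [Finite α] (hprim : IsPreprimitive G α) (h8 : Nat.card α = 8) (H : Subgroup G) :
    DL α H 4 := by
  classical
  haveI := hprim
  set φ := MulAction.toPermHom G α
  let T := φ.range
  have hTprim : IsPreprimitive T α := by
    let f : α →ₑ[φ.rangeRestrict] α := ⟨id, fun g x => rfl⟩
    exact IsPreprimitive.of_surjective (f := f) Function.surjective_id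
  haveI : Group.IsSolvable T :=
    Group.isSolvable_of_surjective (f := φ.rangeRestrict) φ.rangeRestrict_surjective
  haveI : Nontrivial α := Finite.one_lt_card_iff_nontrivial.1 (by omega)
  haveI : Nontrivial T := by
    obtain ⟨x, y, hxy⟩ := exists_pair_ne α
    haveI := hTprim
    obtain ⟨g, hg⟩ := exists_smul_eq T x y
    exact ⟨g, 1, fun e => hxy (by rw [← hg, e, one_smul])⟩
  obtain ⟨a⟩ := (inferInstance : Nonempty α)
  obtain ⟨N, hNn, hN1, hNc, -, hbij, -, -⟩ :=
    CfsgLib.Perm.ExtremelyPrimitive.exists_regular_normal hTprim a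
  haveI := hNn
  let β := {n : N // n ≠ 1}
  letI : MulAction T β :=
    { smul := fun t n => ⟨MulAut.conjNormal t n.1, fun e =>
        n.2 ((MulAut.conjNormal (H := N) t).injective (e.trans (map_one _).symm))⟩
      one_smul := fun n => Subtype.ext (by
        show MulAut.conjNormal (1 : T) n.1 = n.1
        rw [map_one]; rfl)
      mul_smul := fun s t n => Subtype.ext (by
        show MulAut.conjNormal (s * t) n.1 = MulAut.conjNormal s (MulAut.conjNormal t n.1)
        rw [map_mul]; rfl) }
  have hc : Nat.card β ≤ 7 := by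
    have h1 : Nat.card N = 8 := (Nat.card_congr (Equiv.ofBijective _ hbij)).trans h8
    haveI := Fintype.ofFinite N
    rw [Nat.card_eq_fintype_card, Fintype.card_subtype_compl, ← Nat.card_eq_fintype_card, h1,
      Fintype.card_subtype_eq]
  have h3 : DL β (⊤ : Subgroup T) 3 := (DL_of_card_le_seven _ rfl hc _).of_le
    (by unfold smallBound; split_ifs <;> omega)
  have hker : dser (⊤ : Subgroup T) 3 ≤ N := by
    intro t ht
    obtain ⟨n, hn⟩ := hbij.2 (t • a)
    have hcomm : ∀ m : N, t * (m : T) = (m : T) * t := fun m => by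
      by_cases hm : m = 1
      · rw [hm]; simp
      have h4 : (MulAut.conjNormal t m : N) = m := congrArg Subtype.val (h3 t ht ⟨m, hm⟩)
      have := congrArg Subtype.val h4
      simpa [MulAut.conjNormal_apply, mul_inv_eq_iff_eq_mul] using this
    have : t = (n : T) := FaithfulSMul.eq_of_smul_eq_smul (α := α) fun b => by
      obtain ⟨m, rfl⟩ := hbij.2 b
      show t • (m : T) • a = (n : T) • (m : T) • a
      rw [smul_smul, smul_smul, hcomm, show (n : T) * m = m * n from
        congrArg Subtype.val (hNc.is_comm.comm n m), mul_smul, mul_smul]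
      exact congrArg _ hn.symm
    rw [this]; exact n.2
  have h4 : dser (⊤ : Subgroup T) 4 = ⊥ := by
    rw [dser_succ, Subgroup.commutator_eq_bot_iff_le_centralizer]
    exact fun x hx => Subgroup.mem_centralizer_iff.2 fun y hy =>
      congrArg Subtype.val (hNc.is_comm.comm ⟨y, hker hy⟩ ⟨x, hker hx⟩)
  intro g hg b
  have : φ.rangeRestrict g ∈ (dser H 4).map φ.rangeRestrict := ⟨g, hg, rfl⟩
  rw [map_dser] at this
  have h5 := h4 ▸ dser_mono le_top 4 this
  exact Equiv.ext_iff.1 (congrArg Subtype.val (Subgroup.mem_bot.1 h5)) b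

theorem dser_proper_four : ∀ H : Subgroup (Equiv.Perm (Fin 4)), Nat.card H ≤ 12 → dser H 2 = ⊥ := by
  intro H hH
  set A := dser H 1
  have hsgn : ∀ x ∈ A, Equiv.Perm.sign x = 1 := by
    intro x hx
    have : A ≤ Equiv.Perm.sign.ker := by
      show dser H 1 ≤ _
      rw [dser_succ, dser_zero, Subgroup.commutator_le]
      intro a _ b _
      rw [MonoidHom.mem_ker, map_commutatorElement, commutatorElement_eq_one_iff_mul_comm, mul_comm]
    exact this hx
  rw [dser_succ, Subgroup.commutator_eq_bot_iff_le_centralizer]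
  intro a ha
  rw [Subgroup.mem_centralizer_iff]
  intro b hb
  by_contra hne
  have hgen : ∀ a b : Equiv.Perm (Fin 4), Equiv.Perm.sign a = 1 → Equiv.Perm.sign b = 1 →
      b * a ≠ a * b → ∀ c, Equiv.Perm.sign c = 1 →
        c ∈ [1, a, b, a * b, b * a, a * b * a, a * b * a * a * b, a * b * b * a * b,
          b * a * b, a * a * b * b, a * b * a * b, a * a * b * b * a * b, a * a * b, a * b * b, a * b * a * a] := by decide +kernel
  have hall : ∀ c : Equiv.Perm (Fin 4), Equiv.Perm.sign c = 1 → c ∈ A := by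
    intro c hc
    have h := hgen a b (hsgn a ha) (hsgn b hb) hne c hc
    simp only [List.mem_cons, List.not_mem_nil, or_false] at h
    rcases h with rfl | rfl | rfl | rfl | rfl | rfl | rfl | rfl | rfl | rfl | rfl | rfl | rfl | rfl |
      rfl <;>
      first
        | exact one_mem _
        | (repeat' (first | exact ha | exact hb | apply mul_mem))
  have hAH : alternatingGroup (Fin 4) ≤ H := fun c hc => dser_le H 1 (hall c hc)
  have h12 : Nat.card (alternatingGroup (Fin 4)) = 12 := by
    rw [nat_card_alternatingGroup, Nat.card_fin]; rfl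
  have hHA : alternatingGroup (Fin 4) = H := Subgroup.eq_of_le_of_card_ge hAH (by omega)
  have hV : ∀ x y : Equiv.Perm (Fin 4), Equiv.Perm.sign x = 1 → Equiv.Perm.sign y = 1 →
      ⁅x, y⁆ * ⁅x, y⁆ = 1 := by decide +kernel
  let V : Subgroup (Equiv.Perm (Fin 4)) :=
    { carrier := {g | g * g = 1 ∧ Equiv.Perm.sign g = 1}
      one_mem' := by simp
      mul_mem' := fun {a b} ha hb => (show ∀ a b : Equiv.Perm (Fin 4), a * a = 1 ∧ Equiv.Perm.sign a = 1 →
        b * b = 1 ∧ Equiv.Perm.sign b = 1 → a * b * (a * b) = 1 ∧ Equiv.Perm.sign (a * b) = 1 by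
          decide +kernel) a b ha hb
      inv_mem' := fun {a} ha => by
        have : a⁻¹ = a := inv_eq_of_mul_eq_one_right ha.1
        rw [this]; exact ha }
  have hAV : A ≤ V := by
    show dser H 1 ≤ V
    rw [dser_succ, dser_zero, Subgroup.commutator_le]
    intro x hx y hy
    have sx : Equiv.Perm.sign x = 1 := by rw [← hHA] at hx; exact hx
    have sy : Equiv.Perm.sign y = 1 := by rw [← hHA] at hy; exact hy
    exact ⟨hV x y sx sy, by
      rw [map_commutatorElement, commutatorElement_eq_one_iff_mul_comm, mul_comm]⟩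
  exact hne ((show ∀ a b : Equiv.Perm (Fin 4), a * a = 1 ∧ Equiv.Perm.sign a = 1 →
    b * b = 1 ∧ Equiv.Perm.sign b = 1 → b * a = a * b by decide +kernel) a b (hAV ha) (hAV hb))

/-- Linear groups on four elements. -/
theorem dser_card_four {W : Type u} [AddCommGroup W] [Finite W] (R : Subgroup (AddMonoid.End W)ˣ)
    (hW : Nat.card W = 4) : dser R 2 = ⊥ := by
  classical
  haveI := Fintype.ofFinite W
  let β := {w : W // w ≠ 0}
  letI : MulAction R β :=
    { smul := fun g w => ⟨g • w.1, fun e => w.2 ((smul_eq_zero_iff_eq g).1 e)⟩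
      one_smul := fun w => Subtype.ext (one_smul R w.1)
      mul_smul := fun g h w => Subtype.ext (mul_smul g h w.1) }
  have hc : Nat.card β = 3 := by
    rw [Nat.card_eq_fintype_card, Fintype.card_subtype_compl, Fintype.card_subtype_eq,
      ← Nat.card_eq_fintype_card, hW]
  have h := DL_of_card_le_four (G := R) (α := β) (by omega) ⊤
  rw [hc] at h
  rw [dser_top_map, dser_bot_of_DL (H := (⊤ : Subgroup R)) (d := 2) fun g hg w => ?_, Subgroup.map_bot]
  by_cases hw : w = 0
  · rw [hw, smul_zero]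
  · exact congrArg Subtype.val (h g hg ⟨w, hw⟩)

/-- Linear groups of order at most twenty-four on nine elements. -/
theorem dser_card_nine {W : Type u} [AddCommGroup W] [Finite W] (hexp : ∀ w : W, 3 • w = 0)
    (hW : Nat.card W = 9) (R : Subgroup (AddMonoid.End W)ˣ) (hR : Nat.card R ≤ 24) :
    dser R 3 = ⊥ := by
  classical
  haveI := finiteGroup (G := R)
  haveI := Fintype.ofFinite W
  -- the four lines
  let st : Setoid {w : W // w ≠ 0} :=
    { r := fun x y => (x : W) = y ∨ (x : W) = -y
      iseqv := ⟨fun x => Or.inl rfl, fun {x y} h => by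
        rcases h with h | h
        · exact Or.inl h.symm
        · exact Or.inr (by rw [h, neg_neg]), fun {x y z} h1 h2 => by
        rcases h1 with h1 | h1 <;> rcases h2 with h2 | h2
        · exact Or.inl (h1.trans h2)
        · exact Or.inr (h1.trans h2)
        · exact Or.inr (by rw [h1, h2])
        · exact Or.inl (by rw [h1, h2, neg_neg])⟩ }
  let L := Quotient st
  letI : MulAction R L :=
    { smul := fun g => Quotient.map
        (fun w => (⟨g • w.1, fun e => w.2 ((smul_eq_zero_iff_eq g).1 e)⟩ : {w : W // w ≠ 0}))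
        (fun x y h => by
          rcases h with h | h
          · exact Or.inl (show g • (x : W) = g • (y : W) by rw [h])
          · exact Or.inr (show g • (x : W) = -(g • (y : W)) by rw [h, smul_neg]))
      one_smul := fun l => by
        induction l using Quotient.ind
        exact congrArg (Quotient.mk st) (Subtype.ext (one_smul R _))
      mul_smul := fun g h l => by
        induction l using Quotient.ind
        exact congrArg (Quotient.mk st) (Subtype.ext (mul_smul g h _)) }
  have hneg : ∀ w : W, w ≠ 0 → -w ≠ w := fun w hw e => hw (by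
    have e2 : 2 • w = 0 := by rw [two_nsmul]; exact eq_neg_iff_add_eq_zero.1 e.symm
    have := hexp w
    rw [show 3 = 2 + 1 from rfl, add_nsmul, e2, zero_add, one_nsmul] at this
    exact this)
  haveI : Fintype L := Fintype.ofFinite L
  have hL : Nat.card L = 4 := by
    have hX : Fintype.card {w : W // w ≠ 0} = 8 := by
      rw [Fintype.card_subtype_compl, Fintype.card_subtype_eq, ← Nat.card_eq_fintype_card, hW]
    have h2 : ∀ l : L, (Finset.univ.filter fun x : {w : W // w ≠ 0} => Quotient.mk st x = l).card = 2 := by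
      intro l
      induction l using Quotient.ind with
      | _ x =>
        rw [show (Finset.univ.filter fun y : {w : W // w ≠ 0} => Quotient.mk st y = Quotient.mk st x)
          = {x, ⟨-x.1, neg_ne_zero.2 x.2⟩} from Finset.ext fun y => by
            simp only [Finset.mem_filter, Finset.mem_univ, true_and, Finset.mem_insert,
              Finset.mem_singleton]
            rw [Quotient.eq]
            constructor
            · rintro (h | h)
              · exact Or.inl (Subtype.ext h)
              · exact Or.inr (Subtype.ext h)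
            · rintro (rfl | rfl)
              · exact Or.inl rfl
              · exact Or.inr rfl]
        rw [Finset.card_pair fun e => hneg x.1 x.2 (congrArg Subtype.val e).symm]
    have := Finset.card_eq_sum_card_fiberwise (f := Quotient.mk st)
      (s := (Finset.univ : Finset {w : W // w ≠ 0})) (t := (Finset.univ : Finset L))
      fun x _ => Finset.mem_univ _
    rw [Finset.card_univ, hX, Finset.sum_congr rfl (fun l _ => h2 l), Finset.sum_const, smul_eq_mul,
      Finset.card_univ] at this
    rw [Nat.card_eq_fintype_card]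
    omega
  let e : L ≃ Fin 4 := (Finite.equivFin L).trans (finCongr hL)
  let φ : R →* Equiv.Perm (Fin 4) := e.permCongrHom.toMonoidHom.comp (MulAction.toPermHom R L)
  have hφ : ∀ g : R, φ g = 1 → ∀ w : W, g • w = w ∨ g • w = -w := by
    intro g hg w
    by_cases hw : w = 0
    · left; rw [hw, smul_zero]
    have h1 : MulAction.toPermHom R L g = 1 := e.permCongrHom.injective (by rw [map_one]; exact hg)
    have h2 : g • (Quotient.mk st ⟨w, hw⟩ : L) = Quotient.mk st ⟨w, hw⟩ :=
      Equiv.ext_iff.1 h1 (Quotient.mk st ⟨w, hw⟩)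
    exact Quotient.exact h2
  rw [dser_top_map R, Subgroup.map_eq_bot_iff_of_injective _ R.subtype_injective]
  by_cases hk : φ.ker = ⊥
  · refine dser_eq_bot_of_map φ ⊤ (fun g _ hg => ?_) ?_
    · exact Subgroup.mem_bot.1 (hk ▸ MonoidHom.mem_ker.2 hg)
    · exact le_bot_iff.1 ((dser_mono le_top 3).trans perm_four_dser.le)
  · have hc2 : 2 ≤ Nat.card φ.ker := (Subgroup.one_lt_card_iff_ne_bot _).2 hk
    have h12 : Nat.card ((⊤ : Subgroup R).map φ) ≤ 12 := by
      rw [← MonoidHom.range_eq_map, ← Subgroup.index_ker]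
      have := φ.ker.index_mul_card
      nlinarith
    refine le_bot_iff.1 (dser_add_le φ ⊤ ⊥ (a := 1) (dser_proper_four _ h12) ?_)
    refine le_of_eq (dser_one_bot_of_comm fun a ha b hb => ?_)
    refine Subtype.ext (Units.ext (DFunLike.ext _ _ fun w => ?_))
    show (a * b) • w = (b * a) • w
    rw [mul_smul, mul_smul]
    rcases hφ b hb.2 w with h1 | h1 <;> rcases hφ a ha.2 w with h2 | h2 <;> rw [h1, h2]
    · rw [h1]
    · rw [smul_neg, h1]
    · rw [smul_neg, h2, h1]
    · rw [smul_neg, smul_neg, h2, h1]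

/-- The derived length of a linear group in small dimension, for any field. -/
def dlGen (n : ℕ) : ℕ := [0, 1, 4, 5, 5, 6, 6, 6, 8].getD n 0

/-- The derived length in small dimension over the field with two elements. -/
def dlTwo (n : ℕ) : ℕ := [0, 0, 2, 2, 3, 3, 6, 6, 6, 6, 6, 6, 7, 7, 7].getD n 0

/-- The bound for a part of given square root of order, for the general table. -/
def hGen (e : ℕ) : ℕ := if e < 3 then 2 else if e < 5 then 3 else if e < 8 then 4 else 6

set_option synthInstance.maxHeartbeats 1000000 in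
set_option synthInstance.maxSize 5000 in
theorem gen_prim : ∀ n < 9, ∀ f < 9, ∀ e < 9, 1 ≤ f → 1 ≤ e → f * e = n →
    ((if f = 1 then 0 else 1) + hGen e + 2 ≤ dlGen n ∨ e = 1) ∧
    (if f = 1 then 0 else 1) + 1 ≤ dlGen n := by decide

theorem gen_imp : ∀ d < 9, ∀ m < 9, 1 ≤ d → 2 ≤ m → d * m ≤ 8 →
    (if m = 8 then 4 else smallBound m) + dlGen d ≤ dlGen (d * m) := by decide

theorem gen_mono : ∀ n < 9, ∀ i ≤ n, dlGen i ≤ dlGen n := by decide

/-- The check for the primitive case over two elements. -/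
def twoCheck (f e s : ℕ) : Bool :=
  decide (15 ≤ f * e) || decide (f = 0) || decide (s < 2) || decide (e < s) || decide ((2 ^ f - 1) % s ≠ 0) ||
    (decide (s = 3) && decide ((if f = 1 then 0 else 1) + 5 ≤ dlTwo (f * e)) && decide (e < 9) &&
      (decide (7 < f * e) || (decide (f * e = 6) && decide (f = 2) && decide (e = 3))))

theorem twoCheck_all : ∀ f < 15, ∀ e < 15, ∀ s < 15, twoCheck f e s = true := by decide +kernel

theorem two_prim (n f e s : ℕ) (hn : n < 15) (hf : f < 15) (he : e < 15) (hs : s < 15) (hn2 : 2 ≤ n)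
    (hne : f * e = n) (hf1 : 1 ≤ f) (hs2 : 2 ≤ s) (hse : s ≤ e) (hdvd : s ∣ 2 ^ f - 1) :
    s = 3 ∧ (if f = 1 then 0 else 1) + 5 ≤ dlTwo n ∧ e < 9 ∧ (n ≤ 7 → n = 6 ∧ f = 2 ∧ e = 3) := by
  have h := twoCheck_all f hf e he s hs
  subst hne
  simp only [twoCheck, Bool.or_eq_true, Bool.and_eq_true, decide_eq_true_eq] at h
  rcases h with ((((h | h) | h) | h) | h) | ⟨⟨⟨h1, h2⟩, h3⟩, h4⟩
  · omega
  · omega
  · omega
  · omega
  · exact absurd (Nat.dvd_iff_mod_eq_zero.1 hdvd) h
  · refine ⟨h1, h2, h3, fun h7 => ?_⟩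
    rcases h4 with h4 | ⟨⟨h5, h6⟩, h8⟩
    · omega
    · exact ⟨h5, h6, h8⟩

theorem two_noPart : ∀ n < 15, 2 ≤ n → 2 ≤ dlTwo n := by decide

set_option synthInstance.maxHeartbeats 1000000 in
set_option synthInstance.maxSize 5000 in
theorem two_imp : ∀ d < 15, ∀ m < 15, 2 ≤ d → 2 ≤ m → d * m ≤ 14 →
    m ≤ 7 ∧ smallBound m + dlTwo d ≤ dlTwo (d * m) ∧
      (d * m = 6 → smallBound m + dlTwo d ≤ 5) := by decide

theorem two_mono : ∀ n < 15, ∀ i ≤ n, dlTwo i ≤ dlTwo n := by decide

theorem two_small : ∀ n < 6, dlTwo n ≤ 5 := by decide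

/-- The statement for the field with two elements. -/
def TwoHolds : Prop :=
  ∀ (n : ℕ) (W : Type u) [AddCommGroup W] [Finite W] (R : Subgroup (AddMonoid.End W)ˣ),
    Nat.card W = 2 ^ n → n ≤ 14 → (∀ w : W, 2 • w = 0) → Group.IsSolvable R → CompRed R W →
    dser R (dlTwo n) = ⊥ ∧ (n = 6 → dser R 5 = ⊥ ∨ Nat.card R ∣ 2 ^ 20 * 3 ^ 10)

/-- The statement for all fields. -/
def GenHolds : Prop :=
  ∀ (n : ℕ) (s : ℕ) (W : Type u) [AddCommGroup W] [Finite W] (R : Subgroup (AddMonoid.End W)ˣ),
    s.Prime → Nat.card W = s ^ n → n ≤ 8 → (∀ w : W, s • w = 0) → Group.IsSolvable R → CompRed R W →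
    dser R (dlGen n) = ⊥

section Split

variable {W : Type u} [AddCommGroup W] [Finite W]

theorem dser_of_split (R : Subgroup (AddMonoid.End W)ˣ) {U U' : AddSubgroup W} (hsup : U ⊔ U' = ⊤)
    (hU : ∀ g : R, ∀ v ∈ U, g • v ∈ U) (hU' : ∀ g : R, ∀ v ∈ U', g • v ∈ U') {d : ℕ}
    (h1 : dser (subHom R U hU).range d = ⊥) (h2 : dser (subHom R U' hU').range d = ⊥) :
    dser R d = ⊥ := by
  rw [dser_top_map R, Subgroup.map_eq_bot_iff_of_injective _ R.subtype_injective]
  refine (Subgroup.eq_bot_iff_forall _).2 fun g hg => eq_one_of_subHom hsup hU hU' ?_ ?_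
  · have : subHom R U hU g ∈ (dser (⊤ : Subgroup R) d).map (subHom R U hU) := ⟨g, hg, rfl⟩
    rw [map_dser, ← MonoidHom.range_eq_map, h1] at this
    exact Subgroup.mem_bot.1 this
  · have : subHom R U' hU' g ∈ (dser (⊤ : Subgroup R) d).map (subHom R U' hU') := ⟨g, hg, rfl⟩
    rw [map_dser, ← MonoidHom.range_eq_map, h2] at this
    exact Subgroup.mem_bot.1 this

theorem dser_of_system (R : Subgroup (AddMonoid.End W)ˣ) {m : ℕ} (D : System R W (Fin m)) {a b : ℕ}
    (hb : letI := D.mulAction; DL (Fin m) (⊤ : Subgroup R) b)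
    (ha : ∀ i, dser (D.blockHom i).range a = ⊥) : dser R (b + a) = ⊥ := by
  letI := D.mulAction
  rw [dser_top_map R, Subgroup.map_eq_bot_iff_of_injective _ R.subtype_injective]
  refine le_bot_iff.1 (dser_add_le D.permHom ⊤ ⊥ (dser_toPermHom hb) ?_)
  rw [top_inf_eq]
  intro g hg
  rw [dser_top_map D.permHom.ker] at hg
  obtain ⟨k, hk, rfl⟩ := hg
  refine Subgroup.mem_bot.2 (Subtype.ext (Units.ext (DFunLike.ext _ _ fun w => ?_)))
  refine D.smul_eq_of_kerHom k (fun i => ?_) w
  have : D.kerHom i k ∈ (dser (⊤ : Subgroup D.permHom.ker) a).map (D.kerHom i) := ⟨k, hk, rfl⟩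
  rw [map_dser, ← MonoidHom.range_eq_map] at this
  exact Subgroup.mem_bot.1 (ha i ▸ dser_mono (D.kerHom_range_le i) a this)

end Split

section Prim

variable {W : Type u} [AddCommGroup W] [Finite W] {p : ℕ} {R : Subgroup (AddMonoid.End W)ˣ}

theorem Setup.exists_galois_bound (S : Setup p R) : ∃ f g : ℕ, Nat.card S.K = p ^ f ∧ 1 ≤ f ∧
    S.CZ.index ∣ f ∧ g = (if f = 1 then 0 else 1) ∧ dser (⊤ : Subgroup R) g ≤ S.CZ := by
  obtain ⟨f, hK, hf, hidx, hab⟩ := S.galois_facts
  refine ⟨f, _, hK, hf, hidx, rfl, ?_⟩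
  split_ifs with h
  · rw [S.CZ_eq_top_of_prime (by rw [hK, h, pow_one])]
    exact le_top
  · exact hab

theorem Setup.dser_of_parts (S : Setup p R) {g h : ℕ} (hg : dser (⊤ : Subgroup R) g ≤ S.CZ)
    (hh : ∀ s ∈ S.primes, dser (S.CZ.map (S.wAct s)) h = ⊥) : dser R (g + h + 2) = ⊥ := by
  rw [dser_top_map R, dser_bot_of_DL (H := (⊤ : Subgroup R)) (S.DL_top hg hh), Subgroup.map_bot]

theorem Setup.dser_of_noPart (S : Setup p R) {g : ℕ} (hg : dser (⊤ : Subgroup R) g ≤ S.CZ)
    (h : S.primes = ∅) : dser R (g + 1) = ⊥ := by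
  haveI := finiteGroup (G := R)
  rw [dser_top_map R, Subgroup.map_eq_bot_iff_of_injective _ R.subtype_injective]
  have h1 : S.CZ ≤ S.F := fun x hx =>
    S.mem_F_of_wAct hx fun s hs => absurd (show s ∈ S.primes from hs) (by rw [h]; exact Finset.notMem_empty s)
  have h2 : S.F ≤ S.Z := by
    intro x hx
    have hc : Nat.card (S.F ⧸ S.zF) = 1 := by
      rcases Nat.primeFactors_eq_empty.1 h with h0 | h1
      · exact absurd h0 Nat.card_pos.ne'
      · exact h1
    haveI := (Nat.card_eq_one_iff_unique.1 hc).1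
    exact Subgroup.mem_subgroupOf.1
      ((QuotientGroup.eq_one_iff (N := S.zF) ⟨x, hx⟩).1 (Subsingleton.elim _ _))
  rw [dser_add]
  exact le_bot_iff.1 ((dser_mono (hg.trans (h1.trans h2)) 1).trans (le_of_eq (dser_one_bot_of_comm S.zComm)))

theorem Setup.dser_map_le (S : Setup p R) (s : ℕ) {d : ℕ} (h : dser (S.wAct s).range d = ⊥) :
    dser (S.CZ.map (S.wAct s)) d = ⊥ :=
  le_bot_iff.1 ((dser_mono (Subgroup.map_le_range _ _) d).trans h.le)

theorem Setup.dser_part_three (S : Setup p R) (hcard : Nat.card (S.Wq 3) = 3 ^ 2) :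
    dser (S.CZ.map (S.wAct 3)) 3 = ⊥ :=
  dser_card_nine (S.nsmul_wa 3) (hcard.trans (by norm_num)) _
    ((S.card_map_CZ_le Nat.prime_three hcard).trans (by norm_num))

end Prim

theorem le_three_pow_bound {s a e : ℕ} (hs : 2 ≤ s) (he : e ≤ 8) (h : s ^ a ≤ e) : a < 4 := by
  by_contra hc
  have := (Nat.pow_le_pow_left hs a).trans (h.trans he)
  have := (Nat.pow_le_pow_right (show 1 ≤ 2 by omega) (Nat.le_of_not_lt hc)).trans this
  omega

theorem twoHolds : TwoHolds.{u} := by
  intro n
  induction n using Nat.strong_induction_on with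
  | _ n ih =>
  intro W _ _ R hW hn hexp hsolv hcr
  haveI := finiteGroup (G := R)
  haveI := hsolv
  haveI := Fact.mk Nat.prime_two
  rcases lt_or_ge n 2 with hn2 | hn2
  · haveI : Subsingleton R := ⟨fun g h => Subtype.ext (Units.ext (DFunLike.ext _ _ fun w => by
      show g • w = h • w
      rcases (show n = 0 ∨ n = 1 by omega) with rfl | rfl
      · haveI := (Nat.card_eq_one_iff_unique.1 (hW.trans (pow_zero 2))).1
        exact Subsingleton.elim _ _
      · by_cases hw : w = 0
        · rw [hw, smul_zero, smul_zero]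
        · obtain ⟨x, hx⟩ := Nat.card_eq_two_iff' (0 : W) |>.1 (hW.trans (pow_one 2))
          exact (hx.2 _ fun e => hw ((smul_eq_zero_iff_eq g).1 e)).trans
            (hx.2 _ fun e => hw ((smul_eq_zero_iff_eq h).1 e)).symm))⟩
    refine ⟨?_, fun e => by omega⟩
    rw [dser_top_map R, Subgroup.map_eq_bot_iff_of_injective _ R.subtype_injective]
    exact (Subgroup.eq_bot_iff_forall _).2 fun g _ => Subsingleton.elim g 1
  haveI : Nontrivial W := Finite.one_lt_card_iff_nontrivial.1
    (hW ▸ Nat.one_lt_pow (by omega) one_lt_two)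
  rcases prim_or_split Nat.prime_two hexp R hcr with hprim | ⟨U, U', hU, hU', hinf, hsup, h1, h2⟩ |
      ⟨hirr, hsys⟩
  · obtain ⟨S⟩ := exists_setup hprim
    obtain ⟨f, g, hK, hf, hidx, hg, hgCZ⟩ := S.exists_galois_bound
    have hne : f * S.dimK = n := Nat.pow_right_injective le_rfl (by
      show 2 ^ (f * S.dimK) = 2 ^ n
      rw [pow_mul, ← hK, ← S.card_eq_pow_dimK, hW])
    rcases S.primes.eq_empty_or_nonempty with hP | ⟨q0, hq0⟩
    · have h := S.dser_of_noPart hgCZ hP
      have hg1 : g + 1 ≤ 2 := by rw [hg]; split_ifs <;> omega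
      exact ⟨le_bot_iff.1 ((dser_anti R (hg1.trans (two_noPart n (by omega) hn2))).trans h.le),
        fun _ => Or.inl (le_bot_iff.1 ((dser_anti R (show g + 1 ≤ 5 by omega)).trans h.le))⟩
    obtain ⟨t, ht, hte⟩ := S.exists_part_size
    have he1 := S.dimK_pos
    have hfn : f ≤ n := hne ▸ Nat.le_mul_of_pos_right f he1
    have hen : S.dimK ≤ n := hne ▸ Nat.le_mul_of_pos_left S.dimK hf
    have hall : ∀ q ∈ S.primes, ∃ a, 1 ≤ a ∧ q ^ a ≤ S.dimK ∧ Nat.card (S.Wq q) = (q ^ a) ^ 2 := by
      intro q hq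
      obtain ⟨a, ha, hta, hcard⟩ := ht q hq
      refine ⟨a, ha, ?_, hcard⟩
      rw [← hta]
      refine le_trans (Finset.single_le_prod' (f := t) (fun i hi => ?_) hq) hte
      obtain ⟨b, -, hb, -⟩ := ht i hi
      rw [hb]
      exact Nat.one_le_pow _ _ (Nat.prime_of_mem_primeFactors hi).pos
    have hq3 : ∀ q ∈ S.primes, q = 3 ∧ g + 5 ≤ dlTwo n ∧ S.dimK < 9 ∧
        (n ≤ 7 → n = 6 ∧ f = 2 ∧ S.dimK = 3) := by
      intro q hq
      obtain ⟨a, ha, hqa, -⟩ := hall q hq
      have hqe : q ≤ S.dimK := (Nat.le_self_pow (by omega) q).trans hqa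
      rw [hg]
      exact two_prim n f S.dimK q (by omega) (by omega) (by omega) (by omega) hn2 hne hf
        (S.prime_of_mem hq).two_le hqe (hK ▸ S.prime_dvd_sub_one hq)
    have hcard3 : Nat.card (S.Wq 3) = 3 ^ 2 := by
      obtain ⟨h3, -, hlt, -⟩ := hq3 q0 hq0
      subst h3
      obtain ⟨a, ha, hqa, hcard⟩ := hall 3 hq0
      have : a = 1 := by
        by_contra hne1
        have : 3 ^ 2 ≤ 3 ^ a := Nat.pow_le_pow_right (by norm_num) (by omega)
        omega
      rw [hcard, this, pow_one]
    have hh : ∀ s ∈ S.primes, dser (S.CZ.map (S.wAct s)) 3 = ⊥ := by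
      intro s hs
      obtain ⟨rfl, -⟩ := hq3 s hs
      exact S.dser_part_three hcard3
    obtain ⟨-, hb, -, hsix⟩ := hq3 q0 hq0
    refine ⟨le_bot_iff.1 ((dser_anti R hb).trans (S.dser_of_parts hgCZ hh).le), fun h6 => Or.inr ?_⟩
    obtain ⟨-, hf2, he3⟩ := hsix (by omega)
    have hpr : S.primes = {3} :=
      Finset.eq_singleton_iff_unique_mem.2 ⟨(hq3 q0 hq0).1 ▸ hq0, fun r hr => (hq3 r hr).1⟩
    have hGL : ∀ X : Subgroup (AddMonoid.End (S.Wa 3))ˣ, Nat.card X ∣ 2 ^ 12 * 3 ^ 6 := by
      intro X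
      letI : Module (ZMod 3) (S.Wa 3) := AddCommGroup.zmodModule (n := 3) (S.nsmul_wa 3)
      haveI := Fact.mk Nat.prime_three
      let f : (AddMonoid.End (S.Wa 3))ˣ →* LinearMap.GeneralLinearGroup (ZMod 3) (S.Wa 3) :=
        Units.map
          { toFun := fun φ => AddMonoidHom.toZModLinearMap 3 φ
            map_one' := rfl
            map_mul' := fun _ _ => rfl }
      have hf : Function.Injective f := fun x y e => Units.ext (DFunLike.ext _ _ fun w =>
        LinearMap.congr_fun (congrArg Units.val e) w)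
      haveI : Module.Finite (ZMod 3) (S.Wa 3) := Module.Finite.of_finite
      have hd : Module.finrank (ZMod 3) (S.Wa 3) = 2 := by
        refine Nat.pow_right_injective (show 2 ≤ 3 by norm_num) ?_
        show 3 ^ _ = 3 ^ 2
        have h3 := Module.natCard_eq_pow_finrank (K := ZMod 3) (V := S.Wa 3)
        rw [Nat.card_zmod] at h3
        exact h3.symm.trans hcard3
      let b := Module.finBasisOfFinrankEq (ZMod 3) (S.Wa 3) hd
      let e : LinearMap.GeneralLinearGroup (ZMod 3) (S.Wa 3) ≃* GL (Fin 2) (ZMod 3) :=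
        Units.mapEquiv (algEquivMatrix b).toMulEquiv
      refine (Subgroup.card_dvd_of_injective (e.toMonoidHom.comp (f.comp X.subtype))
        (e.injective.comp (hf.comp X.subtype_injective))).trans ?_
      rw [Matrix.card_GL_field, Fin.prod_univ_two]
      simp only [ZMod.card]
      norm_num
    have hd := S.card_dvd f hidx
    rw [hK, hf2, S.card_quot_eq_prod, hpr, Finset.prod_singleton, Finset.prod_singleton, hcard3] at hd
    refine hd.trans ?_
    calc 2 * Nat.card (S.CZ.map (S.wAct 3)) * 3 ^ 2 * (2 ^ 2 - 1)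
        ∣ 2 * (2 ^ 12 * 3 ^ 6) * 3 ^ 2 * (2 ^ 2 - 1) :=
          mul_dvd_mul_right (mul_dvd_mul_right (mul_dvd_mul_left _ (hGL _)) _) _
      _ ∣ 2 ^ 20 * 3 ^ 10 := by norm_num
  · obtain ⟨i, j, hi, hj, hi1, hj1, hij⟩ :=
      exists_pow_split Nat.prime_two h1 h2 ((card_mul_of_compl hinf hsup).trans hW)
    have b1 := (ih i (by omega) U (subHom R U hU).range hi (by omega)
      (fun w => Subtype.ext (hexp w)) (solvable_subHom U hU) (compRed_subHom hcr U hU)).1
    have b2 := (ih j (by omega) U' (subHom R U' hU').range hj (by omega)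
      (fun w => Subtype.ext (hexp w)) (solvable_subHom U' hU') (compRed_subHom hcr U' hU')).1
    have key : ∀ d, dlTwo i ≤ d → dlTwo j ≤ d → dser R d = ⊥ := fun d e1 e2 =>
      dser_of_split R hsup hU hU' (le_bot_iff.1 ((dser_anti _ e1).trans b1.le))
        (le_bot_iff.1 ((dser_anti _ e2).trans b2.le))
    exact ⟨key _ (two_mono n (by omega) i (by omega)) (two_mono n (by omega) j (by omega)),
      fun h6 => Or.inl (key 5 (two_small i (by omega)) (two_small j (by omega)))⟩
  · obtain ⟨m, D, hm, hprimT⟩ := exists_primitive_system hirr hsys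
    let a : Fin m := ⟨0, by omega⟩
    have hVa := D.card_eq_pow hirr a
    rw [hW, Fintype.card_fin] at hVa
    obtain ⟨d, hd, hd1, hdm⟩ := exists_pow_root Nat.prime_two (D.one_lt_card_comp a) (by omega) hVa
    have hdlt : d < n := by rw [← hdm]; exact lt_mul_of_one_lt_right (by omega) (by omega)
    have hd2 : 2 ≤ d := by
      by_contra hlt
      have hd' : d = 1 := by omega
      subst hd'
      classical
      have huni : ∀ i, ∃ x : W, x ∈ D.W i ∧ x ≠ 0 ∧ ∀ y ∈ D.W i, y ≠ 0 → y = x := fun i => by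
        obtain ⟨x, hx⟩ := Nat.card_eq_two_iff' (0 : D.W i) |>.1
          ((D.card_comp_eq hirr i a).trans (hd.trans (pow_one 2)))
        exact ⟨x, x.2, fun e => hx.1 (Subtype.ext e),
          fun y hy hy0 => congrArg Subtype.val (hx.2 ⟨y, hy⟩ fun e => hy0 (congrArg Subtype.val e))⟩
      choose x hx hx0 hxu using huni
      set v := ∑ i, x i
      have hfix : ∀ g : R, g • v = v := by
        intro g
        letI := D.mulAction
        rw [Finset.smul_sum]
        refine (Finset.sum_congr rfl fun i _ => ?_).trans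
          (Fintype.sum_equiv (MulAction.toPerm g) _ _ fun i => rfl)
        exact hxu _ _ (D.smul_mem g (hx i)) fun e => hx0 i ((smul_eq_zero_iff_eq g).1 e)
      have hU : ∀ g : R, ∀ u ∈ AddSubgroup.zmultiples v, g • u ∈ AddSubgroup.zmultiples v := by
        rintro g _ ⟨k, rfl⟩
        refine ⟨k, ?_⟩
        show k • v = g • k • v
        exact ((map_zsmul (DistribMulAction.toAddMonoidHom W g) k v).trans
          (congrArg (k • ·) (hfix g))).symm
      rcases hirr.2 _ hU with h | h
      · have hv0 : v = 0 := AddSubgroup.zmultiples_eq_bot.1 h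
        have e := D.decomp.1 (a₁ := fun i => (⟨x i, hx i⟩ : D.W i)) (a₂ := 0) (by simpa using hv0)
        exact hx0 a (congrArg Subtype.val (congrFun e a))
      · have hc := Nat.card_zmultiples v
        rw [h, AddSubgroup.card_top, hW] at hc
        have h2 : addOrderOf v ≤ 2 := addOrderOf_le_of_nsmul_eq_zero two_pos (hexp v)
        have h4 : 2 ^ 2 ≤ 2 ^ n := Nat.pow_le_pow_right two_pos hn2
        omega
    obtain ⟨hm7, hb, hb6⟩ := two_imp d (by omega) m (by
      have : 2 * m ≤ d * m := Nat.mul_le_mul_right _ hd2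
      omega) hd2 hm (by omega)
    have hblk : ∀ i, dser (D.blockHom i).range (dlTwo d) = ⊥ := fun i =>
      (ih d hdlt (D.W i) (D.blockHom i).range ((D.card_comp_eq hirr i a).trans hd) (by omega)
        (fun w => Subtype.ext (hexp w)) (D.blockHom_solvable i)
        (compRed_of_irred (D.blockHom_irred hirr i))).1
    have h := dser_of_system R D (b := smallBound m)
      (letI := D.mulAction; DL_of_card_le_seven m (Nat.card_fin m) hm7 _) hblk
    rw [hdm] at hb hb6
    exact ⟨le_bot_iff.1 ((dser_anti R hb).trans h.le),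
      fun h6 => Or.inl (le_bot_iff.1 ((dser_anti R (hb6 h6)).trans h.le))⟩

theorem genHolds : GenHolds.{u} := by
  intro n
  induction n using Nat.strong_induction_on with
  | _ n ih =>
  intro p W _ _ R hp hW hn hexp hsolv hcr
  haveI := finiteGroup (G := R)
  haveI := hsolv
  haveI := Fact.mk hp
  rcases Nat.eq_zero_or_pos n with rfl | hn0
  · haveI := (Nat.card_eq_one_iff_unique.1 (hW.trans (pow_zero p))).1
    haveI : Subsingleton R := ⟨fun g h => Subtype.ext (Units.ext (DFunLike.ext _ _ fun w =>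
      Subsingleton.elim _ _))⟩
    rw [dser_top_map R, Subgroup.map_eq_bot_iff_of_injective _ R.subtype_injective]
    exact (Subgroup.eq_bot_iff_forall _).2 fun g _ => Subsingleton.elim g 1
  haveI : Nontrivial W := Finite.one_lt_card_iff_nontrivial.1 (hW ▸ Nat.one_lt_pow hn0.ne' hp.one_lt)
  rcases prim_or_split hp hexp R hcr with hprim | ⟨U, U', hU, hU', hinf, hsup, h1, h2⟩ | ⟨hirr, hsys⟩
  · obtain ⟨S⟩ := exists_setup hprim
    obtain ⟨f, g, hK, hf, -, hg, hgCZ⟩ := S.exists_galois_bound
    have hne : f * S.dimK = n := Nat.pow_right_injective hp.two_le (by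
      show p ^ (f * S.dimK) = p ^ n
      rw [pow_mul, ← hK, ← S.card_eq_pow_dimK, hW])
    have he1 := S.dimK_pos
    have hfn : f ≤ n := hne ▸ Nat.le_mul_of_pos_right f he1
    have hen : S.dimK ≤ n := hne ▸ Nat.le_mul_of_pos_left S.dimK hf
    obtain ⟨hb, hb1⟩ := gen_prim n (by omega) f (by omega) S.dimK (by omega) hf he1 hne
    rw [← hg] at hb hb1
    rcases S.primes.eq_empty_or_nonempty with hP | ⟨q0, hq0⟩
    · exact le_bot_iff.1 ((dser_anti R hb1).trans (S.dser_of_noPart hgCZ hP).le)
    obtain ⟨t, ht, hte⟩ := S.exists_part_size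
    have hall : ∀ q ∈ S.primes, ∃ a, 1 ≤ a ∧ q ^ a ≤ S.dimK ∧ Nat.card (S.Wq q) = (q ^ a) ^ 2 := by
      intro q hq
      obtain ⟨a, ha, hta, hcard⟩ := ht q hq
      refine ⟨a, ha, ?_, hcard⟩
      rw [← hta]
      refine le_trans (Finset.single_le_prod' (f := t) (fun i hi => ?_) hq) hte
      obtain ⟨b, -, hb, -⟩ := ht i hi
      rw [hb]
      exact Nat.one_le_pow _ _ (Nat.prime_of_mem_primeFactors hi).pos
    have he2 : 2 ≤ S.dimK := by
      obtain ⟨a, ha, hqa, -⟩ := hall q0 hq0
      exact ((S.prime_of_mem hq0).two_le.trans (Nat.le_self_pow (by omega) q0)).trans hqa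
    refine le_bot_iff.1 ((dser_anti R (hb.resolve_right (by omega))).trans
      (S.dser_of_parts hgCZ fun s hs => ?_).le)
    obtain ⟨a, ha, hqa, hcard⟩ := hall s hs
    have hs' := S.prime_of_mem hs
    have hse : s ≤ S.dimK := (Nat.le_self_pow (by omega) s).trans hqa
    have ha4 := le_three_pow_bound hs'.two_le (by omega) hqa
    rw [← pow_mul] at hcard
    have hgen : 2 * a < n → dser (S.CZ.map (S.wAct s)) (dlGen (2 * a)) = ⊥ := fun hlt =>
      S.dser_map_le s (ih (2 * a) hlt s (S.Wa s) (S.wAct s).range hs' (by rw [mul_comm]; exact hcard)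
        (by omega) (S.nsmul_wa s) (S.solvable_range s) (S.compRed_range s))
    rcases (show a = 1 ∨ a = 2 ∨ a = 3 by omega) with rfl | rfl | rfl
    · rcases (show s = 2 ∨ s = 3 ∨ 4 ≤ s by have := hs'.two_le; omega) with rfl | rfl | h5
      · refine le_bot_iff.1 ((dser_anti _ (?_ : 2 ≤ hGen S.dimK)).trans
          (dser_card_four (W := S.Wa 2) _ (hcard.trans (by norm_num))).le)
        unfold hGen; split_ifs <;> omega
      · refine le_bot_iff.1 ((dser_anti _ (?_ : 3 ≤ hGen S.dimK)).trans (S.dser_part_three hcard).le)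
        unfold hGen; split_ifs <;> omega
      · have h5' : 5 ≤ s := by
          rcases (show s = 4 ∨ 5 ≤ s by omega) with rfl | h
          · norm_num at hs'
          · exact h
        refine le_bot_iff.1 ((dser_anti _ (?_ : dlGen (2 * 1) ≤ hGen S.dimK)).trans (hgen (by omega)).le)
        have : dlGen (2 * 1) = 4 := rfl
        unfold hGen; split_ifs <;> omega
    · have hs2 : s = 2 := by
        by_contra hne2
        have : 3 ^ 2 ≤ s ^ 2 := Nat.pow_le_pow_left (by have := hs'.two_le; omega) 2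
        omega
      subst hs2
      have h := (twoHolds 4 (S.Wa 2) (S.wAct 2).range hcard (by omega) (S.nsmul_wa 2)
        (S.solvable_range 2) (S.compRed_range 2)).1
      refine le_bot_iff.1 ((dser_anti _ (?_ : dlTwo 4 ≤ hGen S.dimK)).trans (S.dser_map_le 2 h).le)
      have : dlTwo 4 = 3 := rfl
      have : 2 ^ 2 ≤ S.dimK := hqa
      unfold hGen; split_ifs <;> omega
    · have hs2 : s = 2 := by
        by_contra hne2
        have : 3 ^ 3 ≤ s ^ 3 := Nat.pow_le_pow_left (by have := hs'.two_le; omega) 3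
        omega
      subst hs2
      have h := (twoHolds 6 (S.Wa 2) (S.wAct 2).range hcard (by omega) (S.nsmul_wa 2)
        (S.solvable_range 2) (S.compRed_range 2)).1
      refine le_bot_iff.1 ((dser_anti _ (?_ : dlTwo 6 ≤ hGen S.dimK)).trans (S.dser_map_le 2 h).le)
      have : dlTwo 6 = 6 := rfl
      have : 2 ^ 3 ≤ S.dimK := hqa
      unfold hGen; split_ifs <;> omega
  · obtain ⟨i, j, hi, hj, hi1, hj1, hij⟩ :=
      exists_pow_split hp h1 h2 ((card_mul_of_compl hinf hsup).trans hW)
    have b1 := ih i (by omega) p U (subHom R U hU).range hp hi (by omega)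
      (fun w => Subtype.ext (hexp w)) (solvable_subHom U hU) (compRed_subHom hcr U hU)
    have b2 := ih j (by omega) p U' (subHom R U' hU').range hp hj (by omega)
      (fun w => Subtype.ext (hexp w)) (solvable_subHom U' hU') (compRed_subHom hcr U' hU')
    exact dser_of_split R hsup hU hU'
      (le_bot_iff.1 ((dser_anti _ (gen_mono n (by omega) i (by omega))).trans b1.le))
      (le_bot_iff.1 ((dser_anti _ (gen_mono n (by omega) j (by omega))).trans b2.le))
  · obtain ⟨m, D, hm, hprimT⟩ := exists_primitive_system hirr hsys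
    let a : Fin m := ⟨0, by omega⟩
    have hVa := D.card_eq_pow hirr a
    rw [hW, Fintype.card_fin] at hVa
    obtain ⟨d, hd, hd1, hdm⟩ := exists_pow_root hp (D.one_lt_card_comp a) (by omega) hVa
    have hdlt : d < n := by rw [← hdm]; exact lt_mul_of_one_lt_right (by omega) (by omega)
    have hm8 : m ≤ 8 := (hdm ▸ Nat.le_mul_of_pos_left m hd1 : m ≤ n).trans hn
    have hb := gen_imp d (by omega) m (by omega) hd1 hm (by omega)
    rw [hdm] at hb
    have hblk : ∀ i, dser (D.blockHom i).range (dlGen d) = ⊥ := fun i =>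
      ih d hdlt p (D.W i) (D.blockHom i).range hp ((D.card_comp_eq hirr i a).trans hd) (by omega)
        (fun w => Subtype.ext (hexp w)) (D.blockHom_solvable i)
        (compRed_of_irred (D.blockHom_irred hirr i))
    refine le_bot_iff.1 ((dser_anti R hb).trans (dser_of_system R D ?_ hblk).le)
    letI := D.mulAction
    split_ifs with h8
    · exact DL_of_primitive_eight hprimT (by rw [Nat.card_fin, h8]) _
    · exact DL_of_card_le_seven m (Nat.card_fin m) (by omega) _

end CfsgLib.RegOrbit
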