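import Mathlib
import Cfsg.Agent.Lib.RegOrbit.SmallDerived.Table
import Cfsg.Agent.Lib.RegOrbit.SmallDerived.Arith
import Cfsg.Agent.Lib.RegOrbit.FittingClasses.Small

/-!
# The tiers of a primitive soluble linear group
-/

set_option autoImplicit false
set_option linter.all false

namespace CfsgLib.RegOrbit

universe u

open MulAction

variable {V : Type u} [AddCommGroup V] [Finite V]
variable {p : ℕ} {G : Subgroup (AddMonoid.End V)ˣ}

theorem card_dvd_GL {W : Type u} [AddCommGroup W] [Finite W] {s n : ℕ} (hs : s.Prime)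
    (hexp : ∀ w : W, s • w = 0) (hW : Nat.card W = s ^ n) (X : Subgroup (AddMonoid.End W)ˣ) :
    Nat.card X ∣ ∏ i : Fin n, (s ^ n - s ^ (i : ℕ)) := by
  letI : Module (ZMod s) W := AddCommGroup.zmodModule (n := s) hexp
  haveI := Fact.mk hs
  let f : (AddMonoid.End W)ˣ →* LinearMap.GeneralLinearGroup (ZMod s) W :=
    Units.map
      { toFun := fun φ => AddMonoidHom.toZModLinearMap s φ
        map_one' := rfl
        map_mul' := fun _ _ => rfl }
  have hf : Function.Injective f := fun x y e => Units.ext (DFunLike.ext _ _ fun w =>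
    LinearMap.congr_fun (congrArg Units.val e) w)
  haveI : Module.Finite (ZMod s) W := Module.Finite.of_finite
  have hd : Module.finrank (ZMod s) W = n := by
    refine Nat.pow_right_injective hs.two_le ?_
    show s ^ _ = s ^ n
    have h3 := Module.natCard_eq_pow_finrank (K := ZMod s) (V := W)
    rw [Nat.card_zmod] at h3
    exact h3.symm.trans hW
  let b := Module.finBasisOfFinrankEq (ZMod s) W hd
  let e : LinearMap.GeneralLinearGroup (ZMod s) W ≃* GL (Fin n) (ZMod s) :=
    Units.mapEquiv (algEquivMatrix b).toMulEquiv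
  refine (Subgroup.card_dvd_of_injective (e.toMonoidHom.comp (f.comp X.subtype))
    (e.injective.comp (hf.comp X.subtype_injective))).trans ?_
  rw [Matrix.card_GL_field]
  simp only [ZMod.card]
  exact dvd_rfl

namespace Setup

variable (S : Setup p G)

theorem card_part {s a : ℕ} (hcard : Nat.card (S.Wq s) = (s ^ a) ^ 2) :
    Nat.card (S.Wa s) = s ^ (2 * a) := by
  rw [mul_comm, pow_mul]
  exact hcard

theorem card_map_le {s a : ℕ} (hs : s ∈ S.primes) (ha : 1 ≤ a)
    (hcard : Nat.card (S.Wq s) = (s ^ a) ^ 2) :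
    Nat.card (S.CZ.map (S.wAct s)) ≤ partBound s a := by
  haveI := finiteGroup (G := G)
  have hs' := S.prime_of_mem hs
  have hle : Nat.card (S.CZ.map (S.wAct s)) ≤ Nat.card (S.wAct s).range :=
    Subgroup.card_le_of_le (Subgroup.map_le_range _ _)
  unfold partBound
  split_ifs with h1 h2 h3 h4
  · subst h1
    exact S.card_map_CZ_le hs' (by rw [hcard, pow_one])
  · obtain ⟨rfl, rfl⟩ := h2
    exact hle.trans (table_two.{u} 4 (S.Wa 2) (S.wAct 2).range (S.card_part hcard) (by decide)
      (S.nsmul_wa 2) (S.solvable_range 2) (S.compRed_range 2))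
  · obtain ⟨rfl, rfl⟩ := h3
    exact hle.trans (table_three.{u} 4 (S.Wa 3) (S.wAct 3).range (S.card_part hcard) (by decide)
      (S.nsmul_wa 3) (S.solvable_range 3) (S.compRed_range 3))
  · obtain ⟨rfl, rfl⟩ := h4
    exact hle.trans (table_two.{u} 6 (S.Wa 2) (S.wAct 2).range (S.card_part hcard) (by decide)
      (S.nsmul_wa 2) (S.solvable_range 2) (S.compRed_range 2))
  · haveI : Nontrivial (S.Wa s) := Finite.one_lt_card_iff_nontrivial.1
      (S.card_part hcard ▸ Nat.one_lt_pow (by omega) hs'.one_lt)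
    haveI := S.solvable_range s
    refine hle.trans ?_
    have h := five_mul_card_le _ (S.compRed_range s)
    rw [S.card_part hcard, ← pow_mul] at h
    rw [← pow_mul, show a * 6 = 2 * a * 3 by ring]
    omega

theorem dser_map_partDl {s a : ℕ} (hs : s ∈ S.primes) (ha : 1 ≤ a)
    (hcard : Nat.card (S.Wq s) = (s ^ a) ^ 2) (h8 : partDl s a ≤ 8) :
    dser (S.CZ.map (S.wAct s)) (partDl s a) = ⊥ := by
  haveI := finiteGroup (G := G)
  have hs' := S.prime_of_mem hs
  have hgen : 2 * a ≤ 8 → dlGen (2 * a) ≤ partDl s a → dser (S.CZ.map (S.wAct s)) (partDl s a) = ⊥ :=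
    fun hle hd => le_bot_iff.1 ((dser_anti _ hd).trans (S.dser_map_le s
      (genHolds.{u} (2 * a) s (S.Wa s) (S.wAct s).range hs' (S.card_part hcard) hle (S.nsmul_wa s)
        (S.solvable_range s) (S.compRed_range s))).le)
  have htwo : s = 2 → 2 * a ≤ 14 → dlTwo (2 * a) ≤ partDl s a →
      dser (S.CZ.map (S.wAct s)) (partDl s a) = ⊥ := fun e hle hd => by
    subst e
    exact le_bot_iff.1 ((dser_anti _ hd).trans (S.dser_map_le 2
      (twoHolds.{u} (2 * a) (S.Wa 2) (S.wAct 2).range (S.card_part hcard) hle (S.nsmul_wa 2)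
        (S.solvable_range 2) (S.compRed_range 2)).1).le)
  rcases (show a = 1 ∨ a = 2 ∨ 3 ≤ a by omega) with rfl | rfl | ha3
  · by_cases h2 : s = 2
    · exact htwo h2 (by omega) (by subst h2; decide)
    by_cases h3 : s = 3
    · subst h3
      exact S.dser_part_three (by rw [hcard, pow_one])
    · exact hgen (by omega) (by simp [partDl, h2, h3, dlGen])
  · by_cases h2 : s = 2
    · exact htwo h2 (by omega) (by subst h2; decide)
    · exact hgen (by omega) (by simp [partDl, h2, dlGen])
  · by_cases h2 : s = 2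
    · subst h2
      have ha7 : a ≤ 7 := by
        by_contra hc
        simp only [partDl, if_neg (show ¬ a = 1 by omega), if_neg (show ¬ a = 2 by omega),
          if_neg (show ¬ a ≤ 5 by omega), if_neg hc] at h8
        norm_num at h8
      refine htwo rfl (by omega) ?_
      interval_cases a <;> decide
    · have : (a = 3 ∧ (s = 3 ∨ s = 5)) ∨ (a = 4 ∧ s = 3) := by
        by_contra hc
        push Not at hc
        simp only [partDl, if_neg (show ¬ a = 1 by omega), if_neg (show ¬ a = 2 by omega), if_neg h2,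
          if_neg (show ¬ (a = 3 ∧ (s = 3 ∨ s = 5)) by tauto), if_neg (show ¬ (a = 4 ∧ s = 3) by tauto)] at h8
        norm_num at h8
      rcases this with ⟨rfl, rfl | rfl⟩ | ⟨rfl, rfl⟩ <;> exact hgen (by omega) (by decide)

/-- The number `E` with `E² = |F/Z|` and its factorisation. -/
theorem exists_root_card : ∃ E : ℕ, 0 < E ∧ Nat.card (S.F ⧸ S.zF) = E * E ∧ E ≤ S.dimK ∧
    E.primeFactors = S.primes ∧
    ∀ s ∈ S.primes, 1 ≤ E.factorization s ∧ Nat.card (S.Wq s) = (s ^ E.factorization s) ^ 2 := by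
  haveI := finiteGroup (G := G)
  obtain ⟨t, ht, hte⟩ := S.exists_part_size
  have hpos : ∀ s ∈ S.primes, 0 < t s := fun s hs => by
    obtain ⟨a, -, hta, -⟩ := ht s hs
    rw [hta]
    exact pow_pos (S.prime_of_mem hs).pos a
  have hEE : Nat.card (S.F ⧸ S.zF) = (∏ s ∈ S.primes, t s) * ∏ s ∈ S.primes, t s := by
    rw [S.card_quot_eq_prod, ← Finset.prod_mul_distrib]
    refine Finset.prod_congr rfl fun s hs => ?_
    obtain ⟨a, -, hta, hcard⟩ := ht s hs
    rw [hcard, hta, pow_two]
  set E := ∏ s ∈ S.primes, t s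
  have hE0 : 0 < E := Finset.prod_pos hpos
  refine ⟨E, hE0, hEE, hte, ?_, fun s hs => ?_⟩
  · rw [Setup.primes, hEE, Nat.primeFactors_mul hE0.ne' hE0.ne', Finset.union_self]
  · obtain ⟨a, ha, hta, hcard⟩ := ht s hs
    have h1 := S.card_wq (S.prime_of_mem hs)
    rw [hcard, hEE, Nat.factorization_mul hE0.ne' hE0.ne', Finsupp.add_apply, ← pow_mul] at h1
    have h2 : a * 2 = E.factorization s + E.factorization s :=
      Nat.pow_right_injective (S.prime_of_mem hs).two_le h1
    have : E.factorization s = a := by omega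
    rw [this]
    exact ⟨ha, hcard⟩

theorem card_le_of_parts {f P E : ℕ} (hf : 1 ≤ f) (hidx : S.CZ.index ∣ f)
    (hE : Nat.card (S.F ⧸ S.zF) = E * E)
    (hP : ∏ s ∈ S.primes, Nat.card (S.CZ.map (S.wAct s)) ≤ P) :
    Nat.card G ≤ f * P * (E * E) * (Nat.card S.K - 1) := by
  haveI := finiteGroup (G := G)
  have h := S.card_dvd f hidx
  rw [hE] at h
  have hq : 0 < Nat.card S.K - 1 := by
    have : 1 < Nat.card S.K := Finite.one_lt_card
    omega
  refine (Nat.le_of_dvd ?_ h).trans
    (Nat.mul_le_mul_right _ (Nat.mul_le_mul_right _ (Nat.mul_le_mul_left _ hP)))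
  have : 0 < E * E := hE ▸ Nat.card_pos
  have : 0 < ∏ s ∈ S.primes, Nat.card (S.CZ.map (S.wAct s)) := Finset.prod_pos fun s _ => Nat.card_pos
  positivity

end Setup

/-- Two non-zero vectors in different orbits. -/
theorem two_reps_of_not_dvd {G V : Type*} [Group G] [Finite G] [AddCommGroup V] [DistribMulAction G V]
    [Finite V] [Nontrivial V] (h : ¬ Nat.card V - 1 ∣ Nat.card G) :
    ∃ u v : V, u ≠ 0 ∧ v ≠ 0 ∧ ∀ g : G, g • u ≠ v := by
  classical
  haveI := Fintype.ofFinite V
  obtain ⟨v, hv⟩ := exists_ne (0 : V)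
  by_contra hno
  push Not at hno
  refine h ?_
  have : Nat.card (orbit G v) = Nat.card V - 1 := by
    rw [show orbit G v = ({0}ᶜ : Set V) from Set.ext fun w =>
      ⟨fun ⟨g, hg⟩ e => hv ((smul_eq_zero_iff_eq g).1 (hg.trans e)), fun hw => hno v w hv hw⟩,
      Nat.card_coe_set_eq, Set.ncard_compl, Set.ncard_singleton]
  rw [← this, Nat.card_congr (orbitEquivQuotientStabilizer G v)]
  exact Subgroup.card_quotient_dvd_card _

theorem exists_three_of_noSum {G V : Type*} [Group G] [Finite G] [AddCommGroup V]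
    [DistribMulAction G V] [Finite V] [Nontrivial V] {l : List (ℕ × ℕ)}
    (hG : Nat.card G ∣ facProd l) (hl : noSum l (Nat.card V - 1) = true) :
    ∃ f : Fin 3 → V, (∀ i, f i ≠ 0) ∧ ∀ (g : G) i j, g • f i = f j → i = j := by
  rcases orbit_sizes (G := G) (V := V) with h | ⟨a, h1, h2, h3, h4, -⟩ | h
  · exact absurd (h.trans hG) (noSum_one hl)
  · exact absurd (h2.trans hG) (noSum_two hl (h1.trans hG) h4)
  · exact h

namespace Setup

variable (S : Setup p G)

theorem orbs_zero_two {d : ℕ} (hd : DL V (⊤ : Subgroup G) d) (hd7 : d ≤ 7) {u v : V} (hu : u ≠ 0)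
    (hv : v ≠ 0) (huv : ∀ g : G, g • u ≠ v) : Orbs G V 3 7 := by
  refine ⟨![0, u, v], fun g i j e => ?_, fun i => hd.mono le_top hd7⟩
  fin_cases i <;> fin_cases j <;> simp at e ⊢
  · exact hu e.symm
  · exact hv e.symm
  · exact hu ((smul_eq_zero_iff_eq g).1 e)
  · exact huv g e
  · exact hv ((smul_eq_zero_iff_eq g).1 e)
  · exact huv g⁻¹ (inv_smul_eq_iff.2 e.symm)

theorem tier_of_primitive (S : Setup p G) : Tier G V := by
  classical
  haveI := finiteGroup (G := G)
  haveI := S.prim.hirr.1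
  obtain ⟨f, g, hK, hf, hidx, hg, hgCZ⟩ := S.exists_galois_bound
  obtain ⟨w0, hw0⟩ := exists_ne (0 : V)
  have hg1 : g ≤ 1 := by rw [hg]; split_ifs <;> omega
  rcases S.primes.eq_empty_or_nonempty with hP | hP
  · have h := S.dser_of_noPart hgCZ hP
    have hDL : DL V (⊤ : Subgroup G) (g + 1) := DL_of_dser_bot (by
      rw [dser_top_map G, Subgroup.map_eq_bot_iff_of_injective _ G.subtype_injective] at h
      exact h)
    exact Or.inr (Or.inr ⟨hDL.of_le (by omega), w0, hw0, hDL.mono le_top (by omega)⟩)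
  obtain ⟨E, hE0, hEE, hEe, hEp, hEf⟩ := S.exists_root_card
  set q := Nat.card S.K with hq
  set e := S.dimK with he
  have hV : Nat.card V = q ^ e := S.card_eq_pow_dimK
  obtain ⟨s0, hs0⟩ := hP
  have hq3 : 3 ≤ q := by
    have h1 : 1 < q := Finite.one_lt_card
    have h2 := Nat.le_of_dvd (by omega) (S.prime_dvd_sub_one hs0)
    have := (S.prime_of_mem hs0).two_le
    omega
  have hE2 : 2 ≤ E := by
    have hs : s0 ∈ E.primeFactors := hEp ▸ hs0
    exact (S.prime_of_mem hs0).two_le.trans (Nat.le_of_dvd hE0 (Nat.dvd_of_mem_primeFactors hs))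
  have hf2 : 2 ^ f ≤ q := hK ▸ Nat.pow_le_pow_left S.prim.prime.two_le f
  have hfq : f ≤ q := (Nat.lt_two_pow_self).le.trans hf2
  have hF : Nat.card S.F ≤ E * E * q := by
    rw [S.card_F_eq, hEE]
    exact Nat.mul_le_mul_left _ (S.card_z_le.trans (Nat.sub_le _ _))
  -- many orbits outside the vectors fixed inside `F`
  have hreps : ∀ (k B : ℕ), (k - 1) * Nat.card G ≤ B → B + fixTerm E q < q ^ E →
      ∃ x : Fin k → V, (∀ i, ∀ c ∈ S.F, c • x i = x i → c = 1) ∧
        ∀ (y : G) i j, y • x i = x j → i = j := by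
    intro k B hB hlt
    refine exists_orbit_reps (fun v : V => ∀ c ∈ S.F, c • v = v → c = 1) k ?_
    have hbad := S.card_bad_le (q ^ ((e + 1) / 2)) (by
      rw [hV, ← pow_mul]; exact Nat.pow_le_pow_right (by omega) (by omega))
    have hset : Nat.card {v : V // ¬ ∀ c ∈ S.F, c • v = v → c = 1} =
        Nat.card {v : V // ∃ c ∈ S.F, c ≠ 1 ∧ c • v = v} :=
      Nat.card_congr (Equiv.subtypeEquivRight fun v => by push Not; tauto)
    rw [hset, hV]
    obtain ⟨d, hd⟩ := Nat.exists_eq_add_of_le hEe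
    have hpow : q ^ ((e + 1) / 2) ≤ q ^ ((E + 1) / 2) * q ^ d := by
      rw [← pow_add]; exact Nat.pow_le_pow_right (by omega) (by omega)
    calc Nat.card {v : V // ∃ c ∈ S.F, c ≠ 1 ∧ c • v = v} + (k - 1) * Nat.card G
        ≤ E * E * q * (q ^ ((E + 1) / 2) * q ^ d) + B * q ^ d :=
          Nat.add_le_add (hbad.trans (Nat.mul_le_mul hF hpow))
            (hB.trans (Nat.le_mul_of_pos_right _ (pow_pos (by omega) d)))
      _ = (B + fixTerm E q) * q ^ d := by rw [fixTerm, pow_add q 1, pow_one]; ring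
      _ < q ^ E * q ^ d := Nat.mul_lt_mul_of_pos_right hlt (pow_pos (by omega) d)
      _ = q ^ e := by rw [← pow_add, ← hd]
  by_cases hbig : 128 ≤ E ∧ (4 ≤ q ∨ 256 ≤ E)
  · -- five regular orbits
    obtain ⟨hE128, hor⟩ := hbig
    have hPb : ∏ s ∈ S.primes, Nat.card (S.CZ.map (S.wAct s)) ≤ E ^ 6 := by
      have hEprod : E = ∏ s ∈ S.primes, s ^ E.factorization s := by
        conv_lhs => rw [← Nat.prod_factorization_pow_eq_self hE0.ne']
        rw [Finsupp.prod, Nat.support_factorization, hEp]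
      conv_rhs => rw [hEprod, ← Finset.prod_pow]
      refine Finset.prod_le_prod' fun s hs => ?_
      obtain ⟨ha, hcard⟩ := hEf s hs
      haveI : Nontrivial (S.Wa s) := Finite.one_lt_card_iff_nontrivial.1
        (S.card_part hcard ▸ Nat.one_lt_pow (by omega) (S.prime_of_mem hs).one_lt)
      haveI := S.solvable_range s
      have h := five_mul_card_le _ (S.compRed_range s)
      rw [S.card_part hcard, ← pow_mul] at h
      rw [← pow_mul, show E.factorization s * 6 = 2 * E.factorization s * 3 by ring]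
      exact (Subgroup.card_le_of_le (Subgroup.map_le_range _ _)).trans (by omega)
    have hG : Nat.card G ≤ q ^ 2 * E ^ 8 := by
      refine (S.card_le_of_parts hf hidx hEE hPb).trans ?_
      calc f * E ^ 6 * (E * E) * (q - 1) ≤ q * E ^ 6 * (E * E) * q :=
            Nat.mul_le_mul (Nat.mul_le_mul_right _ (Nat.mul_le_mul_right _ hfq)) (Nat.sub_le _ _)
        _ = q ^ 2 * E ^ 8 := by ring
    have hbig' : (5 * Nat.card G) ^ 4 < Nat.card V := by
      refine lt_of_le_of_lt (Nat.pow_le_pow_left (Nat.mul_le_mul_left 5 hG) 4) ?_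
      rw [hV]
      refine lt_of_lt_of_le ?_ (Nat.pow_le_pow_right (by omega) hEe)
      by_cases h4 : 4 ≤ q
      · exact big_cond hE128 h4
      · have hq' : q = 3 := by omega
        rw [hq']
        exact big_cond_three (by omega)
    haveI : Fintype G := Fintype.ofFinite _
    haveI : Fintype V := Fintype.ofFinite _
    obtain ⟨x, hx, hinj⟩ := exists_orbit_reps (G := G) (fun v : V => ∀ c : G, c • v = v → c = 1) 5 (by
      let T : Finset G := Finset.univ.erase 1
      have hcard : ∀ c : G, (Finset.univ.filter fun v : V => c • v = v).card = Nat.card (fixSub c) :=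
        fun c => by
          rw [← Fintype.card_subtype, Nat.card_eq_fintype_card]
          exact Fintype.card_congr (Equiv.refl _)
      obtain ⟨m, hm1, hm4, hm⟩ : ∃ m : ℕ, 1 ≤ m ∧ m ^ 4 ≤ Nat.card V ^ 3 ∧
          ∀ c ∈ T, Nat.card (fixSub c) ≤ m := by
        rcases T.eq_empty_or_nonempty with hT | hT
        · exact ⟨1, le_rfl, by rw [one_pow]; exact Nat.one_le_pow _ _ Nat.card_pos,
            fun c hc => by simp [hT] at hc⟩
        · obtain ⟨c0, hc0, hmax⟩ := T.exists_max_image (fun c => Nat.card (fixSub c)) hT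
          exact ⟨_, Nat.card_pos, S.card_fix (Finset.mem_erase.1 hc0).1, hmax⟩
      have hb : Nat.card {v : V // ¬ ∀ c : G, c • v = v → c = 1} ≤ Nat.card G * m := by
        rw [Nat.card_eq_fintype_card, Fintype.card_subtype]
        refine (Finset.card_le_card (t := T.biUnion fun c => Finset.univ.filter fun v => c • v = v)
          fun v hv => ?_).trans (Finset.card_biUnion_le.trans
            ((Finset.sum_le_card_nsmul T _ m fun c hc => (hcard c).le.trans (hm c hc)).trans ?_))
        · obtain ⟨c, hc1, hc2⟩ := not_forall.1 (Finset.mem_filter.1 hv).2 |>.imp fun c h =>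
            (Classical.not_imp.1 h)
          exact Finset.mem_biUnion.2 ⟨c, Finset.mem_erase.2 ⟨hc2, Finset.mem_univ _⟩, by simp [hc1]⟩
        · rw [smul_eq_mul, Nat.card_eq_fintype_card]
          exact Nat.mul_le_mul_right _ (Finset.card_le_univ _)
      refine lt_of_le_of_lt (b := 5 * Nat.card G * m) ?_ ?_
      · have : (5 - 1) * Nat.card G ≤ 4 * Nat.card G * m := Nat.le_mul_of_pos_right _ hm1
        calc _ ≤ Nat.card G * m + 4 * Nat.card G * m := Nat.add_le_add hb this
          _ = _ := by ring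
      · refine lt_of_pow_lt_pow_left₀ 4 (Nat.zero_le _) ?_
        calc (5 * Nat.card G * m) ^ 4 = (5 * Nat.card G) ^ 4 * m ^ 4 := by ring
          _ ≤ (5 * Nat.card G) ^ 4 * Nat.card V ^ 3 := Nat.mul_le_mul_left _ hm4
          _ < Nat.card V * Nat.card V ^ 3 :=
              Nat.mul_lt_mul_of_pos_right hbig' (pow_pos Nat.card_pos 3)
          _ = Nat.card V ^ 4 := by ring)
    refine Or.inl ⟨x, hinj, fun i => ?_⟩
    intro c hc v
    rw [hx i c (mem_stabilizer_iff.1 (dser_le _ _ hc)), one_smul]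
  push Not at hbig
  by_cases hE128 : 128 ≤ E
  · -- the part of order `2 ^ 14` over three elements
    obtain ⟨hq4, hE256⟩ := hbig hE128
    have hq' : q = 3 := by omega
    have hs2 : ∀ s ∈ S.primes, s = 2 := by
      intro s hs
      have h := Nat.le_of_dvd (by omega) (S.prime_dvd_sub_one hs)
      have := (S.prime_of_mem hs).two_le
      omega
    have hsing : S.primes = {2} :=
      Finset.eq_singleton_iff_unique_mem.2 ⟨hs2 s0 hs0 ▸ hs0, hs2⟩
    have hE' : E = 2 ^ E.factorization 2 := by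
      conv_lhs => rw [← Nat.prod_factorization_pow_eq_self hE0.ne']
      rw [Finsupp.prod, Nat.support_factorization, hEp, hsing, Finset.prod_singleton]
    have ha7 : E.factorization 2 = 7 := by
      have h1 : 2 ^ 7 ≤ 2 ^ E.factorization 2 := by rw [← hE']; exact hE128
      have h2 : 2 ^ E.factorization 2 < 2 ^ 8 := by rw [← hE']; exact hE256
      have := (Nat.pow_le_pow_iff_right one_lt_two).1 h1
      have := (Nat.pow_lt_pow_iff_right one_lt_two).1 h2
      omega
    have hEv : E = 128 := by rw [hE', ha7]; norm_num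
    have hh : ∀ s ∈ S.primes, dser (S.CZ.map (S.wAct s)) 7 = ⊥ := by
      intro s hs
      obtain ⟨ha, hcard⟩ := hEf s hs
      obtain rfl := hs2 s hs
      have h := S.dser_map_partDl hs ha hcard (by rw [ha7]; decide)
      rw [ha7] at h
      exact le_bot_iff.1 ((dser_anti _ (show partDl 2 7 ≤ 7 by decide)).trans h.le)
    have hPb : ∏ s ∈ S.primes, Nat.card (S.CZ.map (S.wAct s)) ≤ 128 ^ 6 := by
      rw [hsing, Finset.prod_singleton]
      obtain ⟨ha, hcard⟩ := hEf 2 (hsing ▸ Finset.mem_singleton_self 2)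
      refine (S.card_map_le (hsing ▸ Finset.mem_singleton_self 2) ha hcard).trans ?_
      rw [ha7]
      decide
    have hG := S.card_le_of_parts hf hidx hEE hPb
    obtain ⟨x, hx, hinj⟩ := hreps 5 (4 * (3 * 128 ^ 6 * (128 * 128) * 3)) (by
      refine Nat.mul_le_mul_left 4 (hG.trans ?_)
      rw [hEv]
      exact Nat.mul_le_mul (Nat.mul_le_mul_right _ (Nat.mul_le_mul_right _ (by omega))) (by omega))
      (by rw [hq', hEv]; norm_num [fixTerm])
    exact Or.inl ⟨x, hinj, fun i => (S.DL_stab' hgCZ hh (hx i)).of_le (by omega)⟩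
  push Not at hE128
  -- the small cases
  have hmult : ∀ s ∈ S.primes, multB s E = E.factorization s ∧ s ∈ primesB E := by
    intro s hs
    refine ⟨multB_eq (S.prime_of_mem hs) hE0 rfl ?_, (mem_primesB hE0).2 (hEp ▸ hs)⟩
    by_contra hc
    have h1 := Nat.le_of_dvd hE0 (Nat.ordProj_dvd E s)
    have h2 : 2 ^ 8 ≤ s ^ E.factorization s :=
      (Nat.pow_le_pow_left (S.prime_of_mem hs).two_le 8).trans
        (Nat.pow_le_pow_right (S.prime_of_mem hs).pos (by omega))
    omega
  have hPb : ∏ s ∈ S.primes, Nat.card (S.CZ.map (S.wAct s)) ≤ totalBound E := by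
    rw [totalBound_eq hE0, hEp]
    refine Finset.prod_le_prod' fun s hs => ?_
    rw [(hmult s hs).1]
    exact S.card_map_le hs (hEf s hs).1 (hEf s hs).2
  have hH8 := small_dl E hE128
  have hh : ∀ s ∈ S.primes, dser (S.CZ.map (S.wAct s)) (totalDl E) = ⊥ := by
    intro s hs
    have hle : partDl s (E.factorization s) ≤ totalDl E := by
      rw [← (hmult s hs).1]; exact partDl_le_total (hmult s hs).2
    exact le_bot_iff.1 ((dser_anti _ hle).trans
      (S.dser_map_partDl hs (hEf s hs).1 (hEf s hs).2 (hle.trans hH8)).le)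
  have hG := S.card_le_of_parts hf hidx hEE hPb
  rw [← hq] at hG
  have hVE : q ^ E ≤ Nat.card V := hV ▸ Nat.pow_le_pow_right (by omega) hEe
  have hGq : Nat.card G ≤ totalBound E * (E * E) * q ^ 2 := by
    refine hG.trans ?_
    calc f * totalBound E * (E * E) * (q - 1) ≤ q * totalBound E * (E * E) * q :=
          Nat.mul_le_mul (Nat.mul_le_mul_right _ (Nat.mul_le_mul_right _ hfq)) (Nat.sub_le _ _)
      _ = _ := by ring
  have three_ne : 2 * Nat.card G + 1 < Nat.card V → g + totalDl E + 1 ≤ 7 → Tier G V := by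
    intro h hd
    obtain ⟨x, hx, hinj⟩ := exists_orbit_reps_ne_zero (G := G) (V := V) 3 (by simpa using h)
    exact Or.inr (Or.inl ⟨x, hinj, fun i => (S.DL_stab hgCZ hh (hx i)).of_le hd⟩)
  have two_ne : Nat.card G + 1 < Nat.card V → g + totalDl E + 2 ≤ 7 → Tier G V := by
    intro h hd
    obtain ⟨x, hx, hinj⟩ := exists_orbit_reps_ne_zero (G := G) (V := V) 2 (by simpa using h)
    exact Or.inr (Or.inl (Setup.orbs_zero_two (S.DL_top hgCZ hh) hd (hx 0) (hx 1)
      fun y e => absurd (hinj y 0 1 e) (by decide)))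
  have three_sum : ∀ l : List (ℕ × ℕ), Nat.card G ∣ facProd l → noSum l (Nat.card V - 1) = true →
      g + totalDl E + 1 ≤ 7 → Tier G V := fun l h1 h2 hd => by
    obtain ⟨x, hx, hinj⟩ := exists_three_of_noSum (G := G) h1 h2
    exact Or.inr (Or.inl ⟨x, hinj, fun i => (S.DL_stab hgCZ hh (hx i)).of_le hd⟩)
  have hdvd1 : ∀ (s n F0 M : ℕ), S.primes = {s} → 2 * E.factorization s = n → f ∣ F0 →
      (∏ i : Fin n, (s ^ n - s ^ (i : ℕ))) = M →
      Nat.card G ∣ F0 * M * (E * E) * (q - 1) := by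
    intro s n F0 M hsing hn hF0 hM
    have h := S.card_dvd f hidx
    rw [hsing, Finset.prod_singleton, hEE] at h
    have hs : s ∈ S.primes := hsing ▸ Finset.mem_singleton_self s
    refine h.trans (mul_dvd_mul_right (mul_dvd_mul_right (mul_dvd_mul hF0 ?_) _) _)
    rw [← hM, ← hn]
    exact card_dvd_GL (S.prime_of_mem hs) (S.nsmul_wa s) (S.card_part (hEf s hs).2) _
  have hprimes_dvd : ∀ s ∈ primesB E, s ∣ q - 1 := fun s hs =>
    S.prime_dvd_sub_one (hEp ▸ (mem_primesB hE0).1 hs)
  have hfac : ∀ (s a : ℕ), s.Prime → 1 ≤ a → E = s ^ a →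
      S.primes = {s} ∧ E.factorization s = a := fun s a hs ha h => by
    refine ⟨?_, by rw [h, hs.factorization_pow, Finsupp.single_eq_same]⟩
    rw [← hEp, h, Nat.primeFactors_prime_pow (by omega) hs]
  rcases small_cases hE2 hE128 hq3 hprimes_dvd with h3 | hc | hl
  · exact Or.inr (Or.inr ⟨(S.DL_top hgCZ hh).of_le (by omega), w0, hw0,
      (S.DL_stab hgCZ hh hw0).of_le (by omega)⟩)
  · simp only [countCond, Bool.or_eq_true, Bool.and_eq_true, decide_eq_true_eq] at hc
    rcases hc with (⟨h1, h2⟩ | ⟨h1, h2⟩) | ⟨h1, h2⟩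
    · exact three_ne (lt_of_le_of_lt (Nat.add_le_add_right (Nat.mul_le_mul_left 2 hGq) 1)
        (lt_of_lt_of_le h2 hVE)) (by omega)
    · obtain ⟨x, hx, hinj⟩ := hreps 3 _ (Nat.mul_le_mul_left 2 hGq) h2
      exact Or.inr (Or.inl ⟨x, hinj, fun i => (S.DL_stab' hgCZ hh (hx i)).of_le (by omega)⟩)
    · obtain ⟨x, hx, hinj⟩ := hreps 5 _ (Nat.mul_le_mul_left 4 hGq) h2
      exact Or.inl ⟨x, hinj, fun i => (S.DL_stab' hgCZ hh (hx i)).of_le (by omega)⟩
  simp only [listed, Bool.or_eq_true, Bool.and_eq_true, decide_eq_true_eq] at hl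
  have hf1 : q.Prime → f = 1 ∧ g = 0 := fun h => by
    have : f = 1 := (Nat.Prime.pow_eq_iff (hK ▸ h : (p ^ f).Prime)).1 (rfl) |>.2
    exact ⟨this, by rw [hg, if_pos this]⟩
  rcases hl with ((((⟨hE5, (hq6 | hq11) | hq16⟩ | ⟨hE7, hq8⟩) | ⟨hE8, (hq3' | hq5) | hq7⟩) |
      ⟨hE9, hq4⟩) | ⟨hE16, hq3' | hq5⟩)
  · exfalso
    have h2 : 2 ∣ p ^ f := ⟨3, by rw [← hK, hq6]⟩
    have h3 : 3 ∣ p ^ f := ⟨2, by rw [← hK, hq6]⟩
    have e2 := (Nat.prime_dvd_prime_iff_eq Nat.prime_two S.prim.prime).1 (Nat.prime_two.dvd_of_dvd_pow h2)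
    have e3 := (Nat.prime_dvd_prime_iff_eq Nat.prime_three S.prim.prime).1 (Nat.prime_three.dvd_of_dvd_pow h3)
    omega
  · obtain ⟨-, hg0⟩ := hf1 (by rw [hq11]; norm_num)
    have hT : totalDl E = 4 := by rw [hE5]; decide +kernel
    exact Or.inr (Or.inr ⟨(S.DL_top hgCZ hh).of_le (by omega), w0, hw0,
      (S.DL_stab hgCZ hh hw0).of_le (by omega)⟩)
  · have hT : totalDl E = 4 := by rw [hE5]; decide +kernel
    have hB : totalBound E = 120 := by rw [hE5]; decide +kernel
    have hf4 : f ≤ 4 := (Nat.pow_le_pow_iff_right one_lt_two).1 (show 2 ^ f ≤ 2 ^ 4 by omega)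
    rw [hB, hE5, hq16] at hG
    have : Nat.card G ≤ 4 * 120 * (5 * 5) * (16 - 1) :=
      hG.trans (Nat.mul_le_mul_right _ (Nat.mul_le_mul_right _ (Nat.mul_le_mul_right _ hf4)))
    rw [hE5, hq16] at hVE
    exact two_ne (by omega) (by omega)
  · have hT : totalDl E = 4 := by rw [hE7]; decide +kernel
    have hB : totalBound E = 336 := by rw [hE7]; decide +kernel
    have hf3 : f ≤ 3 := (Nat.pow_le_pow_iff_right one_lt_two).1 (show 2 ^ f ≤ 2 ^ 3 by omega)
    rw [hB, hE7, hq8] at hG
    have : Nat.card G ≤ 3 * 336 * (7 * 7) * (8 - 1) :=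
      hG.trans (Nat.mul_le_mul_right _ (Nat.mul_le_mul_right _ (Nat.mul_le_mul_right _ hf3)))
    rw [hE7, hq8] at hVE
    exact two_ne (by omega) (by omega)
  · -- three elements, `E = 8`
    obtain ⟨hf', hg0⟩ := hf1 (by rw [hq3']; norm_num)
    have hT : totalDl E = 6 := by rw [hE8]; decide +kernel
    have hB : totalBound E = 1296 := by rw [hE8]; decide +kernel
    rw [hB, hE8, hq3', hf'] at hG
    by_cases he12 : 12 ≤ e
    · have h12 : 3 ^ 12 ≤ Nat.card V := by
        rw [hV, hq3']; exact Nat.pow_le_pow_right (by norm_num) he12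
      exact three_ne (by omega) (by omega)
    push Not at he12
    have he8 : 8 ≤ e := hE8 ▸ hEe
    have hN : Nat.card V - 1 = 3 ^ e - 1 := by rw [hV, hq3']
    obtain ⟨hsing, ha⟩ := hfac 2 3 Nat.prime_two (by norm_num) (by rw [hE8]; norm_num)
    have hcard := (hEf 2 (hsing ▸ Finset.mem_singleton_self 2)).2
    rw [ha] at hcard
    rcases (twoHolds.{u} 6 (S.Wa 2) (S.wAct 2).range (S.card_part hcard) (by norm_num)
        (S.nsmul_wa 2) (S.solvable_range 2) (S.compRed_range 2)).2 rfl with h5 | hsm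
    · have hh5 : ∀ s ∈ S.primes, dser (S.CZ.map (S.wAct s)) 5 = ⊥ := fun s hs => by
        rw [hsing, Finset.mem_singleton] at hs
        subst hs
        exact S.dser_map_le 2 h5
      have hnd : ¬ Nat.card V - 1 ∣ Nat.card G := by
        intro h
        have hd := h.trans (hdvd1 2 6 1 20158709760 hsing (by omega) (by rw [hf']) (by decide +kernel))
        rw [hN, hE8, hq3'] at hd
        refine nosum_eightThree e he12 he8 (Nat.dvd_iff_mod_eq_zero.1 (hd.trans ?_))
        rw [facs_val.1]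
      obtain ⟨u, v, hu, hv, huv⟩ := two_reps_of_not_dvd hnd
      exact Or.inr (Or.inl (Setup.orbs_zero_two (S.DL_top hgCZ hh5) (by omega) hu hv huv))
    · refine three_sum facSmooth ?_ (by rw [hN]; exact nosum_smooth e he12 he8) (by omega)
      have h := S.card_dvd f hidx
      rw [hsing, Finset.prod_singleton, hEE, hE8, ← hq, hq3', hf'] at h
      refine h.trans ?_
      rw [facs_val.2.2.1]
      have hm : Nat.card (S.CZ.map (S.wAct 2)) ∣ 2 ^ 20 * 3 ^ 10 :=
        (Subgroup.card_dvd_of_le (Subgroup.map_le_range _ _)).trans hsm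
      calc 1 * Nat.card (S.CZ.map (S.wAct 2)) * (8 * 8) * (3 - 1)
          ∣ 1 * (2 ^ 20 * 3 ^ 10) * (8 * 8) * (3 - 1) :=
            mul_dvd_mul_right (mul_dvd_mul_right (mul_dvd_mul_left _ hm) _) _
        _ ∣ 2 * 64 * (2 ^ 20 * 3 ^ 10) := dvd_of_eq (by norm_num)
  · -- five elements, `E = 8`
    obtain ⟨hf', hg0⟩ := hf1 (by rw [hq5]; norm_num)
    have hT : totalDl E = 6 := by rw [hE8]; decide +kernel
    have hB : totalBound E = 1296 := by rw [hE8]; decide +kernel
    rw [hB, hE8, hq5, hf'] at hG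
    by_cases he9 : 9 ≤ e
    · have h9 : 5 ^ 9 ≤ Nat.card V := by
        rw [hV, hq5]; exact Nat.pow_le_pow_right (by norm_num) he9
      exact three_ne (by omega) (by omega)
    have he8 : e = 8 := by have := hE8 ▸ hEe; omega
    obtain ⟨hsing, ha⟩ := hfac 2 3 Nat.prime_two (by norm_num) (by rw [hE8]; norm_num)
    refine three_sum facEightFive ?_ (by rw [hV, hq5, he8]; exact nosum_eightFive) (by omega)
    refine (hdvd1 2 6 1 20158709760 hsing (by omega) (by rw [hf']) (by decide +kernel)).trans ?_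
    rw [facs_val.2.1, hE8, hq5]
  · -- seven elements, `E = 8`
    obtain ⟨hf', hg0⟩ := hf1 (by rw [hq7]; norm_num)
    have hT : totalDl E = 6 := by rw [hE8]; decide +kernel
    have hB : totalBound E = 1296 := by rw [hE8]; decide +kernel
    rw [hB, hE8, hq7, hf'] at hG
    rw [hE8, hq7] at hVE
    exact three_ne (by omega) (by omega)
  · -- four elements, `E = 9`
    have hT : totalDl E = 5 := by rw [hE9]; decide +kernel
    have hB : totalBound E = 4608 := by rw [hE9]; decide +kernel
    have hf2' : f ≤ 2 := (Nat.pow_le_pow_iff_right one_lt_two).1 (show 2 ^ f ≤ 2 ^ 2 by omega)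
    rw [hB, hE9, hq4] at hG
    have hG' : Nat.card G ≤ 2 * 4608 * (9 * 9) * (4 - 1) :=
      hG.trans (Nat.mul_le_mul_right _ (Nat.mul_le_mul_right _ (Nat.mul_le_mul_right _ hf2')))
    by_cases he12 : 12 ≤ e
    · have h12 : 4 ^ 12 ≤ Nat.card V := by
        rw [hV, hq4]; exact Nat.pow_le_pow_right (by norm_num) he12
      exact three_ne (by omega) (by omega)
    push Not at he12
    have he9 : 9 ≤ e := hE9 ▸ hEe
    obtain ⟨hsing, ha⟩ := hfac 3 2 Nat.prime_three (by norm_num) (by rw [hE9]; norm_num)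
    refine three_sum facNineFour ?_ (by rw [hV, hq4]; exact nosum_nineFour e he12 he9) (by omega)
    refine (hdvd1 3 4 2 24261120 hsing (by omega) ?_ (by decide +kernel)).trans ?_
    · interval_cases f <;> norm_num
    · rw [facs_val.2.2.2.1, hE9, hq4]
  · -- three elements, `E = 16`
    obtain ⟨hf', hg0⟩ := hf1 (by rw [hq3']; norm_num)
    have hT : totalDl E = 6 := by rw [hE16]; decide +kernel
    have hB : totalBound E = 16 ^ 6 := by rw [hE16]; decide +kernel
    rw [hB, hE16, hq3', hf'] at hG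
    by_cases he22 : 22 ≤ e
    · have h22 : 3 ^ 22 ≤ Nat.card V := by
        rw [hV, hq3']; exact Nat.pow_le_pow_right (by norm_num) he22
      exact three_ne (by omega) (by omega)
    push Not at he22
    have he16 : 16 ≤ e := hE16 ▸ hEe
    obtain ⟨hsing, ha⟩ := hfac 2 4 Nat.prime_two (by norm_num) (by rw [hE16]; norm_num)
    refine three_sum facSixteen ?_ (by rw [hV, hq3']; exact nosum_sixteen e he22 he16) (by omega)
    refine (hdvd1 2 8 1 5348063769211699200 hsing (by omega) (by rw [hf']) (by decide +kernel)).trans ?_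
    rw [facs_val.2.2.2.2, hE16, hq3']
  · -- five elements, `E = 16`
    obtain ⟨hf', hg0⟩ := hf1 (by rw [hq5]; norm_num)
    have hT : totalDl E = 6 := by rw [hE16]; decide +kernel
    have hB : totalBound E = 16 ^ 6 := by rw [hE16]; decide +kernel
    rw [hB, hE16, hq5, hf'] at hG
    rw [hE16, hq5] at hVE
    exact three_ne (by omega) (by omega)

end Setup

theorem tier_primitive (p : ℕ) (V : Type u) [AddCommGroup V] [Finite V]
    (G : Subgroup (AddMonoid.End V)ˣ) (h : IsPrim p G) : Tier G V := by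
  obtain ⟨S⟩ := exists_setup h
  exact S.tier_of_primitive

end CfsgLib.RegOrbit
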