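import Mathlib
import Cfsg.Agent.Lib.RegOrbit.SmallDerived.Primitive
import Cfsg.Agent.Lib.RegOrbit.PairOdd
import Cfsg.Agent.Lib.OddLocal.GLTwoDerived
import Cfsg.Agent.Lib.Components.FStar
import Cfsg.Agent.Lib.Core.Cores

/-!
# The parts of a primitive soluble linear group of odd order
-/

set_option autoImplicit false
set_option linter.all false

namespace CfsgLib.RegOrbit

universe u

open MulAction
open scoped commutatorElement

section General

variable {W : Type u} [AddCommGroup W] [Finite W]

/-- A completely reducible group has no normal subgroup of order a power of the characteristic. -/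
theorem eq_bot_of_normal_pGroup {s : ℕ} [Fact s.Prime] (hexp : ∀ w : W, s • w = 0)
    {X : Subgroup (AddMonoid.End W)ˣ} (hcr : CompRed X W) (N : Subgroup X) [hN : N.Normal]
    (hp : IsPGroup s N) : N = ⊥ := by
  classical
  let U : AddSubgroup W :=
    { carrier := {w | ∀ n ∈ N, n • w = w}
      zero_mem' := fun n _ => smul_zero n
      add_mem' := fun {a b} ha hb n hn => by rw [smul_add, ha n hn, hb n hn]
      neg_mem' := fun {a} ha n hn => by rw [smul_neg, ha n hn] }
  have hU : ∀ g : X, ∀ v ∈ U, g • v ∈ U := by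
    intro g v hv n hn
    have := hv _ (hN.conj_mem' n hn g)
    rw [mul_smul, mul_smul, inv_smul_eq_iff] at this
    exact this
  obtain ⟨C, hC, hUC, hsup⟩ := hcr U hU
  have hC0 : C = ⊥ := by
    by_contra hne
    haveI : Nontrivial C := (AddSubgroup.nontrivial_iff_ne_bot C).2 hne
    letI : MulAction N C :=
      { smul := fun n c => ⟨(n : X) • (c : W), hC _ _ c.2⟩
        one_smul := fun c => Subtype.ext (one_smul X (c : W))
        mul_smul := fun m n c => Subtype.ext (mul_smul (m : X) (n : X) (c : W)) }
    have hdvd : s ∣ Nat.card C := by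
      obtain ⟨c, hc⟩ := exists_ne (0 : C)
      have : addOrderOf c = s := addOrderOf_eq_prime (Subtype.ext (hexp c)) hc
      exact this ▸ addOrderOf_dvd_natCard c
    have h0 : (0 : C) ∈ fixedPoints N C := fun n => Subtype.ext (smul_zero (n : X))
    obtain ⟨c, hc, hne0⟩ := hp.exists_fixed_point_of_prime_dvd_card_of_fixed_point C hdvd h0
    have hcU : (c : W) ∈ U := fun n hn => congrArg Subtype.val (hc ⟨n, hn⟩)
    have : (c : W) ∈ U ⊓ C := ⟨hcU, c.2⟩
    rw [hUC] at this
    exact hne0 (Subtype.ext (AddSubgroup.mem_bot.1 this).symm)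
  rw [hC0, sup_bot_eq] at hsup
  refine (Subgroup.eq_bot_iff_forall _).2 fun n hn => Subtype.ext (Units.ext (DFunLike.ext _ _ fun w => ?_))
  exact (hsup ▸ AddSubgroup.mem_top w : w ∈ U) n hn

/-- An odd soluble completely reducible group has at most `|W|²` elements. -/
theorem card_le_sq_odd (R : Subgroup (AddMonoid.End W)ˣ) [Group.IsSolvable R]
    (hcr : CompRed R W) (hodd : Odd (Nat.card R)) : Nat.card R ≤ Nat.card W ^ 2 := by
  haveI := finiteGroup (G := R)
  obtain ⟨x, y, h⟩ := exists_pair_of_odd W R hodd hcr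
  refine (Nat.card_le_card_of_injective (fun g : R => (g • x, g • y)) fun a b e => ?_).trans
    (by rw [Nat.card_prod, pow_two])
  obtain ⟨e1, e2⟩ := Prod.ext_iff.1 e
  have := h (b⁻¹ * a) (by rw [mul_smul, inv_smul_eq_iff]; exact e1)
    (by rw [mul_smul, inv_smul_eq_iff]; exact e2)
  exact (inv_mul_eq_one.1 (Subtype.ext (Units.ext (DFunLike.ext _ _ this)))).symm

/-- The automorphisms of a group of exponent `s` as matrices. -/
theorem exists_toGL {s n : ℕ} (hs : s.Prime) (hexp : ∀ w : W, s • w = 0) (hW : Nat.card W = s ^ n) :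
    ∃ κ : (AddMonoid.End W)ˣ →* GL (Fin n) (ZMod s), Function.Injective κ := by
  letI : Module (ZMod s) W := AddCommGroup.zmodModule (n := s) hexp
  haveI := Fact.mk hs
  let f : (AddMonoid.End W)ˣ →* LinearMap.GeneralLinearGroup (ZMod s) W :=
    Units.map
      { toFun := fun φ => AddMonoidHom.toZModLinearMap s φ
        map_one' := rfl
        map_mul' := fun _ _ => rfl }
  have hf : Function.Injective f := fun x y e => Units.ext (DFunLike.ext _ _ fun w =>
    LinearMap.congr_fun (congrArg Units.val e) w)
  haveI : Module.Finite (ZMod s) W := Module.Finite.of_finite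
  have hd : Module.finrank (ZMod s) W = n := by
    refine Nat.pow_right_injective hs.two_le ?_
    show s ^ _ = s ^ n
    have h3 := Module.natCard_eq_pow_finrank (K := ZMod s) (V := W)
    rw [Nat.card_zmod] at h3
    exact h3.symm.trans hW
  let b := Module.finBasisOfFinrankEq (ZMod s) W hd
  let e : LinearMap.GeneralLinearGroup (ZMod s) W ≃* GL (Fin n) (ZMod s) :=
    Units.mapEquiv (algEquivMatrix b).toMulEquiv
  exact ⟨e.toMonoidHom.comp f, e.injective.comp hf⟩

end General

namespace Setup

variable {V : Type u} [AddCommGroup V] [Finite V]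
variable {p : ℕ} {G : Subgroup (AddMonoid.End V)ˣ} (S : Setup p G)

theorem odd_range (hodd : Odd (Nat.card G)) (s : ℕ) : Odd (Nat.card (S.wAct s).range) :=
  hodd.of_dvd_nat (Subgroup.card_range_dvd _)

theorem odd_map (hodd : Odd (Nat.card G)) (s : ℕ) : Odd (Nat.card (S.CZ.map (S.wAct s))) :=
  (S.odd_range hodd s).of_dvd_nat (Subgroup.card_dvd_of_le (Subgroup.map_le_range _ _))

theorem prime_odd (hodd : Odd (Nat.card G)) {s : ℕ} (hs : s ∈ S.primes) : s ≠ 2 := by
  intro e
  subst e
  have h := (S.prime_dvd_card_z hs).trans (Subgroup.card_subgroup_dvd_card S.Z)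
  exact Nat.not_even_iff_odd.2 hodd (even_iff_two_dvd.2 h)

/-- The whole group is abelian on a part of order `s²`. -/
theorem part_abelian_one (hodd : Odd (Nat.card G)) {s : ℕ} (hs : s ∈ S.primes)
    (hcard : Nat.card (S.Wq s) = s ^ 2) : dser (S.wAct s).range 1 = ⊥ := by
  classical
  haveI := finiteGroup (G := G)
  have hs' := S.prime_of_mem hs
  haveI := Fact.mk hs'
  obtain ⟨κ, hκ⟩ := exists_toGL hs' (S.nsmul_wa s) (show Nat.card (S.Wa s) = s ^ 2 from hcard)
  let ι : (S.wAct s).range →* GL (Fin 2) (ZMod s) := κ.comp (S.wAct s).range.subtype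
  have hι : Function.Injective ι := hκ.comp (Subgroup.subtype_injective _)
  haveI := S.solvable_range s
  haveI : Group.IsSolvable ι.range :=
    Group.isSolvable_of_surjective (f := ι.rangeRestrict) ι.rangeRestrict_surjective
  have hH : Odd (Nat.card ι.range) := (S.odd_range hodd s).of_dvd_nat (Subgroup.card_range_dvd _)
  have hp := CfsgLib.OddLocal.GLTwoDerived.derived_isPGroup (p := s) (S.prime_odd hodd hs) ι.range hH
  have hle : (_root_.commutator (S.wAct s).range).map ι.rangeRestrict ≤ _root_.commutator ι.range := by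
    rw [_root_.commutator_def, Subgroup.map_commutator]
    exact Subgroup.commutator_mono le_top le_top
  have hcomm : IsPGroup s (_root_.commutator (S.wAct s).range) := by
    refine (hp.of_injective
      (((ι.rangeRestrict).comp (_root_.commutator (S.wAct s).range).subtype).codRestrict _ ?_) ?_)
    · intro x
      exact hle ⟨x, x.2, rfl⟩
    · intro x y h
      exact Subtype.ext (hι (congrArg Subtype.val (congrArg Subtype.val h)))
  have := eq_bot_of_normal_pGroup (S.nsmul_wa s) (S.compRed_range s) _ hcomm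
  rw [dser_top_map, Subgroup.map_eq_bot_iff_of_injective _ (Subgroup.subtype_injective _)]
  exact this

/-- The fixed points of an element of order prime to `s` are non-degenerate. -/
theorem card_fix_sq {s r : ℕ} (hs : s.Prime) (hr : r.Prime) (hrs : r ≠ s) {x : G} (hx : x ∈ S.CZ)
    (hxr : S.wAct s x ^ r = 1) :
    ∃ i, Nat.card {w : S.Wa s // S.wAct s x • w = w} = (s ^ i) ^ 2 ∧
      Nat.card (S.Wa s) ≡ (s ^ i) ^ 2 [MOD r] := by
  classical
  haveI := finiteGroup (G := G)
  set σ := S.wAct s x with hσ
  let Fix : AddSubgroup (S.Wa s) :=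
    { carrier := {w | σ • w = w}
      zero_mem' := smul_zero σ
      add_mem' := fun {a b} ha hb => by
        show σ • (a + b) = a + b
        rw [smul_add, show σ • a = a from ha, show σ • b = b from hb]
      neg_mem' := fun {a} ha => by
        show σ • (-a) = -a
        rw [smul_neg, show σ • a = a from ha] }
  let M : Subgroup (S.layer s) := (AddSubgroup.toSubgroup' Fix).comap (QuotientGroup.mk' (S.zL s))
  let N : Subgroup G := M.map (S.layer s).subtype
  have hNL : N ≤ S.layer s := Subgroup.map_subtype_le _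
  have hmemN : ∀ f : S.layer s, (f : G) ∈ N ↔ σ • Additive.ofMul (f : S.Wq s) = Additive.ofMul (f : S.Wq s) := by
    intro f
    constructor
    · rintro ⟨f', hf', e⟩
      rw [← show f' = f from Subtype.ext e]
      exact hf'
    · exact fun h => ⟨f, h, rfl⟩
  have hzero : ∀ f : S.layer s, (f : G) ∈ S.Z → Additive.ofMul (f : S.Wq s) = 0 := fun f hf =>
    congrArg Additive.ofMul ((QuotientGroup.eq_one_iff (N := S.zL s) f).2 hf)
  have hZN : S.Z ≤ N := fun z hz => (hmemN ⟨z, S.z_le_layer s hz⟩).2 (by rw [hzero _ hz, smul_zero])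
  have hnd : ∀ a ∈ N, (∀ u ∈ N, a * u = u * a) → a ∈ S.Z := by
    intro a ha hca
    have haL := hNL ha
    refine S.eq_Z_of_layer haL fun b hb => cm_eq_one_iff.1 ?_
    let c : ℕ → S.layer s := fun i => ⟨x ^ i * b * (x ^ i)⁻¹, S.conj_mem_layer s (x ^ i) hb⟩
    have hc : ∀ i, Additive.ofMul (c i : S.Wq s) = σ ^ i • Additive.ofMul ((⟨b, hb⟩ : S.layer s) : S.Wq s) :=
      fun i => by rw [hσ, ← map_pow, S.wAct_mk]
    have hcm : ∀ i, cm a (c i : G) = cm a b := by
      intro i
      induction i with
      | zero => simp [c]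
      | succ i ih =>
        have hfix : σ • Additive.ofMul ((⟨a, haL⟩ : S.layer s) : S.Wq s)
            = Additive.ofMul ((⟨a, haL⟩ : S.layer s) : S.Wq s) := (hmemN ⟨a, haL⟩).1 ha
        have h1 := S.bil_wAct s hx ⟨a, haL⟩ (c i)
        rw [hfix, hc, ← mul_smul, ← pow_succ', ← hc] at h1
        change S.bil s _ _ = _ at h1
        rw [toMul_ofMul, toMul_ofMul, S.bil_mk] at h1
        exact h1.trans ih
    let P : ℕ → S.layer s := fun n => Nat.rec (motive := fun _ => S.layer s) 1 (fun i acc => acc * c i) n
    have hP : ∀ n, Additive.ofMul (QuotientGroup.mk (P n) : S.Wq s)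
        = ∑ i ∈ Finset.range n, σ ^ i • Additive.ofMul ((⟨b, hb⟩ : S.layer s) : S.Wq s) := by
      intro n
      induction n with
      | zero => rfl
      | succ n ih =>
        rw [Finset.sum_range_succ, ← ih, ← hc]
        rfl
    have hcmP : ∀ n, cm a (P n : G) = cm a b ^ n := by
      intro n
      induction n with
      | zero => simp [P, cm]
      | succ n ih =>
        show cm a ((P n * c n : S.layer s) : G) = _
        rw [Subgroup.coe_mul, S.cm_mul_right (S.layer_le s (P n).2) (S.layer_le s (c n).2)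
          (S.layer_le s haL), ih, hcm, pow_succ]
    have hPN : (P r : G) ∈ N := by
      refine (hmemN (P r)).2 ?_
      rw [hP, Finset.smul_sum]
      simp only [← mul_smul, ← pow_succ']
      have h1 := Finset.sum_range_succ' (fun i => σ ^ i • Additive.ofMul ((⟨b, hb⟩ : S.layer s) : S.Wq s)) r
      rw [Finset.sum_range_succ, hxr, pow_zero] at h1
      exact (add_right_cancel h1).symm
    have h1 : cm a b ^ r = 1 := by rw [← hcmP]; exact cm_eq_one_iff.2 (hca _ hPN)
    have h2 : cm a b ^ s = 1 :=
      S.cm_pow_prime (S.layer_le s hb) (S.layer_le s haL) (S.mem_layer.1 haL).2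
    exact orderOf_eq_one_iff.1 (Nat.eq_one_of_dvd_coprimes ((Nat.coprime_primes hr hs).2 hrs)
      (orderOf_dvd_of_pow_eq_one h1) (orderOf_dvd_of_pow_eq_one h2))
  obtain ⟨i, hi⟩ := S.exists_sq_card hs _ N rfl hZN hNL hnd
  let ψ : M →* Multiplicative Fix := MonoidHom.mk'
    (fun f => Multiplicative.ofAdd (⟨Additive.ofMul ((f : S.layer s) : S.Wq s), f.2⟩ : Fix))
    fun f g => rfl
  have hψ : Function.Surjective ψ := fun w => by
    obtain ⟨f, hf⟩ := QuotientGroup.mk_surjective
      (Additive.toMul ((Multiplicative.toAdd w : Fix) : S.Wa s))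
    refine ⟨⟨f, ?_⟩, ?_⟩
    · show σ • Additive.ofMul (f : S.Wq s) = Additive.ofMul (f : S.Wq s)
      rw [hf]; exact (Multiplicative.toAdd w).2
    · exact Multiplicative.toAdd.injective (Subtype.ext (congrArg Additive.ofMul hf))
  have hker : ψ.ker = (S.zL s).subgroupOf M := by
    ext f
    rw [MonoidHom.mem_ker, Subgroup.mem_subgroupOf, ← QuotientGroup.eq_one_iff (N := S.zL s)]
    constructor
    · exact fun h => congrArg Additive.toMul (congrArg Subtype.val (congrArg Multiplicative.toAdd h))
    · exact fun h => Multiplicative.toAdd.injective (Subtype.ext (congrArg Additive.ofMul h))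
  have hcard : Nat.card Fix = (s ^ i) ^ 2 := by
    rw [← hi]
    have h1 : S.Z.relIndex N = ((S.zL s).subgroupOf M).index := by
      show _ = (S.zL s).relIndex M
      rw [← Subgroup.relIndex_map_map_of_injective (f := (S.layer s).subtype) (H := S.zL s) (K := M)
        (S.layer s).subtype_injective]
      congr 1
      rw [zL, Subgroup.subgroupOf_map_subtype, inf_eq_left.2 (S.z_le_layer s)]
    rw [h1, ← hker, Subgroup.index_ker, MonoidHom.range_eq_top.2 hψ, Subgroup.card_top]
    exact (Nat.card_congr Multiplicative.ofAdd).trans rfl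
  refine ⟨i, hcard, ?_⟩
  rw [← hcard]
  haveI := Fact.mk hr
  have hpg : IsPGroup r (Subgroup.zpowers σ) := by
    refine IsPGroup.of_card_dvd_pow (n := 1) ?_
    rw [pow_one, Nat.card_zpowers]
    exact orderOf_dvd_of_pow_eq_one hxr
  have h := hpg.card_modEq_card_fixedPoints (S.Wa s)
  suffices he : Nat.card (fixedPoints (Subgroup.zpowers σ) (S.Wa s)) = Nat.card Fix by rwa [he] at h
  refine Nat.card_congr (Equiv.subtypeEquivRight fun w => ?_)
  constructor
  · exact fun h => h ⟨σ, Subgroup.mem_zpowers σ⟩
  · rintro (h : σ • w = w) ⟨_, k, rfl⟩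
    exact Subgroup.zpow_mem (stabilizer _ w) (mem_stabilizer_iff.2 h) k

end Setup

end CfsgLib.RegOrbit
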