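import Mathlib
import Cfsg.Agent.Lib.RegOrbit.SmallDerived.OddParts
import Cfsg.Agent.Lib.RegOrbit.SmallDerived.OddFitting

/-!
# Parts of order 81, 625 and 729 in groups of odd order
-/

set_option autoImplicit false
set_option linter.all false

namespace CfsgLib.RegOrbit

universe u

open MulAction CfsgLib.Core

namespace Setup

variable {V : Type u} [AddCommGroup V] [Finite V]
variable {p : ℕ} {G : Subgroup (AddMonoid.End V)ˣ} (S : Setup p G)

/-- The centraliser of `Z` on a part, inside the group of the part. -/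
noncomputable abbrev Rs (s : ℕ) : Subgroup (S.wAct s).range := S.CZ.map (S.wAct s).rangeRestrict

theorem map_Rs (s : ℕ) : (S.Rs s).map (S.wAct s).range.subtype = S.CZ.map (S.wAct s) := by
  rw [Rs, Subgroup.map_map, MonoidHom.subtype_comp_rangeRestrict]

theorem card_Rs (s : ℕ) : Nat.card (S.Rs s) = Nat.card (S.CZ.map (S.wAct s)) := by
  rw [← S.map_Rs s, Subgroup.card_subtype]

theorem odd_Rs (hodd : Odd (Nat.card G)) (s : ℕ) : Odd (Nat.card (S.Rs s)) :=
  S.card_Rs s ▸ S.odd_map hodd s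

theorem pCore_Rs (s : ℕ) [Fact s.Prime] : Cfsg.pCore s (S.Rs s) = ⊥ := by
  haveI := finiteGroup (G := G)
  haveI hCZ : S.CZ.Normal := by haveI := S.zNormal; infer_instance
  haveI : (S.Rs s).Normal := hCZ.map _ (S.wAct s).rangeRestrict_surjective
  have h := eq_bot_of_normal_pGroup (S.nsmul_wa s) (S.compRed_range s)
    ((Cfsg.pCore s (S.Rs s)).map (S.Rs s).subtype) ((isPGroup_pCore s _).map _)
  exact (Subgroup.map_eq_bot_iff_of_injective _ (Subgroup.subtype_injective _)).1 h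

theorem fix_Rs {s n r : ℕ} (hs : s.Prime) (hr : r.Prime) (hrs : r ≠ s)
    (hW : Nat.card (S.Wa s) = s ^ n) (y : S.Rs s) (hy : y ^ r = 1) :
    ∃ i ≤ n, Nat.card {w : S.Wa s // y • w = w} = (s ^ i) ^ 2 ∧ s ^ n % r = (s ^ i) ^ 2 % r := by
  obtain ⟨x, hx, he⟩ := y.2
  have he' : S.wAct s x = ((y : (S.wAct s).range) : (AddMonoid.End (S.Wa s))ˣ) := congrArg Subtype.val he
  obtain ⟨i, h1, h2⟩ := S.card_fix_sq hs hr hrs hx
    (by rw [he', ← SubmonoidClass.coe_pow, ← SubmonoidClass.coe_pow, hy]; rfl)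
  have hc : Nat.card {w : S.Wa s // y • w = w} = Nat.card {w : S.Wa s // S.wAct s x • w = w} :=
    Nat.card_congr (Equiv.subtypeEquivRight fun w => by rw [he']; rfl)
  refine ⟨i, ?_, hc.trans h1, hW ▸ h2⟩
  haveI := S.finite_wa s
  have hle : (s ^ i) ^ 2 ≤ s ^ n := h1 ▸ hW ▸ Finite.card_subtype_le _
  rw [← pow_mul] at hle
  have := (Nat.pow_le_pow_iff_right hs.one_lt).1 hle
  omega

theorem not_dvd_Rs {s n r : ℕ} (hs : s.Prime) (hr : r.Prime) (hrs : r ≠ s)
    (hW : Nat.card (S.Wa s) = s ^ n)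
    (harith : ∀ i ≤ n, s ^ n % r = (s ^ i) ^ 2 % r → s ^ n ≤ (s ^ i) ^ 2) :
    ¬ r ∣ Nat.card (S.Rs s) := by
  haveI := finiteGroup (G := G)
  haveI := S.finite_wa s
  haveI := Fact.mk hr
  intro hd
  obtain ⟨y, hy⟩ := exists_prime_orderOf_dvd_card' r hd
  obtain ⟨i, hi, hc, hm⟩ := S.fix_Rs hs hr hrs hW y (hy ▸ pow_orderOf_eq_one y)
  have hy1 : y ≠ 1 := fun e => hr.ne_one (by rw [← hy, e, orderOf_one])
  obtain ⟨w, hw⟩ : ∃ w : S.Wa s, y • w ≠ w := by
    by_contra hne
    push Not at hne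
    exact hy1 (Subtype.ext (Subtype.ext (Units.ext (DFunLike.ext _ _ hne))))
  have hlt := Finite.card_subtype_lt (p := fun w : S.Wa s => y • w = w) hw
  rw [hc, hW] at hlt
  exact absurd (harith i hi hm) (not_le.2 hlt)

theorem dvd_odd_Rs {s n k N : ℕ} (hodd : Odd (Nat.card G)) (hs : s.Prime)
    (hW : Nat.card (S.Wa s) = s ^ n) (hN : ∏ i : Fin n, (s ^ n - s ^ (i : ℕ)) = 2 ^ k * N) :
    Nat.card (S.Rs s) ∣ N := by
  refine dvd_of_not_dvd Nat.prime_two (k := k) (fun h => ?_) ?_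
  · exact Nat.not_even_iff_odd.2 (S.odd_Rs hodd s) (even_iff_two_dvd.2 h)
  · rw [S.card_Rs, ← hN]
    exact card_dvd_GL hs (S.nsmul_wa s) hW _

theorem fitting_dvd {s M k : ℕ} [hs : Fact s.Prime] (h : Nat.card (S.Rs s) ∣ s ^ k * M) :
    Nat.card (Cfsg.fittingSubgroup (S.Rs s)) ∣ M := by
  haveI := finiteGroup (G := G)
  exact dvd_of_not_dvd hs.out (not_dvd_fitting (S.pCore_Rs s))
    ((Subgroup.card_subgroup_dvd_card _).trans h)

theorem solvable_Rs (s : ℕ) : Group.IsSolvable (S.Rs s) := by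
  haveI := S.solvable_range s
  exact Group.isSolvable_of_isSolvable_injective (f := (S.Rs s).subtype) (Subgroup.subtype_injective _)

theorem card_Rs_nine (hodd : Odd (Nat.card G)) (hW : Nat.card (S.Wa 3) = 3 ^ 4) :
    Nat.card (S.Rs 3) ∣ 5 := by
  haveI := finiteGroup (G := G)
  haveI := Fact.mk Nat.prime_three
  haveI := S.solvable_Rs 3
  have h0 : Nat.card (S.Rs 3) ∣ 13 ^ 1 * (3 ^ 6 * 5) :=
    S.dvd_odd_Rs (k := 9) hodd Nat.prime_three hW (by decide +kernel)
  have h13 := S.not_dvd_Rs Nat.prime_three (r := 13) (by norm_num) (by norm_num) hW (by decide)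
  have h1 := dvd_of_not_dvd (by norm_num) h13 h0
  exact dvd_of_not_dvd Nat.prime_three
    (not_dvd_card (S.pCore_Rs 3) (M := 5) (by norm_num) (S.fitting_dvd h1) (by decide +kernel)) h1

theorem card_Rs_twentyfive (hodd : Odd (Nat.card G)) (hW : Nat.card (S.Wa 5) = 5 ^ 4) :
    Nat.card (S.Rs 5) ≤ 117 := by
  haveI := finiteGroup (G := G)
  haveI : Fact (Nat.Prime 5) := ⟨by norm_num⟩
  haveI := S.solvable_Rs 5
  have h0 : Nat.card (S.Rs 5) ∣ 31 ^ 1 * (5 ^ 6 * 117) :=
    S.dvd_odd_Rs (k := 11) hodd (by norm_num) hW (by decide +kernel)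
  have h31 := S.not_dvd_Rs (s := 5) (r := 31) (by norm_num) (by norm_num) (by norm_num) hW (by decide)
  have h1 := dvd_of_not_dvd (by norm_num) h31 h0
  exact Nat.le_of_dvd (by norm_num) (dvd_of_not_dvd (by norm_num)
    (not_dvd_card (S.pCore_Rs 5) (M := 117) (by norm_num) (S.fitting_dvd h1) (by decide +kernel)) h1)

theorem card_Rs_twentyseven (hodd : Odd (Nat.card G)) (hW : Nat.card (S.Wa 3) = 3 ^ 6) :
    Nat.card (S.Rs 3) ≤ 819 ∧ Nat.card (_root_.commutator (S.Rs 3)) ≤ 91 := by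
  classical
  haveI := finiteGroup (G := G)
  haveI := S.finite_wa 3
  haveI := Fact.mk Nat.prime_three
  haveI := S.solvable_Rs 3
  have h0 : Nat.card (S.Rs 3) ∣ 11 ^ 2 * (3 ^ 15 * (13 * 455)) :=
    S.dvd_odd_Rs (k := 13) hodd Nat.prime_three hW (by decide +kernel)
  have h11 := S.not_dvd_Rs Nat.prime_three (r := 11) (by norm_num) (by norm_num) hW (by decide)
  have h1 := dvd_of_not_dvd (by norm_num) h11 h0
  -- elements of order 13 fix no non-zero vector
  have hfree : ∀ y : S.Rs 3, orderOf y = 13 → ∀ w : S.Wa 3, y • w = w → w = 0 := by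
    intro y hy w hw
    obtain ⟨i, hi, hc, hm⟩ := S.fix_Rs Nat.prime_three (r := 13) (by norm_num) (by norm_num) hW y
      (hy ▸ pow_orderOf_eq_one y)
    have key : ∀ i ≤ 6, 3 ^ 6 % 13 = (3 ^ i) ^ 2 % 13 → (3 ^ i) ^ 2 = 1 ∨ 729 ≤ (3 ^ i) ^ 2 := by
      decide
    rcases key i hi hm with h | h
    · rw [h] at hc
      obtain ⟨hss, -⟩ := Nat.card_eq_one_iff_unique.1 hc
      exact congrArg Subtype.val (hss.elim ⟨w, hw⟩ ⟨0, smul_zero y⟩)
    · exfalso
      obtain ⟨u, hu⟩ : ∃ u : S.Wa 3, y • u ≠ u := by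
        by_contra hne
        push Not at hne
        have : y = 1 := Subtype.ext (Subtype.ext (Units.ext (DFunLike.ext _ _ hne)))
        rw [this, orderOf_one] at hy
        norm_num at hy
      have hlt := Finite.card_subtype_lt (p := fun w : S.Wa 3 => y • w = w) hu
      rw [hc, hW] at hlt
      norm_num at hlt h
      omega
  have h169 : ¬ 13 ^ 2 ∣ Nat.card (S.Rs 3) := by
    intro hd
    haveI : Fact (Nat.Prime 13) := ⟨by norm_num⟩
    obtain ⟨P, hP⟩ := Sylow.exists_subgroup_card_pow_prime 13 hd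
    let X := {w : S.Wa 3 // w ≠ 0}
    letI : MulAction P X :=
      { smul := fun g w => ⟨(g : S.Rs 3) • w.1, fun e => w.2 ((smul_eq_zero_iff_eq _).1 e)⟩
        one_smul := fun w => Subtype.ext (one_smul (S.Rs 3) w.1)
        mul_smul := fun a b w => Subtype.ext (mul_smul (a : S.Rs 3) (b : S.Rs 3) w.1) }
    have hst : ∀ w : X, stabilizer P w = ⊥ := by
      intro w
      refine (Subgroup.eq_bot_iff_forall _).2 fun g hg => ?_
      by_contra hne
      have ho : orderOf (g : S.Rs 3) ∣ 13 ^ 2 := hP ▸ Subgroup.orderOf_dvd_natCard P g.2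
      obtain ⟨j, -, hj⟩ := (Nat.dvd_prime_pow (show Nat.Prime 13 by norm_num)).1 ho
      have hj0 : j ≠ 0 := fun e => by
        rw [e, pow_zero, orderOf_eq_one_iff] at hj
        exact hne (Subtype.ext hj)
      have hord : orderOf ((g : S.Rs 3) ^ 13 ^ (j - 1)) = 13 := by
        rw [orderOf_pow' _ (pow_ne_zero _ (by norm_num)), hj,
          Nat.gcd_eq_right (pow_dvd_pow 13 (Nat.sub_le j 1)),
          Nat.pow_div (Nat.sub_le j 1) (by norm_num), show j - (j - 1) = 1 by omega, pow_one]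
      have hgw : (g : S.Rs 3) • w.1 = w.1 := congrArg Subtype.val hg
      exact w.2 (hfree _ hord _ (mem_stabilizer_iff.1 (pow_mem (mem_stabilizer_iff.2 hgw) _)))
    haveI := Fintype.ofFinite (Quotient (orbitRel P X))
    have hX := Nat.card_congr (selfEquivSigmaOrbitsQuotientStabilizer P X)
    rw [Nat.card_sigma] at hX
    have hterm : ∀ ω : Quotient (orbitRel P X), Nat.card (P ⧸ stabilizer P ω.out) = 13 ^ 2 := fun ω => by
      rw [hst, ← Subgroup.index_eq_card, Subgroup.index_bot, hP]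
    simp only [hterm, Finset.sum_const, smul_eq_mul] at hX
    have hX' : Nat.card X = 728 := by
      show Nat.card ↥({0}ᶜ : Set (S.Wa 3)) = 728
      rw [Nat.card_coe_set_eq, Set.ncard_compl, Set.ncard_singleton, hW]
      rfl
    omega
  have hF : Nat.card (Cfsg.fittingSubgroup (S.Rs 3)) ∣ 455 := by
    have h2 := S.fitting_dvd h1
    set m := Nat.card (Cfsg.fittingSubgroup (S.Rs 3))
    have key : ∀ m ∈ (13 * 455).divisors, m ∣ 455 ∨ 13 ^ 2 ∣ m := by decide +kernel
    rcases key m (Nat.mem_divisors.2 ⟨h2, by norm_num⟩) with h | h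
    · exact h
    · exact absurd (h.trans (Subgroup.card_subgroup_dvd_card _)) h169
  haveI := isNilpotent_fittingSubgroup (S.Rs 3)
  haveI : IsZGroup (Cfsg.fittingSubgroup (S.Rs 3)) := IsZGroup.of_squarefree
    (Squarefree.squarefree_of_dvd hF (by decide +kernel))
  have hcyc : IsCyclic (Cfsg.fittingSubgroup (S.Rs 3)) := inferInstance
  obtain ⟨hcomm, hdvd⟩ := of_cyclic_fitting hcyc
  set Φ := Cfsg.fittingSubgroup (S.Rs 3) with hΦ
  have hne : Nat.card Φ ≠ 455 := by
    intro hn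
    haveI : Fact (Nat.Prime 5) := ⟨by norm_num⟩
    haveI : Fact (Nat.Prime 13) := ⟨by norm_num⟩
    obtain ⟨x, hx⟩ := exists_prime_orderOf_dvd_card' (G := Φ) 5 (by rw [hn]; norm_num)
    obtain ⟨y, hy⟩ := exists_prime_orderOf_dvd_card' (G := Φ) 13 (by rw [hn]; norm_num)
    have hxy : Commute (x : S.Rs 3) y := by
      haveI := hcyc
      exact congrArg Subtype.val (IsMulCommutative.is_comm.comm x y)
    obtain ⟨i, hi, hc, hm⟩ := S.fix_Rs Nat.prime_three (r := 5) (by norm_num) (by norm_num) hW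
      (x : S.Rs 3) (by rw [← hx, ← SubmonoidClass.coe_pow, pow_orderOf_eq_one]; rfl)
    have key : ∀ i ≤ 6, 3 ^ 6 % 5 = (3 ^ i) ^ 2 % 5 → (3 ^ i) ^ 2 = 9 ∨ 729 ≤ (3 ^ i) ^ 2 := by decide
    have hc9 : Nat.card {w : S.Wa 3 // (x : S.Rs 3) • w = w} = 9 := by
      rcases key i hi hm with h | h
      · rw [hc, h]
      · exfalso
        obtain ⟨u, hu⟩ : ∃ u : S.Wa 3, (x : S.Rs 3) • u ≠ u := by
          by_contra hne
          push Not at hne
          have : x = 1 := Subtype.ext (Subtype.ext (Subtype.ext (Units.ext (DFunLike.ext _ _ hne))))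
          rw [this, orderOf_one] at hx
          norm_num at hx
        have hlt := Finite.card_subtype_lt (p := fun w : S.Wa 3 => (x : S.Rs 3) • w = w) hu
        rw [hc, hW] at hlt
        norm_num at hlt h
        omega
    haveI : Nontrivial {w : S.Wa 3 // (x : S.Rs 3) • w = w} :=
      Finite.one_lt_card_iff_nontrivial.1 (by rw [hc9]; norm_num)
    obtain ⟨w, hw⟩ := exists_ne (⟨0, smul_zero _⟩ : {w : S.Wa 3 // (x : S.Rs 3) • w = w})
    have hw0 : (w : S.Wa 3) ≠ 0 := fun e => hw (Subtype.ext e)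
    have hy' : orderOf (y : S.Rs 3) = 13 := (orderOf_injective Φ.subtype Φ.subtype_injective y).trans hy
    have hle : Nat.card (Fin 13) ≤ 9 := by
      rw [← hc9]
      refine Nat.card_le_card_of_injective (fun k => ⟨(y : S.Rs 3) ^ (k : ℕ) • (w : S.Wa 3), ?_⟩) ?_
      · rw [← mul_smul, (hxy.pow_right _).eq, mul_smul, w.2]
      · intro a b e
        have e' := congrArg Subtype.val e
        have haux : ∀ a b : Fin 13, a < b →
            (y : S.Rs 3) ^ (a : ℕ) • (w : S.Wa 3) ≠ (y : S.Rs 3) ^ (b : ℕ) • (w : S.Wa 3) := by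
          intro a b hab e'
          have hab' : (a : ℕ) < b := hab
          have hb := b.2
          rw [← Nat.add_sub_cancel' hab'.le, pow_add, mul_smul, smul_left_cancel_iff] at e'
          refine hw0 (hfree _ ?_ _ e'.symm)
          refine (Nat.Coprime.orderOf_pow ?_).trans hy'
          rw [hy', Nat.Prime.coprime_iff_not_dvd (show Nat.Prime 13 by norm_num)]
          intro hd
          have := Nat.le_of_dvd (by omega) hd
          omega
        rcases lt_trichotomy a b with h | h | h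
        · exact absurd e' (haux a b h)
        · exact h
        · exact absurd e'.symm (haux b a h)
    rw [Nat.card_fin] at hle
    omega
  have key : ∀ n ∈ (455 : ℕ).divisors, n ≠ 455 →
      n ≤ 91 ∧ ∀ d ∈ (n * n.totient).divisors, d % 2 = 1 → d ≤ 819 := by decide +kernel
  obtain ⟨h91, h819⟩ := key _ (Nat.mem_divisors.2 ⟨hF, by norm_num⟩) hne
  refine ⟨h819 _ (Nat.mem_divisors.2 ⟨hdvd, ?_⟩) (Nat.odd_iff.1 (S.odd_Rs hodd 3)),
    (Subgroup.card_le_of_le hcomm).trans h91⟩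
  exact Nat.mul_ne_zero Nat.card_pos.ne' (Nat.totient_pos.2 Nat.card_pos).ne'

end Setup

end CfsgLib.RegOrbit
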