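import Mathlib
import Cfsg.Agent.Lib.RegOrbit.SmallDerived.OddBounds

/-!
# Abelian stabilisers in primitive soluble linear groups of odd order
-/

set_option autoImplicit false
set_option linter.all false

namespace CfsgLib.RegOrbit

universe u

open MulAction
open scoped commutatorElement

/-- The crude bound wins once `E` is large. -/
theorem crude_cond {E q : ℕ} (hE : 55 ≤ E) (hq : 7 ≤ q) : E ^ 24 < q ^ (E - 4) := by
  induction E, hE using Nat.le_induction with
  | base => exact lt_of_lt_of_le (by decide +kernel : 55 ^ 24 < 7 ^ (55 - 4)) (Nat.pow_le_pow_left hq _)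
  | succ n hn ih =>
    rw [show n + 1 - 4 = (n - 4) + 1 by omega, pow_succ q (n - 4)]
    refine Nat.lt_of_mul_lt_mul_right (a := 55 ^ 24) ?_
    calc (n + 1) ^ 24 * 55 ^ 24 = ((n + 1) * 55) ^ 24 := (_root_.mul_pow _ _ _).symm
      _ ≤ (56 * n) ^ 24 := Nat.pow_le_pow_left (by omega) _
      _ = 56 ^ 24 * n ^ 24 := _root_.mul_pow _ _ _
      _ ≤ (7 * 55 ^ 24) * n ^ 24 := Nat.mul_le_mul_right _ (by norm_num)
      _ ≤ (q * 55 ^ 24) * n ^ 24 := by gcongr
      _ < (q * 55 ^ 24) * q ^ (n - 4) := Nat.mul_lt_mul_of_pos_left ih (by positivity)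
      _ = q ^ (n - 4) * q * 55 ^ 24 := by ring

theorem squarefree_cond {E q : ℕ} (hE : 7 ≤ E) (hq : 7 ≤ q) : E ^ 4 < q ^ (E - 2) := by
  induction E, hE using Nat.le_induction with
  | base => exact lt_of_lt_of_le (by norm_num : 7 ^ 4 < 7 ^ (7 - 2)) (Nat.pow_le_pow_left hq _)
  | succ n hn ih =>
    rw [show n + 1 - 2 = (n - 2) + 1 by omega, pow_succ q (n - 2)]
    refine Nat.lt_of_mul_lt_mul_right (a := 7 ^ 4) ?_
    calc (n + 1) ^ 4 * 7 ^ 4 = ((n + 1) * 7) ^ 4 := (_root_.mul_pow _ _ _).symm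
      _ ≤ (8 * n) ^ 4 := Nat.pow_le_pow_left (by omega) _
      _ = 8 ^ 4 * n ^ 4 := _root_.mul_pow _ _ _
      _ ≤ (7 * 7 ^ 4) * n ^ 4 := Nat.mul_le_mul_right _ (by norm_num)
      _ ≤ (q * 7 ^ 4) * n ^ 4 := by gcongr
      _ < (q * 7 ^ 4) * q ^ (n - 2) := Nat.mul_lt_mul_of_pos_left ih (by positivity)
      _ = q ^ (n - 2) * q * 7 ^ 4 := by ring

namespace Setup

variable {V : Type u} [AddCommGroup V] [Finite V]
variable {p : ℕ} {G : Subgroup (AddMonoid.End V)ˣ} (S : Setup p G)

/-- A vector moved by a small subgroup. -/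
theorem exists_free_of_bound (S : Setup p G) (H : Subgroup G) (m : ℕ)
    (hm : ∀ c ∈ H, c ≠ 1 → Nat.card (fixSub c) ≤ m) (h : Nat.card H * m < Nat.card V) :
    ∃ v : V, v ≠ 0 ∧ ∀ c ∈ H, c • v = v → c = 1 := by
  classical
  haveI := finiteGroup (G := G)
  haveI := S.prim.hirr.1
  haveI := Fintype.ofFinite V
  haveI := Fintype.ofFinite G
  let T : Finset G := Finset.univ.filter fun c => c ∈ H ∧ c ≠ 1
  rcases T.eq_empty_or_nonempty with hT | ⟨c0, hc0⟩
  · obtain ⟨v, hv⟩ := exists_ne (0 : V)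
    refine ⟨v, hv, fun c hc _ => ?_⟩
    by_contra hne
    have : c ∈ T := by simp [T, hc, hne]
    rw [hT] at this
    simp at this
  have hcard : ∀ c : G, (Finset.univ.filter fun v : V => c • v = v).card = Nat.card (fixSub c) :=
    fun c => by
      rw [← Fintype.card_subtype, Nat.card_eq_fintype_card]
      exact Fintype.card_congr (Equiv.refl _)
  have hlt : (T.biUnion fun c => Finset.univ.filter fun v : V => c • v = v).card < Fintype.card V := by
    refine lt_of_le_of_lt ?_ (h.trans_eq Nat.card_eq_fintype_card)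
    refine Finset.card_biUnion_le.trans ((Finset.sum_le_card_nsmul T _ m fun c hc => ?_).trans ?_)
    · rw [hcard]
      exact hm c (Finset.mem_filter.1 hc).2.1 (Finset.mem_filter.1 hc).2.2
    · rw [smul_eq_mul]
      refine Nat.mul_le_mul_right _ ?_
      rw [Nat.card_eq_fintype_card, Fintype.card_subtype]
      exact Finset.card_le_card fun c hc => by
        have := (Finset.mem_filter.1 hc).2.1
        simp [this]
  obtain ⟨v, hv⟩ : ∃ v, v ∉ T.biUnion fun c => Finset.univ.filter fun v : V => c • v = v := by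
    by_contra hc
    push Not at hc
    rw [Finset.eq_univ_of_forall hc, Finset.card_univ] at hlt
    exact lt_irrefl _ hlt
  refine ⟨v, fun e => hv (Finset.mem_biUnion.2 ⟨c0, hc0, by simp [e]⟩), fun c hc hcv => ?_⟩
  by_contra hne
  exact hv (Finset.mem_biUnion.2 ⟨c, by simp [T, hc, hne], by simp [hcv]⟩)

theorem exists_free (S : Setup p G) (H : Subgroup G) (k : ℕ)
    (hf : ∀ c ∈ H, c ≠ 1 → Nat.card (fixSub c) ^ (k + 1) ≤ Nat.card V ^ k)
    (h : Nat.card H ^ (k + 1) < Nat.card V) : ∃ v : V, v ≠ 0 ∧ ∀ c ∈ H, c • v = v → c = 1 := by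
  classical
  haveI := finiteGroup (G := G)
  haveI := Fintype.ofFinite G
  let T : Finset G := Finset.univ.filter fun c => c ∈ H ∧ c ≠ 1
  obtain ⟨m, hmk, hm⟩ : ∃ m : ℕ, m ^ (k + 1) ≤ Nat.card V ^ k ∧ ∀ c ∈ T, Nat.card (fixSub c) ≤ m := by
    rcases T.eq_empty_or_nonempty with hT | hT
    · exact ⟨1, by rw [one_pow]; exact Nat.one_le_pow _ _ Nat.card_pos, fun c hc => by simp [hT] at hc⟩
    · obtain ⟨c0, hc0, hmax⟩ := T.exists_max_image (fun c => Nat.card (fixSub c)) hT
      exact ⟨_, hf c0 (Finset.mem_filter.1 hc0).2.1 (Finset.mem_filter.1 hc0).2.2, hmax⟩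
  refine S.exists_free_of_bound H m (fun c hc hne => hm c (by simp [T, hc, hne])) ?_
  refine lt_of_pow_lt_pow_left₀ (k + 1) (Nat.zero_le _) ?_
  calc (Nat.card H * m) ^ (k + 1) = Nat.card H ^ (k + 1) * m ^ (k + 1) := _root_.mul_pow _ _ _
    _ ≤ Nat.card H ^ (k + 1) * Nat.card V ^ k := Nat.mul_le_mul_left _ hmk
    _ < Nat.card V * Nat.card V ^ k := Nat.mul_lt_mul_of_pos_right h (pow_pos Nat.card_pos k)
    _ = Nat.card V ^ (k + 1) := by ring

theorem DL_one_of_free {H : Subgroup G} {v : V} (hH : dser (stabilizer G v) 1 ≤ H)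
    (hv : ∀ c ∈ H, c • v = v → c = 1) : DL V (stabilizer G v) 1 := fun x hx w => by
  rw [hv x (hH hx) (mem_stabilizer_iff.1 (dser_le _ 1 hx)), one_smul]

theorem regular_CZ (S : Setup p G) (h : Nat.card S.CZ ^ 4 < Nat.card V) :
    ∃ v : V, v ≠ 0 ∧ DL V (stabilizer G v) 1 := by
  obtain ⟨f, -, -, -, hd⟩ := S.galois_facts
  obtain ⟨v, hv0, hv⟩ := S.exists_free S.CZ 3 (fun c _ hne => S.card_fix hne) h
  exact ⟨v, hv0, DL_one_of_free ((dser_mono le_top 1).trans hd) hv⟩

theorem free_F (S : Setup p G) (hab : ∀ s ∈ S.primes, dser (S.wAct s).range 1 = ⊥)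
    (h : ∃ v : V, v ≠ 0 ∧ ∀ c ∈ S.F, c • v = v → c = 1) :
    ∃ v : V, v ≠ 0 ∧ DL V (stabilizer G v) 1 := by
  obtain ⟨f, -, -, -, hd⟩ := S.galois_facts
  obtain ⟨v, hv0, hv⟩ := h
  refine ⟨v, hv0, DL_one_of_free (fun g hg => S.mem_F_of_wAct ((dser_mono le_top 1).trans hd hg)
    fun s hs => ?_) hv⟩
  have h1 : S.wAct s g ∈ (dser (stabilizer G v) 1).map (S.wAct s) := ⟨g, hg, rfl⟩
  rw [map_dser] at h1
  have h2 := dser_mono (Subgroup.map_le_range (S.wAct s) (stabilizer G v)) 1 h1
  rw [hab s hs] at h2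
  exact Subgroup.mem_bot.1 h2

theorem exists_abelian_stab (S : Setup p G) (hodd : Odd (Nat.card G)) (hp2 : p ≠ 2) :
    ∃ v : V, v ≠ 0 ∧ DL V (stabilizer G v) 1 := by
  classical
  haveI := finiteGroup (G := G)
  haveI := S.prim.hirr.1
  obtain ⟨f, hK, hf, hidx, hd⟩ := S.galois_facts
  rcases S.primes.eq_empty_or_nonempty with hP | ⟨s0, hs0⟩
  · obtain ⟨v, hv⟩ := exists_ne (0 : V)
    refine ⟨v, hv, fun x hx w => ?_⟩
    have hxF : x ∈ S.F := S.mem_F_of_wAct ((dser_mono le_top 1).trans hd hx) fun s hs => by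
      exfalso
      change s ∈ S.primes at hs
      rw [hP] at hs
      simp at hs
    have hFZ : Nat.card (S.F ⧸ S.zF) = 1 := by
      rcases Nat.primeFactors_eq_empty.1 hP with h | h
      · exact absurd h Nat.card_pos.ne'
      · exact h
    have hxZ : x ∈ S.Z := by
      obtain ⟨hss, -⟩ := Nat.card_eq_one_iff_unique.1 hFZ
      exact Subgroup.mem_subgroupOf.1
        ((QuotientGroup.eq_one_iff (N := S.zF) (⟨x, hxF⟩ : S.F)).1 (Subsingleton.elim _ _))
    rw [S.eq_one_of_fix hxZ hv (mem_stabilizer_iff.1 (dser_le _ 1 hx)), one_smul]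
  obtain ⟨E, hE0, hEE, hEe, hEp, hEf⟩ := S.exists_root_card
  set q := Nat.card S.K with hq
  set e := S.dimK with he
  have hV : Nat.card V = q ^ e := S.card_eq_pow_dimK
  have hpodd : Odd p := S.prim.prime.odd_of_ne_two hp2
  have hqodd : Odd q := hK ▸ hpodd.pow
  have hq1 : 1 < q := Finite.one_lt_card
  have hzodd : Odd (Nat.card S.Z) := hodd.of_dvd_nat (Subgroup.card_subgroup_dvd_card _)
  have hz2 : 2 * Nat.card S.Z ≤ q - 1 := by
    obtain ⟨c, hc⟩ := S.card_z_dvd
    rw [← hq] at hc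
    have hc2 : 2 ≤ c := by
      by_contra hlt
      rcases (show c = 0 ∨ c = 1 by omega) with rfl | rfl
      · omega
      · rw [mul_one] at hc
        obtain ⟨a, ha⟩ := hqodd
        obtain ⟨b, hb⟩ := hzodd
        omega
    calc 2 * Nat.card S.Z ≤ c * Nat.card S.Z := Nat.mul_le_mul_right _ hc2
      _ = q - 1 := by rw [hc, mul_comm]
  have hq_of : ∀ s ∈ S.primes, 2 * s + 1 ≤ q := fun s hs => by
    have h1 := Nat.le_of_dvd Nat.card_pos (S.prime_dvd_card_z hs)
    omega
  have hs3 : ∀ s ∈ S.primes, 3 ≤ s := fun s hs => by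
    have := (S.prime_of_mem hs).two_le
    have := S.prime_odd hodd hs
    omega
  have hq7 : 7 ≤ q := by
    have := hq_of s0 hs0
    have := hs3 s0 hs0
    omega
  have hmemP : ∀ {s : ℕ}, s.Prime → s ∣ E → s ∈ S.primes := fun hs hd =>
    hEp ▸ Nat.mem_primeFactors.2 ⟨hs, hd, hE0.ne'⟩
  have hs0E : s0 ∣ E := Nat.dvd_of_mem_primeFactors (hEp.symm ▸ hs0)
  have hE3 : 3 ≤ E := (hs3 s0 hs0).trans (Nat.le_of_dvd hE0 hs0E)
  have h2E : ¬ 2 ∣ E := fun h => S.prime_odd hodd (hmemP Nat.prime_two h) rfl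
  have hVE : q ^ E ≤ Nat.card V := hV ▸ Nat.pow_le_pow_right (by omega) hEe
  have hFcard : Nat.card S.F = E * E * Nat.card S.Z := by rw [S.card_F_eq, hEE]
  have hF2 : Nat.card S.F ≤ E * E * q := by
    rw [hFcard]; exact Nat.mul_le_mul_left _ (by omega)
  have hfixF : ∀ c ∈ S.F, c ≠ 1 → Nat.card (fixSub c) ^ (1 + 1) ≤ Nat.card V ^ 1 := fun c hc hne => by
    rw [pow_one]; exact S.card_fix_F hc hne
  by_cases hsq : ∀ s ∈ S.primes, E.factorization s = 1
  · -- all parts have order the square of a prime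
    refine S.free_F (fun s hs => S.part_abelian_one hodd hs (by rw [(hEf s hs).2, hsq s hs, pow_one])) ?_
    rcases (show E = 3 ∨ E = 5 ∨ 7 ≤ E by omega) with rfl | rfl | hE7
    · -- nine classes
      by_cases he3 : e = 3 ∧ q = 7
      · obtain ⟨he3, hq7'⟩ := he3
        refine S.exists_free_of_bound S.F 7 (fun c hc hne => ?_) ?_
        · have h1 := S.card_fix_F hc hne
          have h2 : Nat.card (fixSub c) ∣ 7 ^ 3 := by
            rw [← hq7', ← he3, ← hV]; exact AddSubgroup.card_addSubgroup_dvd_card _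
          rw [hV, hq7', he3] at h1
          obtain ⟨i, hi, hi'⟩ := (Nat.dvd_prime_pow (show Nat.Prime 7 by norm_num)).1 h2
          rw [hi'] at h1 ⊢
          refine (Nat.pow_le_pow_right (by norm_num) (?_ : i ≤ 1)).trans_eq (pow_one 7)
          by_contra hi2
          have h4 : 7 ^ 2 ≤ 7 ^ i := Nat.pow_le_pow_right (by norm_num) (by omega)
          have h5 := (Nat.pow_le_pow_left h4 2).trans h1
          norm_num at h5
        · rw [hFcard, hV, hq7', he3]
          have : Nat.card S.Z ≤ 3 := by omega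
          omega
      · refine S.exists_free S.F 1 hfixF ?_
        have hdvd := S.card_z_dvd
        have h3 : 3 ∣ q - 1 := S.prime_dvd_sub_one (hmemP Nat.prime_three dvd_rfl)
        have hq2 := Nat.odd_iff.1 hqodd
        rw [hFcard]
        rcases (show q = 7 ∨ q = 13 ∨ q = 19 ∨ 25 ≤ q by omega) with h | h | h | h
        · have he4 : 4 ≤ e := by
            have : ¬ e = 3 := fun e3 => he3 ⟨e3, h⟩
            omega
          refine lt_of_lt_of_le ?_ (hV ▸ Nat.pow_le_pow_right (by omega) he4)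
          rw [h]
          have : Nat.card S.Z ≤ 3 := by omega
          calc _ ≤ (3 * 3 * 3) ^ (1 + 1) := Nat.pow_le_pow_left (Nat.mul_le_mul_left _ this) _
            _ < _ := by norm_num
        · refine lt_of_lt_of_le ?_ hVE
          rw [h]
          have hz : Nat.card S.Z ≤ 3 := by
            rw [← hq, h] at hdvd
            have key : ∀ d ∈ (12 : ℕ).divisors, d % 2 = 1 → d ≤ 3 := by decide
            exact key _ (Nat.mem_divisors.2 ⟨hdvd, by norm_num⟩) (Nat.odd_iff.1 hzodd)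
          calc _ ≤ (3 * 3 * 3) ^ (1 + 1) := Nat.pow_le_pow_left (Nat.mul_le_mul_left _ hz) _
            _ < _ := by norm_num
        · refine lt_of_lt_of_le ?_ hVE
          rw [h]
          have hz : Nat.card S.Z ≤ 9 := by omega
          calc _ ≤ (3 * 3 * 9) ^ (1 + 1) := Nat.pow_le_pow_left (Nat.mul_le_mul_left _ hz) _
            _ < _ := by norm_num
        · refine lt_of_lt_of_le ?_ hVE
          have h2 : 2 * (3 * 3 * Nat.card S.Z) ≤ 9 * q := by omega
          refine Nat.lt_of_mul_lt_mul_left (a := 4) ?_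
          calc 4 * (3 * 3 * Nat.card S.Z) ^ (1 + 1) = (2 * (3 * 3 * Nat.card S.Z)) ^ 2 := by ring
            _ ≤ (9 * q) ^ 2 := Nat.pow_le_pow_left h2 2
            _ = 81 * q ^ 2 := by ring
            _ < 4 * q * q ^ 2 := Nat.mul_lt_mul_of_pos_right (by omega) (by positivity)
            _ = 4 * q ^ 3 := by ring
    · refine S.exists_free S.F 1 hfixF (lt_of_lt_of_le ?_ hVE)
      have h11 : 11 ≤ q := hq_of 5 (hmemP (by norm_num) dvd_rfl)
      calc Nat.card S.F ^ (1 + 1) ≤ (5 * 5 * q) ^ 2 := Nat.pow_le_pow_left hF2 2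
        _ = 625 * q ^ 2 := by ring
        _ < q ^ 3 * q ^ 2 := Nat.mul_lt_mul_of_pos_right
            (lt_of_lt_of_le (by norm_num) (Nat.pow_le_pow_left h11 3)) (by positivity)
        _ = q ^ 5 := by ring
    · refine S.exists_free S.F 1 hfixF (lt_of_lt_of_le ?_ hVE)
      calc Nat.card S.F ^ (1 + 1) ≤ (E * E * q) ^ 2 := Nat.pow_le_pow_left hF2 2
        _ = E ^ 4 * q ^ 2 := by ring
        _ < q ^ (E - 2) * q ^ 2 := Nat.mul_lt_mul_of_pos_right (squarefree_cond hE7 hq7) (by positivity)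
        _ = q ^ E := by rw [← pow_add]; congr 1; omega
  -- some part is larger
  push Not at hsq
  obtain ⟨s1, hs1, ha1⟩ := hsq
  have ha2 : 2 ≤ E.factorization s1 := by have := (hEf s1 hs1).1; omega
  have hdvd : s1 * s1 ∣ E := by
    rw [← pow_two]
    exact (pow_dvd_pow s1 ha2).trans (Nat.ordProj_dvd E s1)
  have hcases : E = 9 ∨ E = 25 ∨ E = 27 ∨ E = 45 ∨ E = 49 ∨ 55 ≤ E := by
    have h3 := hs3 s1 hs1
    have hle := Nat.le_of_dvd hE0 hdvd
    by_cases h8 : 8 ≤ s1
    · have : 64 ≤ s1 * s1 := Nat.mul_le_mul h8 h8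
      omega
    have := (S.prime_of_mem hs1)
    interval_cases s1 <;> first | omega | exact absurd this (by norm_num)
  have hsingle : ∀ {s a : ℕ}, s.Prime → E = s ^ a → a ≠ 0 →
      S.primes = {s} ∧ Nat.card (S.Wa s) = s ^ (2 * a) := by
    intro s a hsp hE ha
    have hpr : S.primes = {s} := by rw [← hEp, hE, Nat.primeFactors_prime_pow ha hsp]
    refine ⟨hpr, S.card_part ?_⟩
    obtain ⟨-, hc⟩ := hEf s (hpr ▸ Finset.mem_singleton_self s)
    rwa [hE, Nat.Prime.factorization_pow hsp, Finsupp.single_eq_same] at hc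
  have hCZ1 : ∀ {s a B : ℕ}, s.Prime → E = s ^ a → a ≠ 0 → Nat.card (S.Rs s) ≤ B →
      Nat.card S.CZ ≤ B * (E * E * Nat.card S.Z) := by
    intro s a B hsp hE ha hB
    refine S.card_CZ_le.trans (Nat.mul_le_mul ?_ hFcard.le)
    rw [(hsingle hsp hE ha).1, Finset.prod_singleton, ← S.card_Rs]
    exact hB
  have hcrude : E ^ 24 < q ^ (E - 4) → ∃ v : V, v ≠ 0 ∧ DL V (stabilizer G v) 1 := by
    intro hc
    refine S.regular_CZ (lt_of_lt_of_le ?_ hVE)
    have hP : ∏ s ∈ S.primes, Nat.card (S.CZ.map (S.wAct s)) ≤ E ^ 4 := by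
      have hEprod : E = ∏ s ∈ S.primes, s ^ E.factorization s := by
        conv_lhs => rw [← Nat.prod_factorization_pow_eq_self hE0.ne']
        rw [Finsupp.prod, Nat.support_factorization, hEp]
      conv_rhs => rw [hEprod, ← Finset.prod_pow]
      refine Finset.prod_le_prod' fun s hs => ?_
      haveI := S.finite_wa s
      haveI := S.solvable_range s
      have h := card_le_sq_odd _ (S.compRed_range s) (S.odd_range hodd s)
      rw [S.card_part (hEf s hs).2, ← pow_mul] at h
      rw [← pow_mul, show E.factorization s * 4 = 2 * E.factorization s * 2 by ring]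
      exact (Subgroup.card_le_of_le (Subgroup.map_le_range _ _)).trans h
    calc Nat.card S.CZ ^ 4 ≤ (E ^ 4 * (E * E * q)) ^ 4 :=
          Nat.pow_le_pow_left (S.card_CZ_le.trans (Nat.mul_le_mul hP hF2)) 4
      _ = E ^ 24 * q ^ 4 := by ring
      _ < q ^ (E - 4) * q ^ 4 := Nat.mul_lt_mul_of_pos_right hc (by positivity)
      _ = q ^ E := by rw [← pow_add]; congr 1; omega
  rcases hcases with hE | hE | hE | hE | hE | hE
  · -- 81 classes
    obtain ⟨hpr, hW⟩ := hsingle (a := 2) Nat.prime_three hE (by norm_num)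
    have h5 : Nat.card (S.Rs 3) ∣ 5 := S.card_Rs_nine hodd hW
    by_cases hq125 : 125 ≤ q
    · refine S.regular_CZ (lt_of_lt_of_le ?_ hVE)
      have hc := hCZ1 (a := 2) Nat.prime_three hE (by norm_num) (Nat.le_of_dvd (by norm_num) h5)
      rw [hE] at hc ⊢
      calc Nat.card S.CZ ^ 4 ≤ (405 * q) ^ 4 := Nat.pow_le_pow_left (by omega) 4
        _ = 26904200625 * q ^ 4 := by ring
        _ < q ^ 5 * q ^ 4 := Nat.mul_lt_mul_of_pos_right
            (lt_of_lt_of_le (by norm_num) (Nat.pow_le_pow_left hq125 5)) (by positivity)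
        _ = q ^ 9 := by ring
    have hCZ : S.CZ = ⊤ := by
      have hp5 : 5 ≤ p := by
        have h3 : 3 ∣ q - 1 := S.prime_dvd_sub_one (hpr ▸ Finset.mem_singleton_self 3)
        have hp3 : p ≠ 3 := by
          rintro rfl
          have : 3 ∣ q := hK ▸ dvd_pow_self 3 (by omega)
          omega
        have h2 := S.prim.prime.two_le
        have hp4 : p ≠ 4 := fun e => absurd (e ▸ S.prim.prime) (by norm_num)
        omega
      have hf2 : f < 3 := by
        by_contra h
        have h1 : p ^ 3 ≤ p ^ f := Nat.pow_le_pow_right (by omega) (by omega)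
        have h2 : 5 ^ 3 ≤ p ^ 3 := Nat.pow_le_pow_left hp5 3
        rw [← hK] at h1
        omega
      refine Subgroup.index_eq_one.1 ?_
      rcases (show f = 1 ∨ f = 2 by omega) with rfl | rfl
      · exact Nat.dvd_one.1 hidx
      · rcases (Nat.dvd_prime Nat.prime_two).1 hidx with h | h
        · exact h
        · exfalso
          exact Nat.not_even_iff_odd.2 hodd (even_iff_two_dvd.2 (h ▸ Subgroup.index_dvd_card _))
    refine S.free_F (fun s hs => ?_) (S.exists_free S.F 1 hfixF (lt_of_lt_of_le ?_ hVE))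
    · rw [hpr, Finset.mem_singleton] at hs
      subst hs
      rw [show (S.wAct 3).range = S.CZ.map (S.wAct 3) by rw [hCZ, MonoidHom.range_eq_map]]
      refine dser_one_bot_of_comm fun a ha b hb => ?_
      rw [S.card_Rs] at h5
      haveI : IsCyclic (S.CZ.map (S.wAct 3)) := by
        rcases (Nat.dvd_prime (show Nat.Prime 5 by norm_num)).1 h5 with h | h
        · haveI := (Nat.card_eq_one_iff_unique.1 h).1
          infer_instance
        · haveI : Fact (Nat.Prime 5) := ⟨by norm_num⟩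
          exact isCyclic_of_prime_card h
      exact congrArg Subtype.val (IsMulCommutative.is_comm.comm
        (⟨a, ha⟩ : S.CZ.map (S.wAct 3)) ⟨b, hb⟩)
    · calc Nat.card S.F ^ (1 + 1) ≤ (E * E * q) ^ 2 := Nat.pow_le_pow_left hF2 2
        _ = E ^ 4 * q ^ 2 := by ring
        _ < q ^ (E - 2) * q ^ 2 := Nat.mul_lt_mul_of_pos_right (squarefree_cond (by omega) hq7) (by positivity)
        _ = q ^ E := by rw [← pow_add]; congr 1; omega
  · -- 625 classes
    obtain ⟨hpr, hW⟩ := hsingle (s := 5) (a := 2) (by norm_num) hE (by norm_num)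
    have h11 : 11 ≤ q := hq_of 5 (hpr ▸ Finset.mem_singleton_self 5)
    refine S.regular_CZ (lt_of_lt_of_le ?_ hVE)
    have hc := hCZ1 (s := 5) (a := 2) (by norm_num) hE (by norm_num) (S.card_Rs_twentyfive hodd hW)
    rw [hE] at hc ⊢
    calc Nat.card S.CZ ^ 4 ≤ (73125 * q) ^ 4 := Nat.pow_le_pow_left (by omega) 4
      _ = 73125 ^ 4 * q ^ 4 := _root_.mul_pow _ _ _
      _ < q ^ 21 * q ^ 4 := Nat.mul_lt_mul_of_pos_right
          (lt_of_lt_of_le (by norm_num) (Nat.pow_le_pow_left h11 21)) (by positivity)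
      _ = q ^ 25 := by ring
  · -- 729 classes
    obtain ⟨hpr, hW⟩ := hsingle (a := 3) Nat.prime_three hE (by norm_num)
    obtain ⟨hR, hR'⟩ := S.card_Rs_twentyseven hodd hW
    by_cases hq11 : 11 ≤ q
    · refine S.regular_CZ (lt_of_lt_of_le ?_ hVE)
      have hc := hCZ1 (a := 3) Nat.prime_three hE (by norm_num) hR
      rw [hE] at hc ⊢
      calc Nat.card S.CZ ^ 4 ≤ (597051 * q) ^ 4 := Nat.pow_le_pow_left (by omega) 4
        _ = 597051 ^ 4 * q ^ 4 := _root_.mul_pow _ _ _
        _ < q ^ 23 * q ^ 4 := Nat.mul_lt_mul_of_pos_right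
            (lt_of_lt_of_le (by norm_num) (Nat.pow_le_pow_left hq11 23)) (by positivity)
        _ = q ^ 27 := by ring
    have hq7' : q = 7 := by
      have h3 : 3 ∣ q - 1 := S.prime_dvd_sub_one (hpr ▸ Finset.mem_singleton_self 3)
      have := Nat.odd_iff.1 hqodd
      omega
    have hqp : q = p := by
      have : p ∣ 7 := by rw [← hq7', hK]; exact dvd_pow_self p (by omega)
      rw [hq7', (Nat.prime_dvd_prime_iff_eq S.prim.prime (by norm_num)).1 this]
    have hCZ : S.CZ = ⊤ := S.CZ_eq_top_of_prime hqp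
    set D := dser (⊤ : Subgroup G) 1 with hD
    have hmap : Nat.card (D.map (S.wAct 3).rangeRestrict) ≤ 91 := by
      have h1 : D.map (S.wAct 3).rangeRestrict = (_root_.commutator (S.Rs 3)).map (S.Rs 3).subtype := by
        rw [hD, map_dser, commutator_def, Subgroup.map_commutator, ← MonoidHom.range_eq_map,
          ← MonoidHom.range_eq_map, Subgroup.range_subtype, Rs, hCZ, ← MonoidHom.range_eq_map,
          dser_succ, dser_zero]
      rw [h1, Subgroup.card_subtype]
      exact hR'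
    obtain ⟨v, hv0, hv⟩ := S.exists_free D 3 (fun c _ hne => S.card_fix hne) (by
      refine lt_of_lt_of_le ?_ hVE
      rw [hE, hq7']
      have h1 : Nat.card D ≤ 91 * Nat.card S.F :=
        (card_le_map_mul (S.wAct 3).rangeRestrict D S.F fun g hg h => S.mem_F_of_wAct (hd hg)
          fun s hs => by
            change s ∈ S.primes at hs
            rw [hpr, Finset.mem_singleton] at hs
            subst hs
            exact congrArg Subtype.val h).trans (Nat.mul_le_mul_right _ hmap)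
      rw [hFcard, hE] at h1
      calc Nat.card D ^ (3 + 1) ≤ 199017 ^ 4 := Nat.pow_le_pow_left (by omega) 4
        _ < 7 ^ 27 := by norm_num)
    exact ⟨v, hv0, DL_one_of_free (dser_mono le_top 1) hv⟩
  · refine hcrude ?_
    have h11 : 11 ≤ q := hq_of 5 (hmemP (by norm_num) (by rw [hE]; norm_num))
    rw [hE]
    exact lt_of_lt_of_le (by decide +kernel : 45 ^ 24 < 11 ^ (45 - 4)) (Nat.pow_le_pow_left h11 _)
  · refine hcrude ?_
    have h15 : 15 ≤ q := hq_of 7 (hmemP (by norm_num) (by rw [hE]; norm_num))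
    rw [hE]
    exact lt_of_lt_of_le (by decide +kernel : 49 ^ 24 < 15 ^ (49 - 4)) (Nat.pow_le_pow_left h15 _)
  · exact hcrude (crude_cond hE hq7)

end Setup

theorem abelian_stab_primitive {p : ℕ} (V : Type u) [AddCommGroup V] [Finite V]
    (G : Subgroup (AddMonoid.End V)ˣ) (h : IsPrim p G) (hodd : Odd (Nat.card G)) (hp2 : p ≠ 2) :
    ∃ v : V, v ≠ 0 ∧ DL V (stabilizer G v) 1 := by
  obtain ⟨S⟩ := exists_setup h
  exact S.exists_abelian_stab hodd hp2

end CfsgLib.RegOrbit
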