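import Mathlib
import Cfsg.Agent.Lib.RegOrbit.SmallDerived.OddPrimitive

/-!
# Stabilisers of small derived length in completely reducible soluble groups
-/

set_option autoImplicit false
set_option linter.all false

namespace CfsgLib.RegOrbit

open MulAction

universe u v

/-- Vectors for the irreducible summands give a vector for the whole. -/
theorem exists_DL_of_irred {G : Type v} [Group G] {V : Type u} [AddCommGroup V]
    [DistribMulAction G V] [Finite V] (hcr : CompRed G V) (d : ℕ)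
    (h : ∀ (U : AddSubgroup V) (hU : ∀ a : G, ∀ w ∈ U, a • w ∈ U),
      letI := subAction U hU; Irred G U → ∃ w : U, DL U (stabilizer G w) d) :
    ∃ w : V, DL V (stabilizer G w) d := by
  classical
  suffices H : ∀ (n : ℕ) (U : AddSubgroup V), Nat.card U = n → (∀ a : G, ∀ w ∈ U, a • w ∈ U) →
      ∃ w ∈ U, ∀ g ∈ dser (stabilizer G w) d, ∀ x ∈ U, g • x = x by
    obtain ⟨w, -, hw⟩ := H _ ⊤ rfl fun _ _ _ => AddSubgroup.mem_top _
    exact ⟨w, fun g hg x => hw g hg x (AddSubgroup.mem_top x)⟩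
  intro n
  induction n using Nat.strong_induction_on with
  | _ n ih =>
  intro U hn hU
  by_cases hU0 : U = ⊥
  · refine ⟨0, U.zero_mem, fun g _ x hx => ?_⟩
    rw [hU0, AddSubgroup.mem_bot] at hx
    rw [hx, smul_zero]
  by_cases hsub : ∀ X : AddSubgroup V, (∀ a : G, ∀ w ∈ X, a • w ∈ X) → X ≤ U → X = ⊥ ∨ X = U
  · obtain ⟨w, hw⟩ := by
      refine h U hU ⟨(AddSubgroup.nontrivial_iff_ne_bot _).2 hU0, fun X hX => ?_⟩
      rcases hsub (X.map U.subtype) (by
        rintro a _ ⟨x, hx, rfl⟩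
        exact ⟨_, hX a x hx, rfl⟩) (AddSubgroup.map_subtype_le X) with h1 | h1
      · exact Or.inl ((AddSubgroup.map_eq_bot_iff_of_injective _ U.subtype_injective).1 h1)
      · refine Or.inr (eq_top_iff.2 fun x _ => ?_)
        obtain ⟨y, hy, e⟩ := h1.symm.le x.2
        exact (Subtype.ext e : y = x) ▸ hy
    refine ⟨w, w.2, fun g hg x hx => ?_⟩
    letI := subAction U hU
    have hs : stabilizer G (w : V) = stabilizer G w := by
      ext a
      exact ⟨fun e => Subtype.ext e, fun e => congrArg Subtype.val e⟩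
    exact congrArg Subtype.val (hw g (hs ▸ hg) ⟨x, hx⟩)
  push Not at hsub
  obtain ⟨X, hX, hXU, hX0, hX1⟩ := hsub
  obtain ⟨C, hC, hXC, hXC'⟩ := hcr X hX
  let Y := C ⊓ U
  have hY : ∀ a : G, ∀ w ∈ Y, a • w ∈ Y := fun a w hw => ⟨hC a w hw.1, hU a w hw.2⟩
  have hsup : ∀ x ∈ U, ∃ y ∈ X, ∃ z ∈ Y, y + z = x := by
    intro x hx
    obtain ⟨y, hy, z, hz, e⟩ := AddSubgroup.mem_sup.1 (hXC' ▸ AddSubgroup.mem_top x : x ∈ X ⊔ C)
    refine ⟨y, hy, z, ⟨hz, ?_⟩, e⟩
    rw [show z = x - y by rw [← e]; abel]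
    exact U.sub_mem hx (hXU hy)
  have hlt : ∀ T : AddSubgroup V, T ≤ U → T ≠ U → Nat.card T < n := fun T hT hne => by
    rw [← hn]
    exact lt_of_le_of_ne (AddSubgroup.card_le_of_le hT) fun e =>
      hne (SetLike.coe_injective (Set.eq_of_subset_of_ncard_le hT (by
        rw [← Nat.card_coe_set_eq, ← Nat.card_coe_set_eq]; exact e.ge) (Set.toFinite _)))
  have hY1 : Y ≠ U := fun e => hX0 (le_bot_iff.1 (hXC ▸ le_inf le_rfl (hXU.trans (e ▸ inf_le_left))))
  obtain ⟨x, hx, h1⟩ := ih _ (hlt X hXU hX1) X rfl hX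
  obtain ⟨y, hy, h2⟩ := ih _ (hlt Y inf_le_right hY1) Y rfl hY
  refine ⟨x + y, U.add_mem (hXU hx) hy.2, fun g hg w hw => ?_⟩
  have hle : ∀ a ∈ stabilizer G (x + y), a • x = x ∧ a • y = y := by
    intro a ha
    have e : a • x + a • y = x + y := by rw [← smul_add]; exact ha
    have h3 : a • x - x = y - a • y := by rw [sub_eq_sub_iff_add_eq_add, e, add_comm]
    have h4 : a • x - x ∈ X ⊓ C :=
      ⟨X.sub_mem (hX a x hx) hx, h3 ▸ C.sub_mem hy.1 (hC a y hy.1)⟩
    rw [hXC, AddSubgroup.mem_bot] at h4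
    exact ⟨sub_eq_zero.1 h4, (sub_eq_zero.1 (h3.symm.trans h4)).symm⟩
  obtain ⟨s, hs, t, ht, rfl⟩ := hsup w hw
  rw [smul_add, h1 g (dser_mono (fun a ha => (hle a ha).1) d hg) s hs,
    h2 g (dser_mono (fun a ha => (hle a ha).2) d hg) t ht]

theorem exists_DL_nine {G : Type v} [Group G] [Finite G] [Group.IsSolvable G] {V : Type u}
    [AddCommGroup V] [DistribMulAction G V] [Finite V] (hcr : CompRed G V) :
    ∃ w : V, DL V (stabilizer G w) 9 :=
  exists_DL_of_irred hcr 9 fun U hU =>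
    letI := subAction U hU
    fun hirr => (tier_of_irred.{u, v} (fun p W _ _ H h => tier_primitive p W H h) _ U G rfl hirr).exists_good

theorem abelian_stab_irred : ∀ (n : ℕ) (V : Type u) [AddCommGroup V] [Finite V] (G : Type v) [Group G]
    [Finite G] [Group.IsSolvable G] [DistribMulAction G V], Nat.card V = n → Irred G V →
    Odd (Nat.card G) → Odd (Nat.card V) → ∃ w : V, w ≠ 0 ∧ DL V (stabilizer G w) 1 := by
  intro n
  induction n using Nat.strong_induction_on with
  | _ n ih =>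
  intro V _ _ G _ _ _ _ hn hirr hG hV
  classical
  haveI := hirr.1
  by_cases hsys : ∃ m : ℕ, 2 ≤ m ∧ Nonempty (System G V (Fin m))
  · obtain ⟨m, D, hm, hprim⟩ := exists_primitive_system hirr hsys
    letI := D.mulAction
    let a : Fin m := ⟨0, by omega⟩
    letI := D.compAction a
    haveI : Nonempty (Fin m) := ⟨a⟩
    haveI : Group.IsSolvable (stabilizer G a) :=
      Group.isSolvable_of_isSolvable_injective (f := (stabilizer G a).subtype)
        (stabilizer G a).subtype_injective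
    have hne : D.W a ≠ ⊤ := fun e => by
      obtain ⟨w, hw, hw0⟩ := (D.W ⟨1, hm⟩).bot_or_exists_ne_zero.resolve_left (D.ne_bot _)
      exact hw0 (D.eq_zero_of_mem (show a ≠ ⟨1, hm⟩ by simp [a, Fin.ext_iff]) (e ▸ AddSubgroup.mem_top w) hw)
    obtain ⟨w, hw0, hw⟩ := ih (Nat.card (D.W a))
      (hn ▸ lt_of_le_of_ne (AddSubgroup.card_le_card_addGroup _) fun e =>
        hne ((AddSubgroup.card_eq_iff_eq_top _).1 e))
      (D.W a) (stabilizer G a) rfl (D.irred_comp hirr a)
      (hG.of_dvd_nat (Subgroup.card_subgroup_dvd_card _))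
      (hV.of_dvd_nat (AddSubgroup.card_addSubgroup_dvd_card _))
    choose t ht using fun i => D.transitive hirr a i
    -- a vector is in no orbit with its negative
    have hneg : ∀ g : G, g • (w : V) ≠ -(w : V) := by
      intro g e
      have h2 : g ^ 2 • (w : V) = w := by rw [pow_two, mul_smul, e, smul_neg, e, neg_neg]
      obtain ⟨k, hk⟩ := hG.of_dvd_nat (orderOf_dvd_natCard g)
      have h3 : g ^ (2 * (k + 1)) • (w : V) = w := by
        rw [pow_mul]
        exact mem_stabilizer_iff.1 (pow_mem (mem_stabilizer_iff.2 h2) _)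
      rw [show 2 * (k + 1) = orderOf g + 1 by omega, pow_succ, pow_orderOf_eq_one, one_mul, e] at h3
      have h4 : addOrderOf (w : V) ∣ 2 := addOrderOf_dvd_of_nsmul_eq_zero (by
        rw [two_nsmul]; nth_rw 1 [← h3]; exact neg_add_cancel _)
      rcases (Nat.dvd_prime Nat.prime_two).1 h4 with h5 | h5
      · exact hw0 (Subtype.ext (AddMonoid.addOrderOf_eq_one_iff.1 h5))
      · exact Nat.not_even_iff_odd.2 hV (even_iff_two_dvd.2 (h5 ▸ addOrderOf_dvd_natCard _))
    let f : Fin 2 → D.W a := ![w, -w]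
    have hf : ∀ g : G, D.img g a = a → ∀ i j, g • (f i : V) = f j → i = j := by
      intro g _ i j e
      fin_cases i <;> fin_cases j <;> simp [f] at e ⊢
      · exact hneg g e
      · exact hneg g (neg_eq_iff_eq_neg.1 e)
    obtain ⟨c, hc⟩ := hasColourings_two hG hprim
    refine ⟨D.vec t f (c 0), fun e => ?_, ?_⟩
    · obtain ⟨g, hg⟩ := D.transitive hirr a ⟨1, hm⟩
      have h0 : g • D.vec t f (c 0) = D.vec t f (c 0) := by rw [e, smul_zero]
      have := (hc g 0 0 fun x => (D.colour_eq f ht hf h0 x).symm).2 a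
      rw [show g • a = ⟨1, hm⟩ from hg] at this
      simp [a, Fin.ext_iff] at this
    · refine (D.DL_vec f ht hf (c 0) (d := 1) (fun x => ?_) (b := 0)
        (fun g hg x => (hc g 0 0 hg).2 x)).of_le (by norm_num)
      have hs : ∀ k, stabilizer (stabilizer G a) (f k) ≤ stabilizer (stabilizer G a) w := by
        intro k g hg
        fin_cases k
        · exact hg
        · have h1 : g • (-w) = -w := hg
          rw [smul_neg, neg_inj] at h1
          exact h1
      exact hw.mono (hs _) le_rfl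
  push Not at hsys
  obtain ⟨p, hp, hexp⟩ := exists_exponent hirr
  have hp2 : p ≠ 2 := by
    rintro rfl
    obtain ⟨x, hx⟩ := exists_ne (0 : V)
    have : addOrderOf x = 2 := by
      haveI := Fact.mk hp
      exact addOrderOf_eq_prime (hexp x) hx
    exact Nat.not_even_iff_odd.2 hV (even_iff_two_dvd.2 (this ▸ addOrderOf_dvd_natCard _))
  let ρ : G →* (AddMonoid.End V)ˣ := (DistribMulAction.toAddMonoidEnd G V).toHomUnits
  haveI : Group.IsSolvable ρ.range :=
    Group.isSolvable_of_surjective (f := ρ.rangeRestrict) ρ.rangeRestrict_surjective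
  have hact : ∀ (g : G) (x : V), (ρ.rangeRestrict g) • x = g • x := fun g x => rfl
  have hprim : IsPrim p ρ.range := by
    refine ⟨hp, hexp, ⟨hirr.1, fun U hU => hirr.2 U fun g u hu => ?_⟩, fun n hn => ⟨fun D => ?_⟩,
      inferInstance⟩
    · rw [← hact]; exact hU _ u hu
    · refine (hsys n hn).false ⟨D.W, D.ne_bot, D.decomp, fun g i => ?_⟩
      obtain ⟨j, hj⟩ := D.perm (ρ.rangeRestrict g) i
      exact ⟨j, fun w hw => by rw [← hact]; exact hj w hw⟩
  obtain ⟨w, hw0, hw⟩ := abelian_stab_primitive V ρ.range hprim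
    (hG.of_dvd_nat (Subgroup.card_range_dvd ρ)) hp2
  refine ⟨w, hw0, fun g hg x => ?_⟩
  rw [← hact]
  have hgm : ρ.rangeRestrict g ∈ (dser (stabilizer G w) 1).map ρ.rangeRestrict := ⟨g, hg, rfl⟩
  rw [map_dser] at hgm
  refine hw _ (dser_mono ?_ 1 hgm) x
  rintro _ ⟨k, hk, rfl⟩
  exact (hact k w).trans hk

theorem exists_DL_one {G : Type v} [Group G] [Finite G] [Group.IsSolvable G] {V : Type u}
    [AddCommGroup V] [DistribMulAction G V] [Finite V] (hcr : CompRed G V) (hG : Odd (Nat.card G))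
    (hV : Odd (Nat.card V)) : ∃ w : V, DL V (stabilizer G w) 1 :=
  exists_DL_of_irred hcr 1 fun U hU =>
    letI := subAction U hU
    fun hirr => (abelian_stab_irred _ U G rfl hirr hG
      (hV.of_dvd_nat (AddSubgroup.card_addSubgroup_dvd_card _))).imp fun w hw => hw.2

end CfsgLib.RegOrbit
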